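import Cfsg.Agent.Lib.SuzRank3.CheckASets
import Cfsg.Agent.Lib.SuzRank3.CheckATable
import Cfsg.Agent.Lib.SuzRank3.CheckASearch

/-!
# The checks of the first case
-/

set_option autoImplicit false

namespace CfsgLib.SuzR3

theorem caseA_ok : Ok caseA where
  pts := caseA_pts
  imgs := caseA_imgs
  tws := caseA_tws
  table := caseA_table
  tests := caseA_tests
  aut b hb := by
    rcases (show b = 0 ∨ b = 1 ∨ b = 2 by omega) with rfl | rfl | rfl
    exacts [caseA_aut0, caseA_aut1, caseA_aut2]
  surv := caseA_surv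
  reps := caseA_reps
  cent := caseA_cent
  fix b hb := by
    rcases (show b = 0 ∨ b = 1 ∨ b = 2 ∨ b = 3 by omega) with rfl | rfl | rfl | rfl
    exacts [caseA_fix0, caseA_fix1, caseA_fix2, caseA_fix3]
  fixed := caseA_fixed
  x := caseA_x

end CfsgLib.SuzR3
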