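import Cfsg.Agent.Lib.SuzRank3.DataB

/-!
# Kernel checks of case B
-/

set_option autoImplicit false
set_option maxRecDepth 100000
set_option maxHeartbeats 0

namespace CfsgLib.SuzR3

theorem caseB_cent : caseB.centOk = true := by decide +kernel

theorem caseB_fix0 : caseB.fixRows 0 256 = true := by decide +kernel

theorem caseB_fix1 : caseB.fixRows 256 256 = true := by decide +kernel

theorem caseB_fix2 : caseB.fixRows 512 256 = true := by decide +kernel

theorem caseB_fix3 : caseB.fixRows 768 256 = true := by decide +kernel

theorem caseB_fixed : caseB.fixed.all caseB.fixedOk = true := by decide +kernel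

theorem caseB_x : caseB.xOk = true := by decide +kernel

end CfsgLib.SuzR3
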