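import Cfsg.Agent.Lib.SuzRank3.DataB

/-!
# Kernel checks of case B
-/

set_option autoImplicit false
set_option maxRecDepth 100000
set_option maxHeartbeats 0

namespace CfsgLib.SuzR3

theorem caseB_table : caseB.tableOk = true := by decide +kernel

theorem caseB_tests : caseB.testsOk = true := by decide +kernel

theorem caseB_surv : caseB.survOk = true := by decide +kernel

theorem caseB_reps : caseB.repsOk = true := by decide +kernel

theorem caseB_aut0 : caseB.autRows 0 60 = true := by decide +kernel

theorem caseB_aut1 : caseB.autRows 60 60 = true := by decide +kernel

theorem caseB_aut2 : caseB.autRows 120 60 = true := by decide +kernel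

end CfsgLib.SuzR3
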