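import Cfsg.Agent.Lib.SuzRank3.CheckBSets
import Cfsg.Agent.Lib.SuzRank3.CheckBTable
import Cfsg.Agent.Lib.SuzRank3.CheckBSearch

/-!
# The checks of the second case
-/

set_option autoImplicit false

namespace CfsgLib.SuzR3

theorem caseB_ok : Ok caseB where
  pts := caseB_pts
  imgs := caseB_imgs
  tws := caseB_tws
  table := caseB_table
  tests := caseB_tests
  aut b hb := by
    rcases (show b = 0 ∨ b = 1 ∨ b = 2 by omega) with rfl | rfl | rfl
    exacts [caseB_aut0, caseB_aut1, caseB_aut2]
  surv := caseB_surv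
  reps := caseB_reps
  cent := caseB_cent
  fix b hb := by
    rcases (show b = 0 ∨ b = 1 ∨ b = 2 ∨ b = 3 by omega) with rfl | rfl | rfl | rfl
    exacts [caseB_fix0, caseB_fix1, caseB_fix2, caseB_fix3]
  fixed := caseB_fixed
  x := caseB_x

end CfsgLib.SuzR3
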