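import Cfsg.Agent.Lib.SuzRank3.Model

/-!
# Consequences of the checks of a case
-/

set_option autoImplicit false
set_option maxRecDepth 100000

namespace CfsgLib.SuzR3

open CfsgLib.PresCert CfsgLib.Suz

variable {C : Case} (hC : Ok C)

/-- The element of an index. -/
noncomputable def Case.el (C : Case) (i : ℕ) : subH := hEl (C.lw i)

/-- The stabiliser of the triangle. -/
noncomputable def Case.triStab (C : Case) : Subgroup subH := setStab C.pts ⊓ setStab C.pts2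

include hC

theorem Ok.pts_spec : (∀ x ∈ C.pts, x < 1782) ∧ C.pts.Nodup ∧ C.pts2.Nodup ∧
    (∀ g ∈ C.bw, g < 6) ∧ (∀ g ∈ C.w1, g < 6) ∧ (∀ g ∈ C.w2, g < 6) ∧ (∀ g ∈ C.xw, g < 6) ∧
    keeps C.pts C.w1 = true ∧ keeps C.pts C.w2 = true ∧ keeps C.pts C.xw = true ∧
    keeps C.pts2 C.w1 = true ∧ keeps C.pts2 C.w2 = true ∧ keeps C.pts2 C.xw = false ∧
    same (C.bw ++ C.bw) [] = true ∧ same (C.bw ++ C.w1 ++ C.bw) (C.lw C.bp.1) = true ∧
    same (C.bw ++ C.w2 ++ C.bw) (C.lw C.bp.2) = true ∧ C.bp.1 < 180 ∧ C.bp.2 < 180 := by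
  have h := hC.pts
  simp only [Case.ptsOk, Bool.and_eq_true, List.all_eq_true, decide_eq_true_eq, Nat.blt_eq,
    Bool.not_eq_true'] at h
  obtain ⟨⟨⟨⟨⟨⟨⟨⟨⟨⟨⟨⟨⟨⟨⟨⟨⟨a1, a2⟩, a3⟩, a4⟩, a5⟩, a6⟩, a7⟩, a8⟩, a9⟩, a10⟩, a11⟩, a12⟩, a13⟩, a14⟩,
    a15⟩, a16⟩, a17⟩, a18⟩ := h
  exact ⟨a1, a2, a3, ltSix_spec a4, ltSix_spec a5, ltSix_spec a6, ltSix_spec a7, a8, a9, a10, a11,
    a12, a13, a14, a15, a16, a17, a18⟩

theorem Ok.pts2_lt : ∀ x ∈ C.pts2, x < 1782 := by
  obtain ⟨h1, -, -, hb, -⟩ := hC.pts_spec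
  intro x hx
  obtain ⟨y, hy, rfl⟩ := List.mem_map.1 hx
  rw [← hPerm_apply hb ⟨y, h1 y hy⟩]
  exact Fin.isLt _

theorem Ok.move_bw : move (hEl C.bw) (ptSet C.pts) = ptSet C.pts2 :=
  move_word hC.pts_spec.1 hC.pts_spec.2.2.2.1

theorem Ok.bw_sq : hEl C.bw * hEl C.bw = 1 := by
  obtain ⟨-, -, -, hb, -, -, -, -, -, -, -, -, -, h, -⟩ := hC.pts_spec
  rw [← hEl_append, same_eq (fun g hg => (List.mem_append.1 hg).elim (hb g) (hb g))
    (by simp) h, hEl_nil]

theorem Ok.mem_stab2 {k : subH} :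
    k ∈ setStab C.pts2 ↔ (hEl C.bw)⁻¹ * k * hEl C.bw ∈ setStab C.pts := by
  rw [mem_setStab, mem_setStab, ← hC.move_bw, mul_assoc, move_mul, move_mul]
  constructor
  · intro h; rw [h, ← move_mul, inv_mul_cancel, move_one]
  · intro h
    conv_rhs => rw [← h]
    rw [← move_mul (hEl C.bw) (hEl C.bw)⁻¹, mul_inv_cancel, move_one]

theorem Ok.stab_le : Nat.card (setStab C.pts) * 1365 ≤ 251596800 := by
  obtain ⟨h1, h2, -⟩ := hC.pts_spec
  have h := hC.imgs
  simp only [Case.imgsOk, Bool.and_eq_true, List.all_eq_true, Nat.beq_eq] at h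
  obtain ⟨⟨hlt, hlen⟩, hinc⟩ := h
  let k : Fin 1365 → subH := fun i => hEl (C.imgs.getD i [])
  have hc : ∀ i : Fin 1365, setCode (move (k i) (ptSet C.pts)) =
      (C.imgs.map fun w => ptsCode C.pts w).getD i 0 := by
    intro i
    have hi : (i : ℕ) < C.imgs.length := by rw [hlen]; exact i.isLt
    rw [setCode_move h1 h2 (ltSix_spec (hlt _ (by
      rw [List.getD_eq_getElem _ _ hi]; exact List.getElem_mem hi))),
      List.getD_eq_getElem (C.imgs.map fun w => ptsCode C.pts w) _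
        (by rw [List.length_map]; exact hi), List.getElem_map, List.getD_eq_getElem _ _ hi]
  let F : Fin 1365 × setStab C.pts → subH := fun p => k p.1 * p.2
  have hF : Function.Injective F := by
    rintro ⟨i, p⟩ ⟨j, q⟩ e
    have e2 := congrArg (fun z => move z (ptSet C.pts)) e
    simp only [F, move_mul, mem_setStab.1 p.2, mem_setStab.1 q.2] at e2
    have e3 := congrArg setCode e2
    rw [hc, hc] at e3
    have hij : i = j := by
      refine Fin.ext ?_
      rcases lt_trichotomy (i : ℕ) j with hl | hl | hl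
      · exact absurd e3 (incr_nth hinc _ _ hl (by rw [List.length_map, hlen]; exact j.isLt)).ne
      · exact hl
      · exact absurd e3.symm
          (incr_nth hinc _ _ hl (by rw [List.length_map, hlen]; exact i.isLt)).ne
    subst hij
    exact Prod.ext rfl (Subtype.ext (mul_left_cancel e))
  have := Nat.card_le_card_of_injective F hF
  rw [Nat.card_prod, Nat.card_fin, card_subH] at this
  omega

theorem Ok.tws_spec {i : ℕ} (hi : i < 1024) :
    (∀ g ∈ C.tws.getD i [], g < 6) ∧ hEl (C.tws.getD i []) ∈ setStab C.pts ∧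
      setCode (move (hEl (C.tws.getD i [])) (ptSet C.pts2)) =
        ptsCode C.pts2 (C.tws.getD i []) := by
  have h := hC.tws
  simp only [Case.twsOk, Bool.and_eq_true, List.all_eq_true, Nat.beq_eq] at h
  obtain ⟨⟨hlt, hlen⟩, -⟩ := h
  have hm : C.tws.getD i [] ∈ C.tws := by
    rw [List.getD_eq_getElem _ _ (hlen ▸ hi)]; exact List.getElem_mem _
  obtain ⟨a, b⟩ := hlt _ hm
  exact ⟨ltSix_spec a, keeps_mem (ltSix_spec a) b,
    setCode_move hC.pts2_lt hC.pts_spec.2.2.1 (ltSix_spec a)⟩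

theorem Ok.tws_inj {i j : ℕ} (hi : i < 1024) (hj : j < 1024)
    (h : move (hEl (C.tws.getD i [])) (ptSet C.pts2) =
      move (hEl (C.tws.getD j [])) (ptSet C.pts2)) : i = j := by
  have h' := congrArg setCode h
  rw [(hC.tws_spec hi).2.2, (hC.tws_spec hj).2.2] at h'
  have ht := hC.tws
  simp only [Case.twsOk, Bool.and_eq_true, List.all_eq_true, Nat.beq_eq] at ht
  obtain ⟨⟨-, hlen⟩, hinc⟩ := ht
  have hm : ∀ n, n < 1024 → (C.tws.map fun w => ptsCode C.pts2 w).getD n 0 =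
      ptsCode C.pts2 (C.tws.getD n []) := fun n hn => by
    rw [List.getD_eq_getElem _ _ (by rw [List.length_map, hlen]; exact hn), List.getElem_map,
      List.getD_eq_getElem _ _ (by rw [hlen]; exact hn)]
  rw [← hm i hi, ← hm j hj] at h'
  rcases lt_trichotomy i j with hl | hl | hl
  · exact absurd h' (incr_nth hinc _ _ hl (by rw [List.length_map, hlen]; exact hj)).ne
  · exact hl
  · exact absurd h'.symm (incr_nth hinc _ _ hl (by rw [List.length_map, hlen]; exact hi)).ne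

/-! ### The table -/

theorem Ok.row {i : ℕ} (hi : i < 180) : (∀ g ∈ C.lw i, g < 6) ∧ (∀ k ∈ C.ew i, k < 2) ∧
    C.rwalk 0 (C.ew i) = i ∧ C.step i 0 < 180 ∧ C.step i 1 < 180 ∧
    same (C.lw i ++ C.w1) (C.lw (C.step i 0)) = true ∧
    same (C.lw i ++ C.w2) (C.lw (C.step i 1)) = true ∧ keyOf (C.lw i) = C.keys.getD i 0 := by
  have h := hC.table
  simp only [Case.tableOk, Bool.and_eq_true, List.all_eq_true, List.mem_range] at h
  have hr := h.1.1.1 i hi
  simp only [Case.rowOk, Bool.and_eq_true, List.all_eq_true, Nat.blt_eq, Nat.beq_eq] at hr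
  obtain ⟨⟨⟨⟨⟨⟨⟨a, b⟩, c⟩, d⟩, e⟩, f⟩, g⟩, k⟩ := hr
  exact ⟨ltSix_spec a, b, c, d, e, f, g, k⟩

theorem Ok.el_zero : C.el 0 = 1 := by
  have h := hC.table
  simp only [Case.tableOk, Bool.and_eq_true, decide_eq_true_eq] at h
  rw [Case.el, h.1.1.2, hEl_nil]

theorem Ok.el_inj {i j : ℕ} (hi : i < 180) (hj : j < 180) (h : C.el i = C.el j) : i = j := by
  have hk := keyOf_eq (hC.row hi).1 (hC.row hj).1 h
  rw [(hC.row hi).2.2.2.2.2.2.2, (hC.row hj).2.2.2.2.2.2.2] at hk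
  have ht := hC.table
  simp only [Case.tableOk, Bool.and_eq_true, List.all_eq_true, List.mem_range,
    Bool.not_eq_true'] at ht
  rcases lt_trichotomy i j with hl | hl | hl
  · have := ht.2 j hj i hl
    rw [hk] at this
    simp at this
  · exact hl
  · have := ht.2 i hi j hl
    rw [hk] at this
    simp at this

theorem Ok.w1_lt : ∀ g ∈ C.w1, g < 6 := hC.pts_spec.2.2.2.2.1

theorem Ok.w2_lt : ∀ g ∈ C.w2, g < 6 := hC.pts_spec.2.2.2.2.2.1

theorem Ok.el_step {i : ℕ} (hi : i < 180) :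
    C.el (C.step i 0) = hEl C.w1 * C.el i ∧ C.el (C.step i 1) = hEl C.w2 * C.el i := by
  obtain ⟨a, -, -, d, e, f, g, -⟩ := hC.row hi
  refine ⟨?_, ?_⟩
  · rw [Case.el, Case.el, ← hEl_append]
    exact (same_eq (fun x hx => (List.mem_append.1 hx).elim (a x) (hC.w1_lt x)) (hC.row d).1 f).symm
  · rw [Case.el, Case.el, ← hEl_append]
    exact (same_eq (fun x hx => (List.mem_append.1 hx).elim (a x) (hC.w2_lt x)) (hC.row e).1 g).symm

theorem Ok.i1_lt : C.i1 < 180 := (hC.row (by norm_num : 0 < 180)).2.2.2.1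

theorem Ok.i2_lt : C.i2 < 180 := (hC.row (by norm_num : 0 < 180)).2.2.2.2.1

theorem Ok.el_i : C.el C.i1 = hEl C.w1 ∧ C.el C.i2 = hEl C.w2 := by
  obtain ⟨a, b⟩ := hC.el_step (by norm_num : 0 < 180)
  rw [hC.el_zero, mul_one] at a b
  exact ⟨a, b⟩

/-- The two generators by letter. -/
noncomputable def _root_.CfsgLib.SuzR3.Case.lg (C : Case) (k : ℕ) : subH :=
  if k = 0 then hEl C.w1 else hEl C.w2

theorem Ok.step_any {i k : ℕ} (hi : i < 180) :
    C.step i k < 180 ∧ C.el (C.step i k) = C.lg k * C.el i := by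
  obtain ⟨-, -, -, d, e, -⟩ := hC.row hi
  obtain ⟨a, b⟩ := hC.el_step hi
  by_cases hk : k = 0
  · subst hk; exact ⟨d, by rw [Case.lg, if_pos rfl]; exact a⟩
  · have e1 : C.step i k = C.step i 1 := by
      simp [Case.step, hk]
    rw [e1]
    exact ⟨e, by rw [Case.lg, if_neg hk]; exact b⟩

theorem Ok.el_rwalk : ∀ (u : List ℕ) {i : ℕ}, i < 180 →
    C.rwalk i u < 180 ∧ C.el (C.rwalk i u) = act C.lg u * C.el i
  | [], i, hi => ⟨hi, by rw [act_nil, one_mul]; rfl⟩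
  | k :: u, i, hi => by
    obtain ⟨h1, h2⟩ := hC.step_any (k := k) hi
    obtain ⟨h3, h4⟩ := Ok.el_rwalk u h1
    exact ⟨h3, by rw [Case.rwalk, h4, h2, act_cons, mul_assoc]⟩

theorem Ok.el_ew {i : ℕ} (hi : i < 180) : act C.lg (C.ew i) = C.el i := by
  have h := (hC.el_rwalk (C.ew i) (by norm_num : 0 < 180)).2
  rw [(hC.row hi).2.2.1, hC.el_zero, mul_one] at h
  exact h.symm

theorem Ok.el_cat {i j : ℕ} (hi : i < 180) (hj : j < 180) :
    C.cat i j < 180 ∧ C.el (C.cat i j) = C.el j * C.el i := by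
  obtain ⟨h1, h2⟩ := hC.el_rwalk (C.ew j) hi
  exact ⟨h1, by rw [Case.cat, h2, hC.el_ew hj]⟩

theorem Ok.el_mem {i : ℕ} (hi : i < 180) : C.el i ∈ C.triStab := by
  obtain ⟨-, -, -, -, hw1, hw2, -, k1, k2, -, k4, k5, -⟩ := hC.pts_spec
  rw [← hC.el_ew hi]
  refine act_mem_of (fun k => ?_) _
  rw [Case.lg]
  split
  · exact ⟨keeps_mem hw1 k1, keeps_mem hw1 k4⟩
  · exact ⟨keeps_mem hw2 k2, keeps_mem hw2 k5⟩

section

variable (hP : Nat.card (setStab C.pts) = 184320)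

include hP

theorem Ok.decomp : (∀ x ∈ C.triStab, ∃ i < 180, x = C.el i) ∧
    ∀ p ∈ setStab C.pts, ∃ t < 1024, ∃ i < 180, p = hEl (C.tws.getD t []) * C.el i := by
  let F : Fin 1024 × C.triStab → setStab C.pts := fun p =>
    ⟨hEl (C.tws.getD p.1 []) * p.2, mul_mem (hC.tws_spec p.1.isLt).2.1 p.2.2.1⟩
  have hF : Function.Injective F := by
    rintro ⟨i, p⟩ ⟨j, q⟩ e
    have e1 : hEl (C.tws.getD i []) * p.1 = hEl (C.tws.getD j []) * q.1 := congrArg Subtype.val e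
    have e2 := congrArg (fun z => move z (ptSet C.pts2)) e1
    simp only [move_mul, mem_setStab.1 p.2.2, mem_setStab.1 q.2.2] at e2
    have hij : i = j := Fin.ext (hC.tws_inj i.isLt j.isLt e2)
    subst hij
    exact Prod.ext rfl (Subtype.ext (mul_left_cancel e1))
  let G : Fin 180 → C.triStab := fun i => ⟨C.el i, hC.el_mem i.isLt⟩
  have hG : Function.Injective G := fun i j e =>
    Fin.ext (hC.el_inj i.isLt j.isLt (congrArg Subtype.val e))
  have h1 := Nat.card_le_card_of_injective F hF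
  have h2 := Nat.card_le_card_of_injective G hG
  rw [Nat.card_prod, Nat.card_fin, hP] at h1
  rw [Nat.card_fin] at h2
  have hL : Nat.card C.triStab = 180 := by omega
  have hGb : Function.Bijective G := (Nat.bijective_iff_injective_and_card _).2
    ⟨hG, by rw [Nat.card_fin, hL]⟩
  have hFb : Function.Bijective F := (Nat.bijective_iff_injective_and_card _).2
    ⟨hF, by rw [Nat.card_prod, Nat.card_fin, hL, hP]⟩
  have hL' : ∀ x ∈ C.triStab, ∃ i < 180, x = C.el i := fun x hx => by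
    obtain ⟨i, hi⟩ := hGb.2 ⟨x, hx⟩
    exact ⟨i, i.isLt, (congrArg Subtype.val hi).symm⟩
  refine ⟨hL', fun p hp => ?_⟩
  obtain ⟨⟨t, l⟩, h⟩ := hFb.2 ⟨p, hp⟩
  obtain ⟨i, hi, e⟩ := hL' l.1 l.2
  have h' : hEl (C.tws.getD (t : ℕ) []) * (l : subH) = p := congrArg Subtype.val h
  exact ⟨t, t.isLt, i, hi, by rw [← h', e]⟩

end

end CfsgLib.SuzR3
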