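import Cfsg.Agent.Lib.SuzRank3.DataA

/-!
# Kernel checks of case A
-/

set_option autoImplicit false
set_option maxRecDepth 100000
set_option maxHeartbeats 0

namespace CfsgLib.SuzR3

theorem caseA_pts : caseA.ptsOk = true := by decide +kernel

theorem caseA_imgs : caseA.imgsOk = true := by decide +kernel

theorem caseA_tws : caseA.twsOk = true := by decide +kernel

end CfsgLib.SuzR3
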