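import Cfsg.Agent.Lib.SuzRank3.DataB

/-!
# Kernel checks of case B
-/

set_option autoImplicit false
set_option maxRecDepth 100000
set_option maxHeartbeats 0

namespace CfsgLib.SuzR3

theorem caseB_pts : caseB.ptsOk = true := by decide +kernel

theorem caseB_imgs : caseB.imgsOk = true := by decide +kernel

theorem caseB_tws : caseB.twsOk = true := by decide +kernel

end CfsgLib.SuzR3
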