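import Cfsg.Agent.Lib.SuzRank3.Tools

/-!
# Data of case B (generated)
-/

set_option autoImplicit false
set_option maxRecDepth 100000

namespace CfsgLib.SuzR3

/-- Words. -/
def caseBLws0 : List (List ℕ) :=
  [[],
   [3, 2, 3, 5],
   [3, 2, 3, 5, 1, 2, 5, 0, 1, 5, 0, 1, 0],
   [1, 2, 5, 0, 1, 5, 0, 1, 0],
   [1, 2, 5, 0, 1, 5, 0, 1, 0, 3, 2, 3, 5, 1, 2, 5, 1],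
   [1, 2, 5, 1, 3, 2, 3, 5, 0, 1, 0, 5, 1, 0, 1, 3, 2, 3, 5],
   [1, 2, 5, 0, 1, 5, 0, 1, 0, 3, 2, 3, 5],
   [0, 1, 0, 5, 1, 0, 2, 5, 1, 3, 2, 3, 5, 1, 2, 5, 1, 3, 2, 3, 5],
   [3, 2, 3, 5, 0, 1, 0, 5, 1, 0, 2, 5, 1],
   [1, 2, 5, 1, 3, 2, 3, 5, 0, 1, 0, 5, 1, 0, 1],
   [1, 2, 5, 1, 3, 2, 3, 5, 0, 1, 0, 5, 1, 0, 2, 5, 0, 1, 5, 0, 1, 0],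
   [0, 1, 0, 5, 1, 0, 2, 5, 1],
   [0, 1, 0, 5, 1, 0, 2, 5, 1, 3, 2, 3, 5, 1, 2, 5, 1],
   [0, 1, 0, 5, 1, 0, 2, 5, 1, 3, 2, 3, 5, 1, 0, 1, 5, 0, 1, 0],
   [1, 2, 5, 1, 3, 2, 3, 5, 0, 1, 0, 5, 1, 0, 2, 5, 1],
   [1, 2, 5, 1, 3, 2, 3, 5],
   [1, 2, 5, 0, 1, 5, 0, 1, 0, 3, 2, 3, 5, 1, 2, 5, 1, 0, 1, 0, 5, 1, 0, 2, 5, 1],
   [1, 2, 5, 1, 3, 2, 3, 5, 0, 1, 0, 5, 1, 0, 2, 5, 0, 1, 5, 0, 1, 0, 3, 2, 3, 5],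
   [1, 2, 5, 1, 3, 2, 3, 5, 1, 0, 1, 5, 0, 1, 0, 1, 2, 5, 1, 3, 2, 3, 5, 1, 2, 5, 1, 3, 2, 3, 5],
   [0, 1, 0, 5, 1, 0, 2, 5, 1, 3, 2, 3, 5],
   [3, 2, 3, 5, 1, 2, 5, 1, 3, 2, 3, 5],
   [1, 2, 5, 0, 1, 5, 0, 1, 0, 3, 2, 3, 5, 0, 1, 0, 5, 1, 0, 2, 5, 1],
   [0, 1, 0, 5, 1, 0, 2, 5, 1, 3, 2, 3, 5, 1, 0, 1, 5, 0, 1, 0, 3, 2, 3, 5],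
   [0, 1, 0, 5, 1, 0, 2, 5, 1, 3, 2, 3, 5, 1, 0, 1, 5, 0, 1, 0, 3, 2, 3, 5, 1, 2, 5, 0, 1, 5, 0, 1,
   0],
   [1, 2, 5, 1],
   [1, 0, 1, 5, 0, 1, 0],
   [1, 2, 5, 0, 1, 5, 0, 1, 0, 3, 2, 3, 5, 1, 2, 5, 1, 0, 1, 0, 5, 1, 0, 2, 5, 1, 3, 2, 3, 5],
   [3, 2, 3, 5, 1, 2, 5, 0, 1, 5, 0, 1, 0, 1, 2, 5, 1, 3, 2, 3, 5],
   [1, 2, 5, 1, 3, 2, 3, 5, 1, 0, 1, 5, 0, 1, 0, 1, 2, 5, 1],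
   [1, 2, 5, 1, 3, 2, 3, 5, 1, 0, 1, 5, 0, 1, 0, 1, 2, 5, 1, 3, 2, 3, 5, 1, 2, 5, 1],
   [1, 0, 1, 5, 0, 1, 0, 1, 2, 5, 1, 3, 2, 3, 5, 1, 0, 1, 5, 0, 1, 0, 1, 2, 5, 1, 3, 2, 3, 5],
   [3, 2, 3, 5, 1, 2, 5, 1],
   [3, 2, 3, 5, 1, 0, 1, 5, 0, 1, 0],
   [1, 2, 5, 0, 1, 5, 0, 1, 0, 3, 2, 3, 5, 0, 1, 0, 5, 1, 0, 2, 5, 1, 3, 2, 3, 5],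
   [1, 2, 5, 0, 1, 5, 0, 1, 0, 1, 2, 5, 1, 3, 2, 3, 5],
   [3, 2, 3, 5, 1, 2, 5, 1, 3, 2, 3, 5, 1, 0, 1, 5, 0, 1, 0, 1, 2, 5, 1],
   [1, 0, 1, 5, 0, 1, 0, 1, 2, 5, 1, 3, 2, 3, 5, 0, 1, 0, 5, 1, 0, 2, 5, 0, 1, 5, 0, 1, 0],
   [1, 0, 1, 5, 0, 1, 0, 1, 2, 5, 1, 3, 2, 3, 5, 1, 0, 1, 5, 0, 1, 0, 1, 2, 5, 1],
   [1, 2, 5, 1, 3, 2, 3, 5, 1, 2, 5, 0, 1, 5, 0, 1, 0],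
   [1, 0, 1, 5, 0, 1, 0, 3, 2, 3, 5],
   [1, 0, 1, 5, 0, 1, 0, 3, 2, 3, 5, 1, 2, 5, 0, 1, 5, 0, 1, 0],
   [3, 2, 3, 5, 1, 2, 5, 0, 1, 5, 0, 1, 0, 1, 2, 5, 1],
   [3, 2, 3, 5, 1, 2, 5, 1, 0, 1, 0, 5, 1, 0, 1],
   [1, 2, 5, 1, 3, 2, 3, 5, 1, 0, 1, 5, 0, 1, 0, 1, 2, 5, 1, 3, 2, 3, 5],
   [1, 2, 5, 1, 3, 2, 3, 5, 0, 1, 0, 5, 1, 0, 1, 3, 2, 3, 5, 1, 2, 5, 1, 3, 2, 3, 5],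
   [1, 0, 1, 5, 0, 1, 0, 1, 2, 5, 1, 3, 2, 3, 5, 1, 0, 1, 5, 0, 1, 0, 3, 2, 3, 5],
   [1, 0, 1, 5, 0, 1, 0, 1, 2, 5, 1, 3, 2, 3, 5, 0, 1, 0, 5, 1, 0, 1],
   [3, 2, 3, 5, 1, 2, 5, 1, 3, 2, 3, 5, 1, 2, 5, 0, 1, 5, 0, 1, 0],
   [3, 2, 3, 5, 1, 0, 1, 5, 0, 1, 0, 3, 2, 3, 5],
   [3, 2, 3, 5, 1, 0, 1, 5, 0, 1, 0, 3, 2, 3, 5, 1, 2, 5, 0, 1, 5, 0, 1, 0],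
   [1, 2, 5, 0, 1, 5, 0, 1, 0, 1, 2, 5, 1],
   [1, 2, 5, 1, 0, 1, 0, 5, 1, 0, 1],
   [3, 2, 3, 5, 1, 2, 5, 1, 3, 2, 3, 5, 1, 0, 1, 5, 0, 1, 0, 1, 2, 5, 1, 3, 2, 3, 5],
   [0, 1, 0, 5, 1, 0, 1, 3, 2, 3, 5, 1, 2, 5, 1, 3, 2, 3, 5, 1, 2, 5, 1],
   [1, 2, 5, 0, 1, 5, 0, 1, 0, 1, 2, 5, 1, 3, 2, 3, 5, 1, 0, 1, 5, 0, 1, 0, 1, 2, 5, 1],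
   [3, 2, 3, 5, 1, 0, 1, 5, 0, 1, 0, 1, 2, 5, 1, 3, 2, 3, 5, 0, 1, 0, 5, 1, 0, 1],
   [1, 0, 1, 5, 0, 1, 0, 3, 2, 3, 5, 1, 2, 5, 1],
   [3, 2, 3, 5, 0, 1, 0, 5, 1, 0, 1, 3, 2, 3, 5],
   [1, 2, 5, 1, 0, 1, 0, 5, 1, 0, 2, 5, 1],
   [1, 2, 5, 1, 0, 1, 0, 5, 1, 0, 2, 5, 1, 3, 2, 3, 5, 1, 2, 5, 1],
   [1, 2, 5, 1, 0, 1, 0, 5, 1, 0, 2, 5, 1, 3, 2, 3, 5, 1, 0, 1, 5, 0, 1, 0],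
   [3, 2, 3, 5, 1, 2, 5, 1, 0, 1, 0, 5, 1, 0, 1, 3, 2, 3, 5, 1, 2, 5, 1, 3, 2, 3, 5],
   [3, 2, 3, 5, 1, 2, 5, 1, 0, 1, 0, 5, 1, 0, 1, 3, 2, 3, 5],
   [3, 2, 3, 5, 1, 2, 5, 1, 0, 1, 0, 5, 1, 0, 1, 3, 2, 3, 5, 1, 2, 5, 0, 1, 5, 0, 1, 0]]

/-- Words. -/
def caseBLws1 : List (List ℕ) :=
  [[1, 2, 5, 1, 3, 2, 3, 5, 0, 1, 0, 5, 1, 0, 1, 3, 2, 3, 5, 1, 2, 5, 1],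
   [1, 2, 5, 0, 1, 5, 0, 1, 0, 3, 2, 3, 5, 0, 1, 0, 5, 1, 0, 1],
   [1, 0, 1, 5, 0, 1, 0, 1, 2, 5, 1, 3, 2, 3, 5, 1, 0, 1, 5, 0, 1, 0],
   [0, 1, 0, 5, 1, 0, 1, 3, 2, 3, 5, 1, 2, 5, 1, 3, 2, 3, 5, 1, 0, 1, 5, 0, 1, 0, 1, 2, 5, 1],
   [1, 2, 5, 1, 3, 2, 3, 5, 1, 2, 5, 1, 3, 2, 3, 5, 1, 0, 1, 5, 0, 1, 0, 1, 2, 5, 1],
   [3, 2, 3, 5, 1, 0, 1, 5, 0, 1, 0, 3, 2, 3, 5, 1, 2, 5, 1],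
   [0, 1, 0, 5, 1, 0, 1, 3, 2, 3, 5],
   [3, 2, 3, 5, 1, 2, 5, 1, 0, 1, 0, 5, 1, 0, 2, 5, 1],
   [3, 2, 3, 5, 1, 2, 5, 1, 0, 1, 0, 5, 1, 0, 2, 5, 1, 3, 2, 3, 5, 1, 2, 5, 1],
   [1, 2, 5, 1, 0, 1, 0, 5, 1, 0, 2, 5, 1, 3, 2, 3, 5, 1, 0, 1, 5, 0, 1, 0, 1, 2, 5, 1],
   [1, 2, 5, 1, 0, 1, 0, 5, 1, 0, 1, 3, 2, 3, 5, 1, 2, 5, 1, 3, 2, 3, 5],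
   [1, 2, 5, 1, 0, 1, 0, 5, 1, 0, 1, 3, 2, 3, 5],
   [1, 2, 5, 1, 0, 1, 0, 5, 1, 0, 1, 3, 2, 3, 5, 1, 2, 5, 0, 1, 5, 0, 1, 0],
   [0, 1, 0, 5, 1, 0, 2, 5, 1, 3, 2, 3, 5, 1, 2, 5, 1, 3, 2, 3, 5, 1, 2, 5, 1],
   [1, 2, 5, 0, 1, 5, 0, 1, 0, 3, 2, 3, 5, 1, 2, 5, 1, 0, 1, 0, 5, 1, 0, 1],
   [3, 2, 3, 5, 1, 0, 1, 5, 0, 1, 0, 1, 2, 5, 1, 3, 2, 3, 5, 1, 0, 1, 5, 0, 1, 0],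
   [0, 1, 0, 5, 1, 0, 2, 5, 1, 3, 2, 3, 5, 1, 0, 1, 5, 0, 1, 0, 1, 2, 5, 1, 3, 2, 3, 5],
   [1, 2, 5, 1, 0, 1, 0, 5, 1, 0, 2, 5, 1, 3, 2, 3, 5, 0, 1, 0, 5, 1, 0, 1],
   [3, 2, 3, 5, 0, 1, 0, 5, 1, 0, 1],
   [3, 2, 3, 5, 0, 1, 0, 5, 1, 0, 2, 5, 0, 1, 5, 0, 1, 0],
   [1, 2, 5, 1, 0, 1, 0, 5, 1, 0, 2, 5, 1, 3, 2, 3, 5],
   [1, 2, 5, 1, 3, 2, 3, 5, 1, 2, 5, 1, 3, 2, 3, 5],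
   [1, 0, 1, 5, 0, 1, 0, 3, 2, 3, 5, 0, 1, 0, 5, 1, 0, 2, 5, 1],
   [3, 2, 3, 5, 1, 2, 5, 1, 0, 1, 0, 5, 1, 0, 1, 3, 2, 3, 5, 1, 2, 5, 1],
   [3, 2, 3, 5, 1, 2, 5, 1, 0, 1, 0, 5, 1, 0, 1, 3, 2, 3, 5, 1, 0, 1, 5, 0, 1, 0],
   [3, 2, 3, 5, 0, 1, 0, 5, 1, 0, 2, 5, 0, 1, 5, 0, 1, 0, 1, 2, 5, 1],
   [1, 2, 5, 0, 1, 5, 0, 1, 0, 1, 2, 5, 1, 3, 2, 3, 5, 1, 2, 5, 1, 0, 1, 0, 5, 1, 0, 1],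
   [1, 2, 5, 1, 3, 2, 3, 5, 1, 2, 5, 1, 3, 2, 3, 5, 1, 0, 1, 5, 0, 1, 0, 1, 2, 5, 1, 3, 2, 3, 5],
   [1, 2, 5, 1, 0, 1, 0, 5, 1, 0, 1, 3, 2, 3, 5, 1, 0, 1, 5, 0, 1, 0, 1, 2, 5, 1, 3, 2, 3, 5],
   [1, 2, 5, 1, 0, 1, 0, 5, 1, 0, 1, 3, 2, 3, 5, 1, 0, 1, 5, 0, 1, 0],
   [1, 2, 5, 1, 0, 1, 0, 5, 1, 0, 1, 3, 2, 3, 5, 1, 2, 5, 1, 0, 1, 0, 5, 1, 0, 2, 5, 1],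
   [1, 2, 5, 1, 3, 2, 3, 5, 0, 1, 0, 5, 1, 0, 2, 5, 0, 1, 5, 0, 1, 0, 1, 2, 5, 1],
   [1, 2, 5, 1, 3, 2, 3, 5, 1, 2, 5, 0, 1, 5, 0, 1, 0, 1, 2, 5, 1],
   [1, 2, 5, 1, 0, 1, 0, 5, 1, 0, 1, 3, 2, 3, 5, 1, 2, 5, 1, 3, 2, 3, 5, 1, 2, 5, 1],
   [0, 1, 0, 5, 1, 0, 1],
   [0, 1, 0, 5, 1, 0, 2, 5, 0, 1, 5, 0, 1, 0],
   [3, 2, 3, 5, 1, 2, 5, 1, 0, 1, 0, 5, 1, 0, 2, 5, 1, 3, 2, 3, 5],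
   [1, 2, 5, 1, 3, 2, 3, 5, 1, 2, 5, 1, 3, 2, 3, 5, 1, 2, 5, 1],
   [0, 1, 0, 5, 1, 0, 1, 3, 2, 3, 5, 1, 0, 1, 5, 0, 1, 0, 1, 2, 5, 1],
   [1, 2, 5, 1, 0, 1, 0, 5, 1, 0, 1, 3, 2, 3, 5, 1, 2, 5, 1],
   [0, 1, 0, 5, 1, 0, 2, 5, 0, 1, 5, 0, 1, 0, 1, 2, 5, 1],
   [0, 1, 0, 5, 1, 0, 2, 5, 0, 1, 5, 0, 1, 0, 1, 2, 5, 1, 3, 2, 3, 5, 1, 2, 5, 1],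
   [1, 2, 5, 1, 0, 1, 0, 5, 1, 0, 2, 5, 1, 3, 2, 3, 5, 0, 1, 0, 5, 1, 0, 1, 3, 2, 3, 5],
   [0, 1, 0, 5, 1, 0, 1, 3, 2, 3, 5, 1, 2, 5, 1, 3, 2, 3, 5, 1, 0, 1, 5, 0, 1, 0],
   [0, 1, 0, 5, 1, 0, 1, 3, 2, 3, 5, 1, 2, 5, 1, 0, 1, 0, 5, 1, 0, 1, 3, 2, 3, 5],
   [0, 1, 0, 5, 1, 0, 2, 5, 1, 3, 2, 3, 5, 1, 0, 1, 5, 0, 1, 0, 1, 2, 5, 1],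
   [0, 1, 0, 5, 1, 0, 2, 5, 1, 3, 2, 3, 5, 0, 1, 0, 5, 1, 0, 1],
   [3, 2, 3, 5, 1, 2, 5, 1, 0, 1, 0, 5, 1, 0, 1, 3, 2, 3, 5, 1, 2, 5, 1, 3, 2, 3, 5, 1, 2, 5, 1],
   [1, 0, 1, 5, 0, 1, 0, 3, 2, 3, 5, 1, 2, 5, 1, 0, 1, 0, 5, 1, 0, 2, 5, 1],
   [3, 2, 3, 5, 0, 1, 0, 5, 1, 0, 2, 5, 0, 1, 5, 0, 1, 0, 3, 2, 3, 5],
   [3, 2, 3, 5, 1, 0, 1, 5, 0, 1, 0, 1, 2, 5, 1, 3, 2, 3, 5, 1, 2, 5, 1, 3, 2, 3, 5],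
   [1, 2, 5, 1, 3, 2, 3, 5, 1, 2, 5, 1],
   [1, 2, 5, 1, 3, 2, 3, 5, 1, 0, 1, 5, 0, 1, 0],
   [1, 0, 1, 5, 0, 1, 0, 1, 2, 5, 1, 3, 2, 3, 5, 0, 1, 0, 5, 1, 0, 2, 5, 1],
   [1, 0, 1, 5, 0, 1, 0, 1, 2, 5, 1, 3, 2, 3, 5],
   [0, 1, 0, 5, 1, 0, 1, 3, 2, 3, 5, 1, 2, 5, 1, 0, 1, 0, 5, 1, 0, 2, 5, 1, 3, 2, 3, 5],
   [3, 2, 3, 5, 0, 1, 0, 5, 1, 0, 2, 5, 0, 1, 5, 0, 1, 0, 1, 2, 5, 1, 3, 2, 3, 5],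
   [1, 2, 5, 0, 1, 5, 0, 1, 0, 1, 2, 5, 1, 3, 2, 3, 5, 1, 2, 5, 1],
   [1, 2, 5, 1, 3, 2, 3, 5, 1, 2, 5, 1, 3, 2, 3, 5, 1, 0, 1, 5, 0, 1, 0, 3, 2, 3, 5],
   [1, 2, 5, 1, 0, 1, 0, 5, 1, 0, 1, 3, 2, 3, 5, 1, 0, 1, 5, 0, 1, 0, 1, 2, 5, 1],
   [1, 2, 5, 1, 3, 2, 3, 5, 1, 0, 1, 5, 0, 1, 0, 3, 2, 3, 5],
   [1, 2, 5, 0, 1, 5, 0, 1, 0, 3, 2, 3, 5, 0, 1, 0, 5, 1, 0, 2, 5, 0, 1, 5, 0, 1, 0],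
   [3, 2, 3, 5, 0, 1, 0, 5, 1, 0, 1, 3, 2, 3, 5, 1, 2, 5, 1, 0, 1, 0, 5, 1, 0, 1],
   [1, 0, 1, 5, 0, 1, 0, 3, 2, 3, 5, 1, 2, 5, 0, 1, 5, 0, 1, 0, 1, 2, 5, 1]]

/-- Words. -/
def caseBLws2 : List (List ℕ) :=
  [[1, 0, 1, 5, 0, 1, 0, 1, 2, 5, 1, 3, 2, 3, 5, 1, 2, 5, 1],
   [1, 2, 5, 1, 3, 2, 3, 5, 1, 2, 5, 0, 1, 5, 0, 1, 0, 1, 2, 5, 1, 3, 2, 3, 5],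
   [0, 1, 0, 5, 1, 0, 2, 5, 0, 1, 5, 0, 1, 0, 3, 2, 3, 5, 1, 2, 5, 1, 0, 1, 0, 5, 1, 0, 1],
   [1, 0, 1, 5, 0, 1, 0, 3, 2, 3, 5, 1, 2, 5, 1, 0, 1, 0, 5, 1, 0, 1],
   [0, 1, 0, 5, 1, 0, 1, 3, 2, 3, 5, 1, 2, 5, 0, 1, 5, 0, 1, 0],
   [0, 1, 0, 5, 1, 0, 2, 5, 0, 1, 5, 0, 1, 0, 3, 2, 3, 5],
   [1, 0, 1, 5, 0, 1, 0, 1, 2, 5, 1, 3, 2, 3, 5, 1, 2, 5, 1, 3, 2, 3, 5],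
   [3, 2, 3, 5, 1, 2, 5, 1, 3, 2, 3, 5, 1, 2, 5, 1],
   [3, 2, 3, 5, 1, 2, 5, 1, 3, 2, 3, 5, 1, 0, 1, 5, 0, 1, 0],
   [0, 1, 0, 5, 1, 0, 1, 3, 2, 3, 5, 1, 0, 1, 5, 0, 1, 0, 1, 2, 5, 1, 3, 2, 3, 5],
   [3, 2, 3, 5, 1, 0, 1, 5, 0, 1, 0, 1, 2, 5, 1, 3, 2, 3, 5],
   [0, 1, 0, 5, 1, 0, 2, 5, 0, 1, 5, 0, 1, 0, 1, 2, 5, 1, 3, 2, 3, 5],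
   [1, 2, 5, 0, 1, 5, 0, 1, 0, 1, 2, 5, 1, 3, 2, 3, 5, 1, 2, 5, 1, 3, 2, 3, 5],
   [1, 2, 5, 1, 3, 2, 3, 5, 1, 0, 1, 5, 0, 1, 0, 3, 2, 3, 5, 1, 2, 5, 1],
   [0, 1, 0, 5, 1, 0, 1, 3, 2, 3, 5, 1, 2, 5, 1, 3, 2, 3, 5, 1, 0, 1, 5, 0, 1, 0, 3, 2, 3, 5],
   [3, 2, 3, 5, 1, 2, 5, 1, 3, 2, 3, 5, 1, 0, 1, 5, 0, 1, 0, 3, 2, 3, 5],
   [0, 1, 0, 5, 1, 0, 1, 3, 2, 3, 5, 1, 2, 5, 1, 0, 1, 0, 5, 1, 0, 1],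
   [3, 2, 3, 5, 1, 0, 1, 5, 0, 1, 0, 3, 2, 3, 5, 1, 2, 5, 0, 1, 5, 0, 1, 0, 1, 2, 5, 1],
   [3, 2, 3, 5, 1, 0, 1, 5, 0, 1, 0, 1, 2, 5, 1, 3, 2, 3, 5, 1, 2, 5, 1],
   [0, 1, 0, 5, 1, 0, 2, 5, 1, 3, 2, 3, 5, 0, 1, 0, 5, 1, 0, 1, 3, 2, 3, 5],
   [0, 1, 0, 5, 1, 0, 2, 5, 0, 1, 5, 0, 1, 0, 3, 2, 3, 5, 1, 2, 5, 1, 0, 1, 0, 5, 1, 0, 2, 5, 1],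
   [0, 1, 0, 5, 1, 0, 1, 3, 2, 3, 5, 1, 2, 5, 0, 1, 5, 0, 1, 0, 1, 2, 5, 1],
   [3, 2, 3, 5, 0, 1, 0, 5, 1, 0, 2, 5, 0, 1, 5, 0, 1, 0, 3, 2, 3, 5, 1, 2, 5, 1],
   [3, 2, 3, 5, 1, 0, 1, 5, 0, 1, 0, 1, 2, 5, 1],
   [1, 2, 5, 1, 3, 2, 3, 5, 1, 2, 5, 1, 3, 2, 3, 5, 1, 2, 5, 0, 1, 5, 0, 1, 0],
   [3, 2, 3, 5, 1, 2, 5, 1, 3, 2, 3, 5, 1, 2, 5, 1, 0, 1, 0, 5, 1, 0, 1, 3, 2, 3, 5],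
   [1, 0, 1, 5, 0, 1, 0, 1, 2, 5, 1],
   [0, 1, 0, 5, 1, 0, 1, 3, 2, 3, 5, 1, 2, 5, 1, 0, 1, 0, 5, 1, 0, 2, 5, 1],
   [0, 1, 0, 5, 1, 0, 1, 3, 2, 3, 5, 1, 2, 5, 1],
   [3, 2, 3, 5, 1, 2, 5, 0, 1, 5, 0, 1, 0, 1, 2, 5, 1, 3, 2, 3, 5, 1, 0, 1, 5, 0, 1, 0],
   [1, 2, 5, 1, 3, 2, 3, 5, 1, 2, 5, 1, 3, 2, 3, 5, 1, 0, 1, 5, 0, 1, 0],
   [1, 2, 5, 1, 3, 2, 3, 5, 1, 2, 5, 1, 0, 1, 0, 5, 1, 0, 2, 5, 1],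
   [1, 0, 1, 5, 0, 1, 0, 3, 2, 3, 5, 0, 1, 0, 5, 1, 0, 2, 5, 0, 1, 5, 0, 1, 0],
   [3, 2, 3, 5, 0, 1, 0, 5, 1, 0, 1, 3, 2, 3, 5, 1, 2, 5, 1],
   [0, 1, 0, 5, 1, 0, 2, 5, 0, 1, 5, 0, 1, 0, 3, 2, 3, 5, 0, 1, 0, 5, 1, 0, 2, 5, 1],
   [1, 2, 5, 1, 3, 2, 3, 5, 1, 2, 5, 1, 0, 1, 0, 5, 1, 0, 1],
   [1, 2, 5, 1, 3, 2, 3, 5, 1, 2, 5, 1, 0, 1, 0, 5, 1, 0, 1, 3, 2, 3, 5, 1, 2, 5, 1],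
   [1, 0, 1, 5, 0, 1, 0, 3, 2, 3, 5, 1, 2, 5, 1, 0, 1, 0, 5, 1, 0, 1, 3, 2, 3, 5],
   [0, 1, 0, 5, 1, 0, 1, 3, 2, 3, 5, 1, 2, 5, 1, 0, 1, 0, 5, 1, 0, 1, 3, 2, 3, 5, 1, 2, 5, 1],
   [0, 1, 0, 5, 1, 0, 2, 5, 0, 1, 5, 0, 1, 0, 3, 2, 3, 5, 1, 2, 5, 1],
   [1, 2, 5, 1, 3, 2, 3, 5, 1, 2, 5, 1, 0, 1, 0, 5, 1, 0, 1, 3, 2, 3, 5],
   [1, 2, 5, 0, 1, 5, 0, 1, 0, 1, 2, 5, 1, 3, 2, 3, 5, 1, 0, 1, 5, 0, 1, 0],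
   [1, 2, 5, 1, 3, 2, 3, 5, 1, 2, 5, 1, 0, 1, 0, 5, 1, 0, 2, 5, 1, 3, 2, 3, 5],
   [0, 1, 0, 5, 1, 0, 2, 5, 0, 1, 5, 0, 1, 0, 3, 2, 3, 5, 0, 1, 0, 5, 1, 0, 1],
   [3, 2, 3, 5, 1, 2, 5, 1, 3, 2, 3, 5, 1, 2, 5, 1, 0, 1, 0, 5, 1, 0, 1],
   [3, 2, 3, 5, 1, 2, 5, 1, 3, 2, 3, 5, 1, 2, 5, 1, 0, 1, 0, 5, 1, 0, 1, 3, 2, 3, 5, 1, 2, 5, 1],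
   [0, 1, 0, 5, 1, 0, 1, 3, 2, 3, 5, 1, 2, 5, 0, 1, 5, 0, 1, 0, 1, 2, 5, 1, 3, 2, 3, 5],
   [1, 2, 5, 1, 0, 1, 0, 5, 1, 0, 1, 3, 2, 3, 5, 1, 2, 5, 1, 0, 1, 0, 5, 1, 0, 1],
   [3, 2, 3, 5, 0, 1, 0, 5, 1, 0, 1, 3, 2, 3, 5, 1, 2, 5, 1, 3, 2, 3, 5],
   [0, 1, 0, 5, 1, 0, 1, 3, 2, 3, 5, 1, 2, 5, 1, 3, 2, 3, 5],
   [1, 0, 1, 5, 0, 1, 0, 3, 2, 3, 5, 0, 1, 0, 5, 1, 0, 1],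
   [0, 1, 0, 5, 1, 0, 1, 3, 2, 3, 5, 1, 0, 1, 5, 0, 1, 0]]

/-- Words. -/
def caseBLws : List (List ℕ) :=
  caseBLws0 ++
  caseBLws1 ++
  caseBLws2

/-- Words. -/
def caseBEws0 : List (List ℕ) :=
  [[],
   [0],
   [1],
   [0, 1],
   [1, 0],
   [1, 1],
   [0, 1, 0],
   [0, 1, 1],
   [1, 0, 1],
   [1, 1, 0],
   [1, 1, 1],
   [0, 1, 0, 1],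
   [0, 1, 1, 0],
   [0, 1, 1, 1],
   [1, 0, 1, 0],
   [1, 0, 1, 1],
   [1, 1, 0, 1],
   [1, 1, 1, 0],
   [1, 1, 1, 1],
   [0, 1, 0, 1, 0],
   [0, 1, 0, 1, 1],
   [0, 1, 1, 0, 1],
   [0, 1, 1, 1, 0],
   [0, 1, 1, 1, 1],
   [1, 0, 1, 1, 0],
   [1, 0, 1, 1, 1],
   [1, 1, 0, 1, 0],
   [1, 1, 0, 1, 1],
   [1, 1, 1, 0, 1],
   [1, 1, 1, 1, 0],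
   [1, 1, 1, 1, 1],
   [0, 1, 0, 1, 1, 0],
   [0, 1, 0, 1, 1, 1],
   [0, 1, 1, 0, 1, 0],
   [0, 1, 1, 0, 1, 1],
   [0, 1, 1, 1, 0, 1],
   [0, 1, 1, 1, 1, 0],
   [0, 1, 1, 1, 1, 1],
   [1, 0, 1, 1, 0, 1],
   [1, 0, 1, 1, 1, 0],
   [1, 0, 1, 1, 1, 1],
   [1, 1, 0, 1, 1, 0],
   [1, 1, 0, 1, 1, 1],
   [1, 1, 1, 0, 1, 0],
   [1, 1, 1, 0, 1, 1],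
   [1, 1, 1, 1, 0, 1],
   [1, 1, 1, 1, 1, 1],
   [0, 1, 0, 1, 1, 0, 1],
   [0, 1, 0, 1, 1, 1, 0],
   [0, 1, 0, 1, 1, 1, 1],
   [0, 1, 1, 0, 1, 1, 0],
   [0, 1, 1, 0, 1, 1, 1],
   [0, 1, 1, 1, 0, 1, 0],
   [0, 1, 1, 1, 0, 1, 1],
   [0, 1, 1, 1, 1, 0, 1],
   [0, 1, 1, 1, 1, 1, 1],
   [1, 0, 1, 1, 0, 1, 0],
   [1, 0, 1, 1, 0, 1, 1],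
   [1, 0, 1, 1, 1, 0, 1],
   [1, 0, 1, 1, 1, 1, 0],
   [1, 0, 1, 1, 1, 1, 1],
   [1, 1, 0, 1, 1, 0, 1],
   [1, 1, 0, 1, 1, 1, 0],
   [1, 1, 0, 1, 1, 1, 1]]

/-- Words. -/
def caseBEws1 : List (List ℕ) :=
  [[1, 1, 1, 0, 1, 1, 0],
   [1, 1, 1, 0, 1, 1, 1],
   [1, 1, 1, 1, 0, 1, 0],
   [1, 1, 1, 1, 0, 1, 1],
   [1, 1, 1, 1, 1, 1, 1],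
   [0, 1, 0, 1, 1, 0, 1, 0],
   [0, 1, 0, 1, 1, 0, 1, 1],
   [0, 1, 0, 1, 1, 1, 0, 1],
   [0, 1, 0, 1, 1, 1, 1, 0],
   [0, 1, 0, 1, 1, 1, 1, 1],
   [0, 1, 1, 0, 1, 1, 0, 1],
   [0, 1, 1, 0, 1, 1, 1, 0],
   [0, 1, 1, 0, 1, 1, 1, 1],
   [0, 1, 1, 1, 0, 1, 1, 0],
   [0, 1, 1, 1, 0, 1, 1, 1],
   [0, 1, 1, 1, 1, 0, 1, 0],
   [0, 1, 1, 1, 1, 0, 1, 1],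
   [0, 1, 1, 1, 1, 1, 1, 1],
   [1, 0, 1, 1, 0, 1, 1, 0],
   [1, 0, 1, 1, 0, 1, 1, 1],
   [1, 0, 1, 1, 1, 0, 1, 0],
   [1, 0, 1, 1, 1, 0, 1, 1],
   [1, 0, 1, 1, 1, 1, 0, 1],
   [1, 1, 0, 1, 1, 0, 1, 0],
   [1, 1, 0, 1, 1, 0, 1, 1],
   [1, 1, 0, 1, 1, 1, 0, 1],
   [1, 1, 0, 1, 1, 1, 1, 0],
   [1, 1, 0, 1, 1, 1, 1, 1],
   [1, 1, 1, 0, 1, 1, 0, 1],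
   [1, 1, 1, 0, 1, 1, 1, 0],
   [1, 1, 1, 0, 1, 1, 1, 1],
   [1, 1, 1, 1, 0, 1, 1, 0],
   [1, 1, 1, 1, 0, 1, 1, 1],
   [1, 1, 1, 1, 1, 1, 1, 1],
   [0, 1, 0, 1, 1, 0, 1, 1, 0],
   [0, 1, 0, 1, 1, 0, 1, 1, 1],
   [0, 1, 0, 1, 1, 1, 0, 1, 0],
   [0, 1, 0, 1, 1, 1, 0, 1, 1],
   [0, 1, 0, 1, 1, 1, 1, 0, 1],
   [0, 1, 1, 0, 1, 1, 0, 1, 0],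
   [0, 1, 1, 0, 1, 1, 1, 0, 1],
   [0, 1, 1, 0, 1, 1, 1, 1, 0],
   [0, 1, 1, 0, 1, 1, 1, 1, 1],
   [0, 1, 1, 1, 0, 1, 1, 0, 1],
   [0, 1, 1, 1, 0, 1, 1, 1, 1],
   [0, 1, 1, 1, 1, 0, 1, 1, 0],
   [0, 1, 1, 1, 1, 0, 1, 1, 1],
   [0, 1, 1, 1, 1, 1, 1, 1, 1],
   [1, 0, 1, 1, 0, 1, 1, 0, 1],
   [1, 0, 1, 1, 0, 1, 1, 1, 0],
   [1, 0, 1, 1, 0, 1, 1, 1, 1],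
   [1, 0, 1, 1, 1, 0, 1, 1, 0],
   [1, 0, 1, 1, 1, 0, 1, 1, 1],
   [1, 0, 1, 1, 1, 1, 0, 1, 0],
   [1, 0, 1, 1, 1, 1, 0, 1, 1],
   [1, 1, 0, 1, 1, 0, 1, 1, 1],
   [1, 1, 0, 1, 1, 1, 0, 1, 0],
   [1, 1, 0, 1, 1, 1, 0, 1, 1],
   [1, 1, 0, 1, 1, 1, 1, 0, 1],
   [1, 1, 1, 0, 1, 1, 0, 1, 0],
   [1, 1, 1, 0, 1, 1, 0, 1, 1],
   [1, 1, 1, 0, 1, 1, 1, 0, 1],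
   [1, 1, 1, 0, 1, 1, 1, 1, 0],
   [1, 1, 1, 0, 1, 1, 1, 1, 1]]

/-- Words. -/
def caseBEws2 : List (List ℕ) :=
  [[1, 1, 1, 1, 0, 1, 1, 0, 1],
   [1, 1, 1, 1, 0, 1, 1, 1, 0],
   [1, 1, 1, 1, 0, 1, 1, 1, 1],
   [1, 1, 1, 1, 1, 1, 1, 1, 1],
   [0, 1, 0, 1, 1, 0, 1, 1, 0, 1],
   [0, 1, 0, 1, 1, 0, 1, 1, 1, 0],
   [0, 1, 0, 1, 1, 0, 1, 1, 1, 1],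
   [0, 1, 0, 1, 1, 1, 0, 1, 1, 0],
   [0, 1, 0, 1, 1, 1, 0, 1, 1, 1],
   [0, 1, 0, 1, 1, 1, 1, 0, 1, 0],
   [0, 1, 0, 1, 1, 1, 1, 0, 1, 1],
   [0, 1, 1, 0, 1, 1, 1, 0, 1, 0],
   [0, 1, 1, 0, 1, 1, 1, 0, 1, 1],
   [0, 1, 1, 0, 1, 1, 1, 1, 0, 1],
   [0, 1, 1, 1, 0, 1, 1, 0, 1, 0],
   [0, 1, 1, 1, 0, 1, 1, 0, 1, 1],
   [0, 1, 1, 1, 0, 1, 1, 1, 1, 0],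
   [0, 1, 1, 1, 0, 1, 1, 1, 1, 1],
   [0, 1, 1, 1, 1, 0, 1, 1, 0, 1],
   [0, 1, 1, 1, 1, 0, 1, 1, 1, 0],
   [0, 1, 1, 1, 1, 0, 1, 1, 1, 1],
   [0, 1, 1, 1, 1, 1, 1, 1, 1, 1],
   [1, 0, 1, 1, 0, 1, 1, 0, 1, 0],
   [1, 0, 1, 1, 0, 1, 1, 1, 0, 1],
   [1, 0, 1, 1, 1, 0, 1, 1, 0, 1],
   [1, 0, 1, 1, 1, 0, 1, 1, 1, 1],
   [1, 0, 1, 1, 1, 1, 0, 1, 1, 0],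
   [1, 1, 0, 1, 1, 0, 1, 1, 1, 0],
   [1, 1, 0, 1, 1, 0, 1, 1, 1, 1],
   [1, 1, 0, 1, 1, 1, 0, 1, 1, 1],
   [1, 1, 0, 1, 1, 1, 1, 0, 1, 0],
   [1, 1, 1, 0, 1, 1, 0, 1, 1, 1],
   [1, 1, 1, 0, 1, 1, 1, 0, 1, 0],
   [1, 1, 1, 0, 1, 1, 1, 0, 1, 1],
   [1, 1, 1, 1, 0, 1, 1, 0, 1, 1],
   [1, 1, 1, 1, 0, 1, 1, 1, 0, 1],
   [1, 1, 1, 1, 0, 1, 1, 1, 1, 0],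
   [1, 1, 1, 1, 0, 1, 1, 1, 1, 1],
   [1, 1, 1, 1, 1, 1, 1, 1, 1, 1],
   [0, 1, 0, 1, 1, 0, 1, 1, 0, 1, 0],
   [0, 1, 0, 1, 1, 1, 0, 1, 1, 1, 1],
   [0, 1, 1, 0, 1, 1, 1, 0, 1, 1, 1],
   [0, 1, 1, 1, 0, 1, 1, 0, 1, 1, 1],
   [0, 1, 1, 1, 1, 0, 1, 1, 0, 1, 1],
   [0, 1, 1, 1, 1, 0, 1, 1, 1, 0, 1],
   [0, 1, 1, 1, 1, 0, 1, 1, 1, 1, 0],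
   [0, 1, 1, 1, 1, 0, 1, 1, 1, 1, 1],
   [0, 1, 1, 1, 1, 1, 1, 1, 1, 1, 1],
   [1, 0, 1, 1, 0, 1, 1, 1, 0, 1, 1],
   [1, 0, 1, 1, 1, 1, 0, 1, 1, 0, 1],
   [1, 0, 1, 1, 0, 1, 1, 1, 0, 1, 1, 1],
   [1, 0, 1, 1, 1, 1, 0, 1, 1, 0, 1, 1]]

/-- Words. -/
def caseBEws : List (List ℕ) :=
  caseBEws0 ++
  caseBEws1 ++
  caseBEws2

/-- Words. -/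
def caseBImgs0 : List (List ℕ) :=
  [[1, 2, 3, 2, 1],
   [1, 2, 3, 2, 1, 3],
   [1, 2, 3, 2, 1, 4],
   [1, 2, 3, 2],
   [1, 2, 3, 2, 1, 3, 2],
   [1, 0, 3, 2, 1, 3, 5],
   [1, 3, 2],
   [3],
   [1, 2, 3, 2, 1, 3, 4],
   [1, 2, 3, 2, 3],
   [1, 2, 3, 2, 1, 4, 3],
   [1, 2, 3, 2, 4],
   [1, 0, 1, 3, 2],
   [1, 2, 3],
   [1, 0, 3, 2, 1, 5],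
   [1, 0, 1, 3, 2, 1, 5],
   [1, 3, 2, 3, 2, 1, 0],
   [1, 3, 2, 3],
   [1, 0, 3, 2, 1, 0, 1],
   [1, 0, 3, 2, 1, 0, 3, 5],
   [1, 2, 3, 2, 1, 3, 2, 4],
   [1, 0, 3, 2, 1, 0, 3],
   [1, 0, 3, 2, 1, 0, 5],
   [1, 0, 3, 2, 1, 0],
   [1, 0, 3, 2, 1, 3],
   [1, 3, 2, 3, 2, 1],
   [1, 0, 1, 3, 2, 1, 0, 5],
   [1, 0, 3, 2, 1, 3, 4, 5],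
   [1, 3, 2, 4],
   [1, 0, 1, 3, 2, 1, 0],
   [1, 3, 2, 3, 2, 1, 5],
   [1, 0, 3, 2, 1],
   [1, 0, 3, 2],
   [1, 3, 2, 3, 2, 1, 0, 5, 1],
   [1, 3],
   [3, 4],
   [],
   [1, 2, 3, 2, 1, 3, 4, 3],
   [1, 2, 3, 2, 3, 4],
   [1, 3, 2, 3, 2],
   [1, 0, 3, 2, 3],
   [1, 0, 1, 3, 2, 1, 0, 5, 1],
   [1, 2, 3, 2, 1, 4, 3, 2],
   [1, 2, 3, 2, 4, 3],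
   [1, 0, 1, 3, 2, 4],
   [1, 2, 3, 4],
   [1, 0, 1, 3, 2, 1],
   [1, 3, 2, 3, 2, 1, 0, 5],
   [1, 0, 1, 3],
   [1, 2],
   [1, 0, 3, 2, 1, 4, 5],
   [1, 0, 1, 3, 2, 1, 4, 5],
   [1, 3, 2, 3, 2, 1, 0, 4],
   [1, 3, 2, 3, 4],
   [1, 0, 3, 2, 1, 0, 1, 4],
   [1, 0, 3, 2, 1, 0, 3, 4, 5],
   [1, 2, 3, 2, 1, 3, 2, 4, 3],
   [1, 0, 3, 2, 1, 0, 3, 4],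
   [1, 0, 3, 2, 1, 0, 4, 5],
   [1, 0, 3, 2, 1, 0, 4],
   [1, 0, 3, 2, 1, 3, 4],
   [1, 3, 2, 3, 2, 1, 4],
   [1, 0, 1, 3, 2, 1, 0, 4, 5],
   [1, 0, 3, 2, 1, 3, 4, 3, 5]]

/-- Words. -/
def caseBImgs1 : List (List ℕ) :=
  [[1, 3, 2, 4, 3],
   [1, 0, 1, 3, 2, 1, 0, 4],
   [1, 3, 2, 3, 2, 1, 4, 5],
   [1, 0, 3, 2, 1, 4],
   [1, 0, 3, 2, 4],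
   [1, 3, 2, 3, 2, 1, 0, 4, 5, 1],
   [1, 3, 4],
   [1, 0, 3],
   [1, 3, 2, 3, 2, 1, 0, 5, 1, 2],
   [1],
   [1, 2, 3, 2, 1, 3, 4, 3, 2],
   [1, 2, 3, 2, 3, 4, 3],
   [1, 3, 2, 3, 2, 4],
   [1, 0, 3, 2, 3, 4],
   [1, 0, 1, 3, 2, 1, 0, 4, 5, 1],
   [1, 2, 3, 2, 1, 4, 3, 2, 3],
   [1, 2, 3, 2, 1, 4, 3, 2, 1],
   [1, 0, 1, 3, 2, 4, 3],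
   [1, 2, 3, 2, 4, 3, 2],
   [1, 0, 1, 3, 2, 1, 4],
   [1, 3, 2, 3, 2, 1, 0, 4, 5],
   [1, 0, 1, 3, 4],
   [1, 0, 1],
   [1, 0, 3, 2, 1, 4, 3, 5],
   [1, 0, 1, 3, 2, 1, 4, 3, 5],
   [1, 3, 2, 3, 2, 1, 0, 4, 3],
   [1, 3, 2, 3, 4, 3],
   [1, 0, 3, 2, 1, 0, 1, 4, 3],
   [1, 0, 3, 2, 1, 0, 3, 4, 3, 5],
   [1, 2, 3, 2, 1, 3, 2, 4, 3, 2],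
   [1, 0, 3, 2, 1, 0, 3, 4, 3],
   [1, 0, 3, 2, 1, 0, 4, 3, 5],
   [1, 0, 3, 2, 1, 0, 4, 3],
   [1, 0, 3, 2, 1, 3, 4, 3],
   [1, 3, 2, 3, 2, 1, 4, 3],
   [1, 0, 1, 3, 2, 1, 0, 4, 3, 5],
   [1, 0, 1, 3, 2, 1, 0, 4, 3],
   [1, 3, 2, 3, 2, 1, 4, 3, 5],
   [1, 0, 3, 2, 1, 3, 4, 3, 2, 5],
   [1, 0, 3, 2, 1, 4, 3],
   [1, 0, 3, 2, 4, 3],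
   [1, 3, 2, 3, 2, 1, 0, 4, 3, 5, 1],
   [1, 3, 2, 4, 3, 2],
   [1, 0, 3, 4],
   [1, 3, 2, 3, 2, 1, 0, 4, 5, 1, 2],
   [1, 0],
   [1, 3, 2, 3, 2, 1, 0, 5, 1, 2, 3],
   [1, 2, 3, 2, 1, 3, 4, 3, 2, 3],
   [1, 2, 3, 2, 1, 3, 4, 3, 2, 1],
   [1, 3, 2, 3, 2, 4, 3],
   [1, 2, 3, 2, 3, 4, 3, 2],
   [1, 0, 3, 2, 3, 4, 3],
   [1, 0, 1, 3, 2, 1, 0, 4, 3, 5, 1],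
   [1, 2, 3, 2, 1, 3, 2, 4, 3, 2, 3],
   [1, 2, 3, 2, 1, 4, 3, 2, 1, 5],
   [1, 2, 3, 2, 1, 4, 3, 2, 3, 4],
   [1, 2, 3, 2, 1, 4, 3, 2, 1, 3],
   [1, 2, 3, 2, 1, 4, 3, 2, 1, 0],
   [1, 2, 3, 2, 4, 3, 2, 1],
   [1, 0, 1, 3, 2, 1, 4, 3],
   [1, 3, 2, 3, 2, 1, 0, 4, 3, 5],
   [1, 0, 1, 3, 2, 4, 3, 2],
   [1, 0, 3, 2, 1, 4, 3, 2, 5],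
   [1, 0, 1, 3, 2, 1, 4, 3, 2, 5]]

/-- Words. -/
def caseBImgs2 : List (List ℕ) :=
  [[1, 3, 2, 3, 2, 1, 0, 4, 3, 2],
   [1, 3, 2, 3, 4, 3, 2],
   [1, 0, 3, 2, 1, 0, 1, 4, 3, 2],
   [1, 0, 3, 2, 1, 0, 3, 4, 3, 2, 5],
   [1, 2, 3, 2, 1, 3, 2, 4, 3, 2, 1],
   [1, 0, 3, 2, 1, 0, 3, 4, 3, 2],
   [1, 0, 3, 2, 1, 0, 4, 3, 2, 5],
   [1, 0, 3, 2, 1, 0, 4, 3, 2],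
   [1, 2, 3, 2, 1, 3, 2, 4, 3, 2, 1, 5],
   [1, 2, 3, 2, 1, 3, 2, 4, 3, 2, 1, 0],
   [1, 0, 3, 2, 1, 0, 3, 4, 3, 2, 1],
   [1, 0, 3, 2, 1, 3, 4, 3, 2],
   [1, 0, 3, 2, 1, 0, 4, 3, 2, 5, 1],
   [1, 3, 2, 3, 2, 1, 4, 3, 2],
   [1, 0, 1, 3, 2, 1, 0, 4, 3, 2, 5],
   [1, 0, 1, 3, 2, 1, 4, 3, 2, 1],
   [1, 0, 1, 3, 2, 1, 4, 3, 2, 1, 5],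
   [1, 0, 1, 3, 2, 4, 3, 2, 1, 0, 5],
   [1, 3, 2, 3, 4, 3, 2, 1, 0, 3, 2, 3, 4],
   [1, 0, 1, 3, 2, 1, 4, 3, 2, 1, 0],
   [1, 3, 2, 4, 3, 2, 1],
   [1, 0, 1, 3, 2, 1, 0, 4, 3, 2],
   [1, 3, 2, 3, 2, 1, 4, 3, 2, 5],
   [1, 0, 3, 2, 1, 3, 4, 3, 2, 5, 1],
   [1, 0, 3, 2, 1, 3, 4, 3, 2, 3, 5],
   [1, 0, 3, 2, 1, 4, 3, 2],
   [1, 0, 3, 2, 4, 3, 2],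
   [1, 3, 2, 3, 2, 1, 0, 4, 3, 5, 1, 2],
   [1, 2, 3, 2, 1, 3, 4, 3, 2, 1, 5],
   [1, 2, 3, 2, 1, 3, 4, 3, 2, 3, 4],
   [1, 2, 3, 2, 1, 3, 4, 3, 2, 1, 3],
   [1, 2, 3, 2, 1, 3, 4, 3, 2, 1, 0],
   [1, 2, 3, 2, 3, 4, 3, 2, 1],
   [1, 3, 2, 3, 2, 4, 3, 2],
   [1, 2, 3, 2, 3, 4, 3, 2, 3],
   [1, 0, 3, 2, 3, 4, 3, 2],
   [1, 0, 1, 3, 2, 1, 0, 4, 3, 5, 1, 2],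
   [1, 2, 3, 2, 1, 4, 3, 2, 1, 0, 5, 1],
   [1, 2, 3, 2, 1, 3, 2, 4, 3, 2, 3, 4],
   [1, 2, 3, 2, 1, 3, 2, 4, 3, 2, 1, 3],
   [1, 2, 3, 2, 1, 4, 3, 2, 1, 3, 5],
   [1, 2, 3, 2, 1, 4, 3, 2, 1, 0, 5],
   [1, 2, 3, 2, 4, 3, 2, 1, 5],
   [1, 2, 3, 2, 1, 4, 3, 2, 1, 3, 2, 3],
   [1, 2, 3, 2, 1, 4, 3, 2, 1, 3, 4],
   [1, 2, 3, 2, 1, 4, 3, 2, 1, 0, 3],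
   [1, 2, 3, 2, 1, 4, 3, 2, 1, 3, 2],
   [1, 2, 3, 2, 1, 4, 3, 2, 1, 0, 1],
   [1, 2, 3, 2, 4, 3, 2, 1, 0],
   [1, 2, 3, 2, 1, 4, 3, 2, 1, 0, 5, 1, 0],
   [1, 0, 1, 3, 2, 4, 3, 2, 1],
   [1, 0, 1, 3, 2, 1, 4, 3, 2, 1, 3, 2],
   [1, 0, 1, 3, 2, 1, 4, 3, 2],
   [1, 3, 2, 3, 2, 1, 0, 4, 3, 2, 5],
   [1, 3, 2, 3, 2, 4, 3, 2, 1, 3, 2, 3, 5, 1],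
   [1, 2, 3, 2, 1, 4, 3, 2, 1, 3, 2, 5],
   [1, 3, 2, 3, 2, 1, 4, 3, 2, 1, 0, 1, 3, 2, 4, 3],
   [1, 0, 3, 2, 3, 4, 3, 2, 1, 3, 2, 5, 1],
   [1, 0, 1, 3, 2, 1, 4, 3, 2, 1, 3],
   [1, 0, 3, 2, 1, 0, 4, 3, 2, 1, 3, 2],
   [1, 2, 3, 2, 1, 4, 3, 2, 1, 0, 3, 2],
   [1, 2, 3, 2, 1, 4, 3, 2, 1, 0, 3, 2, 5],
   [1, 0, 1, 3, 2, 1, 4, 3, 2, 1, 3, 5],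
   [1, 2, 3, 2, 1, 4, 3, 2, 1, 0, 5, 1, 0, 1]]

/-- Words. -/
def caseBImgs3 : List (List ℕ) :=
  [[1, 0, 3, 2, 1, 0, 3, 4, 3, 2, 3],
   [1, 0, 3, 2, 1, 0, 4, 3, 2, 3, 5],
   [1, 0, 3, 2, 1, 4, 3, 2, 5, 1],
   [1, 0, 3, 2, 1, 4, 3, 2, 3, 5],
   [1, 3, 2, 3, 2, 1, 0, 4, 3, 2, 3, 5, 1, 0, 2],
   [1, 0, 1, 3, 2, 1, 4, 3, 2, 3, 5],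
   [1, 3, 2, 3, 2, 1, 0, 4, 3, 2, 3],
   [1, 0, 1, 3, 2, 1, 4, 3, 2, 5, 1],
   [1, 3, 2, 3, 2, 1, 0, 4, 3, 2, 1],
   [1, 0, 3, 2, 3, 4, 3, 2, 1, 3, 2, 3, 5, 1],
   [1, 0, 3, 2, 3, 4, 3, 2, 1, 3, 2, 3, 5],
   [1, 3, 2, 3, 4, 3, 2, 1],
   [1, 3, 2, 3, 2, 4, 3, 2, 1, 3, 2, 3, 5],
   [1, 3, 2, 3, 2, 4, 3, 2, 1, 3, 2, 5, 1],
   [1, 3, 2, 3, 4, 3, 2, 3],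
   [1, 0, 3, 2, 1, 0, 3, 4, 3, 2, 1, 3],
   [1, 0, 3, 2, 1, 0, 3, 4, 3, 2, 1, 5],
   [1, 0, 3, 2, 1, 0, 1, 4, 3, 2, 3],
   [1, 0, 3, 2, 1, 0, 3, 4, 3, 2, 3, 5],
   [1, 0, 3, 2, 1, 0, 1, 4, 3, 2, 1],
   [1, 0, 3, 2, 1, 0, 3, 4, 3, 2, 5, 1],
   [1, 0, 3, 2, 3, 4, 3, 2, 1, 3, 2, 3, 4],
   [1, 3, 2, 3, 4, 3, 2, 1, 3, 2, 3, 4, 5],
   [1, 0, 3, 2, 1, 0, 3, 4, 3, 2, 1, 5, 1],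
   [1, 0, 3, 2, 1, 3, 4, 3, 2, 1, 3, 2, 3, 4],
   [1, 3, 2, 3, 2, 4, 3, 2, 1, 0, 1, 3, 2, 1, 3, 2],
   [1, 0, 3, 2, 1, 0, 1, 4, 3, 2, 1, 5],
   [1, 0, 3, 2, 1, 0, 3, 4, 3, 2, 5, 1, 0],
   [1, 0, 3, 2, 1, 0, 1, 4, 3, 2, 1, 0],
   [1, 0, 3, 2, 1, 0, 4, 3, 2, 1],
   [1, 0, 3, 2, 1, 0, 4, 3, 2, 3],
   [1, 2, 3, 2, 1, 3, 2, 4, 3, 2, 1, 3, 5],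
   [1, 2, 3, 2, 1, 3, 2, 4, 3, 2, 1, 0, 5],
   [1, 0, 3, 2, 1, 0, 4, 3, 2, 1, 0, 3, 2],
   [1, 0, 3, 2, 1, 0, 4, 3, 2, 1, 3, 2, 4],
   [1, 0, 3, 2, 1, 0, 4, 3, 2, 1, 0, 3, 4],
   [1, 0, 3, 2, 1, 3, 4, 3, 2, 1, 0, 3, 5, 1],
   [1, 3, 2, 3, 4, 3, 2, 1, 0, 1, 0, 2],
   [1, 0, 3, 2, 1, 0, 3, 4, 3, 2, 1, 0],
   [1, 0, 3, 2, 1, 3, 4, 3, 2, 1],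
   [1, 0, 3, 2, 1, 3, 4, 3, 2, 3],
   [1, 0, 3, 2, 1, 0, 3, 4, 3, 2, 3, 4],
   [1, 0, 3, 2, 3, 4, 3, 2, 1, 0, 3, 2, 3, 4, 5],
   [1, 0, 3, 2, 3, 4, 3, 2, 1, 3, 2, 3, 4, 5, 1],
   [1, 0, 3, 2, 1, 0, 4, 3, 2, 1, 5, 1],
   [1, 3, 2, 3, 2, 1, 4, 3, 2, 1],
   [1, 0, 1, 3, 2, 1, 0, 4, 3, 2, 5, 1],
   [1, 0, 3, 2, 1, 0, 4, 3, 2, 5, 1, 0],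
   [1, 3, 2, 3, 2, 1, 4, 3, 2, 1, 5],
   [1, 0, 3, 2, 1, 0, 4, 3, 2, 3, 5, 1],
   [1, 3, 2, 3, 2, 4, 3, 2, 1, 0, 5],
   [1, 3, 2, 3, 4, 3, 2, 1, 0, 3, 2, 3],
   [1, 3, 2, 3, 2, 1, 4, 3, 2, 1, 0],
   [1, 0, 3, 2, 1, 0, 4, 3, 2, 3, 4, 5],
   [1, 3, 2, 3, 2, 1, 4, 3, 2, 3],
   [1, 0, 3, 2, 1, 4, 3, 2, 3, 2, 5],
   [1, 3, 2, 3, 2, 1, 4, 3, 2, 3, 5, 1, 2],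
   [1, 0, 1, 3, 2, 1, 4, 3, 2, 1, 0, 5],
   [1, 0, 1, 3, 2, 1, 4, 3, 2, 1, 0, 1, 3, 4],
   [1, 0, 3, 2, 3, 4, 3, 2, 1, 3, 2, 3, 5, 1, 2],
   [1, 3, 2, 3, 2, 4, 3, 2, 1, 0, 1, 0, 3, 2, 3, 5],
   [1, 3, 2, 3, 2, 1, 0, 4, 3, 2, 3, 5, 1, 2],
   [1, 3, 2, 3, 2, 4, 3, 2, 1, 3, 2, 3, 2, 5],
   [1, 0, 1, 3, 2, 4, 3, 2, 1, 0, 1, 0]]

/-- Words. -/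
def caseBImgs4 : List (List ℕ) :=
  [[1, 3, 2, 3, 2, 1, 4, 3, 2, 1, 0, 3, 5],
   [1, 0, 1, 3, 2, 1, 4, 3, 2, 1, 0, 3],
   [1, 3, 2, 3, 2, 1, 4, 3, 2, 1, 0, 5, 1],
   [1, 0, 1, 3, 2, 4, 3, 2, 1, 5],
   [1, 3, 2, 3, 4, 3, 2, 1, 3, 2, 3, 4],
   [1, 0, 1, 3, 2, 1, 4, 3, 2, 1, 5, 1],
   [1, 0, 1, 3, 2, 1, 4, 3, 2, 1, 3, 4],
   [1, 2, 3, 2, 4, 3, 2, 1, 0, 5],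
   [1, 0, 3, 2, 3, 4, 3, 2, 1, 0, 3, 2, 3, 4],
   [1, 0, 1, 3, 2, 4, 3, 2, 1, 0, 5, 1],
   [1, 3, 2, 3, 4, 3, 2, 1, 0, 3, 2, 1, 3, 4],
   [1, 0, 1, 3, 2, 4, 3, 2, 1, 0],
   [1, 3, 2, 3, 4, 3, 2, 1, 0, 3, 2, 3, 4, 5],
   [1, 0, 1, 3, 2, 1, 4, 3, 2, 1, 0, 1],
   [1, 3, 2, 3, 2, 1, 4, 3, 2, 1, 0, 3, 5, 1],
   [1, 3, 2, 4, 3, 2, 1, 5],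
   [1, 3, 2, 3, 2, 4, 3, 2, 1, 0, 5, 1, 2, 3],
   [1, 3, 2, 4, 3, 2, 1, 0],
   [1, 0, 3, 2, 4, 3, 2, 1],
   [1, 3, 2, 3, 2, 1, 0, 4, 3, 2, 5, 1, 2],
   [1, 3, 2, 3, 2, 4, 3, 2, 1, 3, 2, 3, 2, 4],
   [1, 3, 2, 3, 2, 4, 3, 2, 1, 0, 1, 0, 5],
   [1, 0, 1, 3, 2, 1, 0, 4, 3, 2, 1],
   [1, 3, 2, 3, 2, 1, 4, 3, 2, 5, 1],
   [1, 0, 3, 2, 1, 4, 3, 2, 3, 2],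
   [1, 3, 2, 3, 2, 1, 4, 3, 2, 3, 5],
   [1, 0, 3, 2, 1, 3, 4, 3, 2, 5, 1, 0],
   [1, 0, 3, 2, 1, 3, 4, 3, 2, 3, 5, 1],
   [1, 0, 3, 2, 1, 3, 4, 3, 2, 1, 5, 1],
   [1, 3, 2, 3, 2, 4, 3, 2, 1, 0, 5, 1],
   [1, 0, 3, 2, 1, 3, 4, 3, 2, 3, 4, 5],
   [1, 0, 3, 2, 1, 4, 3, 2, 3],
   [1, 3, 2, 3, 2, 1, 0, 4, 3, 2, 1, 5],
   [1, 0, 3, 2, 1, 4, 3, 2, 1],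
   [1, 3, 2, 3, 2, 1, 0, 4, 3, 2, 5, 1],
   [1, 2, 3, 2, 1, 3, 4, 3, 2, 1, 0, 5, 1],
   [1, 2, 3, 2, 1, 3, 4, 3, 2, 1, 3, 5],
   [1, 2, 3, 2, 1, 3, 4, 3, 2, 1, 0, 5],
   [1, 2, 3, 2, 3, 4, 3, 2, 1, 5],
   [1, 0, 3, 2, 3, 4, 3, 2, 1, 3, 2, 3],
   [1, 3, 2, 3, 4, 3, 2, 1, 0, 1, 2, 3],
   [1, 2, 3, 2, 1, 3, 4, 3, 2, 1, 3, 4],
   [1, 2, 3, 2, 1, 3, 4, 3, 2, 1, 0, 3],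
   [1, 2, 3, 2, 1, 3, 4, 3, 2, 1, 3, 2],
   [1, 2, 3, 2, 1, 3, 4, 3, 2, 1, 0, 1],
   [1, 2, 3, 2, 3, 4, 3, 2, 1, 0],
   [1, 3, 2, 3, 2, 1, 4, 3, 2, 1, 0, 1, 3, 2],
   [1, 3, 2, 3, 4, 3, 2, 1, 0, 1, 2, 3, 5],
   [1, 2, 3, 2, 3, 4, 3, 2, 1, 3],
   [1, 2, 3, 2, 3, 4, 3, 2, 1, 0, 1, 2, 3],
   [1, 0, 1, 3, 2, 1, 4, 3, 2, 1, 3, 4, 5],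
   [1, 0, 1, 3, 2, 1, 4, 3, 2, 1, 0, 5, 1, 2],
   [1, 0, 1, 3, 2, 1, 4, 3, 2, 1, 3, 2, 4],
   [1, 3, 2, 3, 2, 4, 3, 2, 1],
   [1, 3, 2, 3, 4, 3, 2, 1, 3, 2, 3, 5],
   [1, 3, 2, 3, 2, 4, 3, 2, 3],
   [1, 3, 2, 3, 4, 3, 2, 1, 3, 2, 5, 1],
   [1, 0, 3, 2, 3, 4, 3, 2, 1],
   [1, 0, 1, 3, 2, 1, 0, 4, 3, 2, 5, 1, 2],
   [1, 0, 3, 2, 3, 4, 3, 2, 3],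
   [1, 2, 3, 2, 3, 4, 3, 2, 1, 3, 2, 5, 1],
   [1, 0, 1, 3, 2, 1, 0, 4, 3, 5, 1, 2, 3],
   [1, 2, 3, 2, 3, 4, 3, 2, 1, 3, 2, 3, 5, 1],
   [1, 0, 3, 2, 1, 0, 3, 4, 3, 2, 1, 3, 4]]

/-- Words. -/
def caseBImgs5 : List (List ℕ) :=
  [[1, 0, 3, 2, 1, 0, 1, 4, 3, 2, 3, 4],
   [1, 0, 3, 2, 1, 0, 3, 4, 3, 2, 3, 4, 5],
   [1, 3, 2, 3, 4, 3, 2, 1, 3, 2, 3, 4, 5, 1],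
   [1, 3, 2, 3, 2, 1, 0, 4, 3, 2, 1, 3, 2, 3, 5, 1],
   [1, 3, 2, 3, 2, 4, 3, 2, 1, 3, 2, 3, 2, 1],
   [1, 3, 2, 3, 4, 3, 2, 1, 0, 1, 2, 3, 5, 1],
   [1, 3, 2, 3, 2, 1, 0, 4, 3, 2, 1, 0, 1, 3],
   [1, 0, 3, 2, 1, 0, 4, 3, 2, 1, 3, 4, 5],
   [1, 0, 3, 2, 1, 0, 3, 4, 3, 2, 1, 3, 4, 5],
   [1, 0, 3, 2, 3, 4, 3, 2, 1, 3, 2, 3, 2, 1],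
   [1, 3, 2, 3, 2, 1, 0, 4, 3, 2, 1, 0, 1, 3, 2],
   [1, 0, 3, 2, 3, 4, 3, 2, 1, 3, 2, 3, 2, 1, 4, 3],
   [1, 3, 2, 3, 2, 4, 3, 2, 1, 3, 2, 3, 2, 1, 4],
   [1, 0, 3, 2, 1, 0, 3, 4, 3, 2, 1, 0, 3, 5],
   [1, 3, 2, 3, 2, 4, 3, 2, 1, 3, 2, 3, 4],
   [1, 3, 2, 3, 2, 4, 3, 2, 1, 0, 3, 2, 3, 4, 5],
   [1, 2, 3, 2, 1, 4, 3, 2, 1, 3, 4, 5],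
   [1, 3, 2, 3, 2, 4, 3, 2, 1, 3, 2, 3, 4, 5],
   [1, 2, 3, 2, 1, 4, 3, 2, 1, 0, 3, 5],
   [1, 3, 2, 3, 2, 1, 4, 3, 2, 1, 0, 3, 2, 1, 0, 4],
   [1, 2, 3, 2, 1, 4, 3, 2, 1, 0, 3, 4],
   [1, 3, 2, 4, 3, 2, 1, 0, 1, 2, 3],
   [1, 2, 3, 2, 1, 4, 3, 2, 1, 0, 1, 3],
   [1, 2, 3, 2, 1, 4, 3, 2, 1, 0, 1, 0],
   [1, 0, 3, 2, 1, 0, 4, 3, 2, 1, 3, 5],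
   [1, 2, 3, 2, 4, 3, 2, 1, 0, 1],
   [1, 0, 1, 3, 2, 1, 4, 3, 2, 1, 0, 3, 5],
   [1, 3, 2, 3, 2, 1, 4, 3, 2, 1, 0, 1, 3, 4],
   [1, 0, 1, 3, 2, 1, 4, 3, 2, 3],
   [1, 3, 2, 3, 2, 1, 0, 4, 3, 2, 3, 5],
   [1, 2, 3, 2, 3, 4, 3, 2, 1, 0, 1, 2, 3, 2],
   [1, 0, 3, 2, 1, 0, 3, 4, 3, 2, 1, 3, 5, 1, 2, 3],
   [1, 2, 3, 2, 3, 4, 3, 2, 1, 0, 3, 2, 1, 0, 3, 2],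
   [1, 0, 3, 2, 1, 0, 3, 4, 3, 2, 1, 3, 5, 1],
   [1, 0, 3, 2, 1, 0, 3, 4, 3, 2, 3, 4, 5, 1],
   [1, 0, 3, 2, 1, 0, 3, 4, 3, 2, 1, 0, 3, 2, 3],
   [1, 0, 3, 2, 3, 4, 3, 2, 1, 3, 2, 3, 2, 1, 5],
   [1, 3, 2, 3, 2, 1, 4, 3, 2, 1, 0, 1, 3, 2, 4],
   [1, 2, 3, 2, 3, 4, 3, 2, 1, 0, 3, 2, 1, 3, 2, 5],
   [1, 0, 3, 2, 3, 4, 3, 2, 1, 3, 2, 3, 2, 5, 1],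
   [1, 0, 3, 2, 1, 0, 3, 4, 3, 2, 3, 5, 1, 0, 2, 3],
   [1, 3, 2, 3, 2, 1, 0, 4, 3, 2, 1, 0, 1, 3, 2, 1, 0],
   [1, 0, 3, 2, 1, 3, 4, 3, 2, 1, 3, 2, 3],
   [1, 0, 3, 2, 1, 3, 4, 3, 2, 1, 3, 2, 3, 4, 3],
   [1, 0, 3, 2, 1, 0, 3, 4, 3, 2, 3, 5, 1, 0],
   [1, 0, 3, 2, 3, 4, 3, 2, 1, 0, 3, 2, 3, 5],
   [1, 2, 3, 2, 1, 4, 3, 2, 1, 3, 2, 5, 1],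
   [1, 0, 3, 2, 3, 4, 3, 2, 1, 3, 2, 3, 2, 1, 4, 3, 5],
   [1, 3, 2, 3, 2, 4, 3, 2, 1, 3, 2, 3, 4, 5, 1],
   [1, 3, 2, 4, 3, 2, 1, 0, 1, 2, 3, 5],
   [1, 2, 3, 2, 3, 4, 3, 2, 1, 0, 1, 3, 2, 3, 2, 4, 3],
   [1, 0, 3, 2, 1, 0, 4, 3, 2, 1, 3, 2, 3],
   [1, 0, 3, 2, 3, 4, 3, 2, 1, 3, 2, 5],
   [1, 3, 2, 3, 2, 1, 0, 4, 3, 2, 1, 3, 2, 3, 5, 1, 2],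
   [1, 0, 3, 2, 1, 0, 4, 3, 2, 1, 3],
   [1, 0, 3, 2, 3, 4, 3, 2, 1, 3, 2, 3, 4, 5],
   [1, 3, 2, 4, 3, 2, 1, 0, 1, 0, 2, 3],
   [1, 3, 2, 4, 3, 2, 1, 0, 1, 0, 2, 3, 5],
   [1, 0, 3, 2, 1, 3, 4, 3, 2, 1, 0, 3, 2, 4, 5, 1],
   [1, 3, 2, 3, 2, 1, 4, 3, 2, 1, 3, 2, 4, 5, 1, 0],
   [1, 0, 3, 2, 3, 4, 3, 2, 1, 3, 2, 3, 2, 5],
   [1, 2, 3, 2, 3, 4, 3, 2, 1, 0, 3, 2, 1, 3, 2, 5, 1],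
   [1, 0, 3, 2, 3, 4, 3, 2, 1, 3, 2, 3, 2, 4, 3, 5],
   [1, 2, 3, 2, 4, 3, 2, 1, 0, 5, 1, 2]]

/-- Words. -/
def caseBImgs6 : List (List ℕ) :=
  [[1, 3, 2, 3, 2, 1, 4, 3, 2, 1, 3, 2, 3, 5, 1, 2],
   [1, 3, 2, 3, 2, 4, 3, 2, 1, 0, 1, 0, 3, 5, 1],
   [1, 3, 2, 3, 4, 3, 2, 1, 0, 3, 2, 1, 5, 1, 0, 1],
   [1, 3, 2, 3, 2, 1, 4, 3, 2, 1, 0, 3, 2, 1, 4],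
   [1, 2, 3, 2, 1, 4, 3, 2, 1, 0, 5, 1, 0, 1, 2],
   [1, 0, 3, 2, 1, 0, 3, 4, 3, 2, 1, 0, 3, 2, 1],
   [1, 0, 3, 2, 1, 0, 3, 4, 3, 2, 1, 0, 3],
   [1, 0, 3, 2, 1, 4, 3, 2, 3, 2, 1, 0, 4, 3, 2, 1],
   [1, 0, 3, 2, 1, 4, 3, 2, 3, 2, 1, 0, 4, 3],
   [1, 0, 3, 2, 1, 0, 4, 3, 2, 1, 5],
   [1, 2, 3, 2, 3, 4, 3, 2, 1, 0, 3, 2, 1, 3, 5],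
   [1, 2, 3, 2, 3, 4, 3, 2, 1, 0, 3, 2, 1, 3, 2],
   [1, 2, 3, 2, 3, 4, 3, 2, 1, 0, 3, 2, 1, 3, 4, 5],
   [1, 0, 1, 3, 2, 1, 4, 3, 2, 3, 4, 5, 1],
   [1, 3, 2, 3, 2, 1, 4, 3, 2, 3, 5, 1, 2, 3],
   [1, 3, 2, 3, 2, 4, 3, 2, 1, 0, 1, 0, 5, 1],
   [1, 0, 3, 2, 1, 4, 3, 2, 3, 2, 1, 0, 4, 3, 2, 1, 5],
   [1, 3, 2, 3, 2, 1, 0, 4, 3, 2, 1, 0, 3, 2, 1, 0],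
   [1, 3, 2, 3, 2, 1, 4, 3, 2, 1, 3, 2, 5, 1, 2],
   [1, 3, 2, 3, 2, 1, 4, 3, 2, 1, 3, 2, 5, 1, 0],
   [1, 0, 3, 2, 1, 4, 3, 2, 3, 2, 1, 4, 3, 5, 1, 2],
   [1, 0, 3, 2, 1, 4, 3, 2, 1, 5, 1],
   [1, 0, 3, 2, 1, 4, 3, 2, 1, 0, 5, 1],
   [1, 3, 2, 3, 2, 1, 0, 4, 3, 2, 1, 3, 5, 1, 2],
   [1, 0, 3, 2, 1, 4, 3, 2, 5, 1, 0],
   [1, 3, 2, 3, 2, 1, 0, 4, 3, 2, 1, 3, 2, 5, 1],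
   [1, 0, 3, 2, 1, 4, 3, 2, 3, 5, 1],
   [1, 3, 2, 3, 2, 1, 4, 3, 2, 1, 0, 5, 1, 2],
   [1, 2, 3, 2, 3, 4, 3, 2, 1, 3, 2, 3, 5],
   [1, 3, 2, 3, 2, 1, 4, 3, 2, 1, 0, 1, 5, 1],
   [1, 0, 3, 2, 1, 4, 3, 2, 3, 4, 5],
   [1, 3, 2, 3, 2, 1, 4, 3, 2, 1, 0, 5, 1, 0],
   [1, 0, 3, 2, 1, 4, 3, 2, 3, 4, 5, 1, 2, 3, 4],
   [1, 3, 2, 3, 2, 1, 4, 3, 2, 1, 3, 2, 4, 5, 1],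
   [1, 0, 3, 2, 3, 4, 3, 2, 1, 0, 1, 0],
   [1, 3, 2, 3, 2, 1, 0, 4, 3, 2, 1, 3, 5, 1, 0, 2],
   [1, 0, 1, 3, 2, 1, 4, 3, 2, 1, 0, 5, 1, 0],
   [1, 0, 3, 2, 3, 4, 3, 2, 1, 0, 1, 2, 3, 5],
   [1, 0, 3, 2, 1, 4, 3, 2, 3, 2, 1, 4, 3, 5, 1],
   [1, 0, 3, 2, 1, 4, 3, 2, 1, 3, 4, 5],
   [1, 0, 3, 2, 1, 4, 3, 2, 3, 2, 4, 3, 5, 1, 2],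
   [1, 3, 2, 3, 2, 1, 0, 4, 3, 2, 3, 5, 1, 0],
   [1, 0, 3, 2, 1, 4, 3, 2, 1, 0, 3],
   [1, 0, 3, 2, 1, 0, 3, 4, 3, 2, 1, 0, 1, 5],
   [1, 0, 3, 2, 1, 3, 4, 3, 2, 1, 3, 5, 1, 0, 1, 2],
   [1, 0, 3, 2, 1, 3, 4, 3, 2, 1, 0, 1, 0, 3],
   [1, 0, 1, 3, 2, 4, 3, 2, 1, 0, 5, 1, 2],
   [1, 0, 1, 3, 2, 1, 4, 3, 2, 3, 4, 5],
   [1, 0, 3, 2, 1, 4, 3, 2, 3, 2, 4, 3],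
   [1, 0, 1, 3, 2, 1, 4, 3, 2, 3, 5, 1],
   [1, 3, 2, 3, 2, 1, 0, 4, 3, 2, 1, 3],
   [1, 0, 1, 3, 2, 1, 4, 3, 2, 5, 1, 0],
   [1, 3, 2, 3, 2, 1, 0, 4, 3, 2, 1, 0],
   [1, 2, 3, 2, 3, 4, 3, 2, 1, 3, 2, 3, 2, 5],
   [1, 0, 3, 2, 3, 4, 3, 2, 1, 0, 3, 2, 1, 0, 3, 5],
   [1, 3, 2, 3, 4, 3, 2, 1, 3, 2, 3, 5, 1],
   [1, 3, 2, 3, 2, 1, 4, 3, 2, 1, 3, 2, 5, 1, 2, 3, 2],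
   [1, 0, 1, 3, 2, 1, 4, 3, 2, 3, 4],
   [1, 3, 2, 3, 2, 1, 4, 3, 2, 1, 3, 2, 5],
   [1, 0, 3, 2, 1, 4, 3, 2, 3, 4, 5, 1, 2, 3, 2, 1, 4],
   [1, 0, 3, 2, 1, 4, 3, 2, 1, 0, 5, 1, 2],
   [1, 3, 2, 3, 4, 3, 2, 1, 3, 2, 3, 5, 1, 2],
   [1, 3, 2, 3, 2, 1, 4, 3, 2, 1, 3, 2, 5, 1, 2, 3],
   [1, 0, 3, 2, 1, 4, 3, 2, 1, 0, 1, 5, 1]]

/-- Words. -/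
def caseBImgs7 : List (List ℕ) :=
  [[1, 2, 3, 2, 3, 4, 3, 2, 1, 0, 5, 1, 2],
   [1, 3, 2, 3, 2, 4, 3, 2, 1, 3, 2, 3, 2],
   [1, 0, 1, 3, 2, 4, 3, 2, 1, 0, 1, 0, 5],
   [1, 3, 2, 3, 2, 1, 4, 3, 2, 1, 3, 2, 3, 5, 1],
   [1, 0, 3, 2, 1, 3, 4, 3, 2, 1, 0, 3, 5],
   [1, 3, 2, 3, 4, 3, 2, 1, 0],
   [1, 3, 2, 3, 2, 4, 3, 2, 1, 0, 3, 2, 3, 5],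
   [1, 0, 3, 2, 1, 3, 4, 3, 2, 1, 0, 3, 5, 1, 2],
   [1, 3, 2, 3, 2, 4, 3, 2, 1, 3, 2, 5],
   [1, 3, 2, 3, 4, 3, 2, 1, 3],
   [1, 3, 2, 3, 2, 4, 3, 2, 1, 3, 2, 3],
   [1, 3, 2, 3, 4, 3, 2, 1, 5],
   [1, 2, 3, 2, 3, 4, 3, 2, 1, 0, 5, 1, 2, 3, 2],
   [1, 3, 2, 3, 4, 3, 2, 1, 0, 1, 0, 2, 5],
   [1, 2, 3, 2, 3, 4, 3, 2, 1, 0, 3, 2, 1, 0, 3, 5],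
   [1, 2, 3, 2, 3, 4, 3, 2, 1, 0, 3, 2, 1, 0, 3, 4],
   [1, 0, 3, 2, 1, 0, 3, 4, 3, 2, 1, 0, 3, 4],
   [1, 0, 3, 2, 1, 3, 4, 3, 2, 1, 0, 5, 1],
   [1, 0, 3, 2, 1, 0, 4, 3, 2, 1, 3, 4],
   [1, 3, 2, 3, 2, 1, 4, 3, 2, 3, 4, 5, 1],
   [1, 2, 3, 2, 3, 4, 3, 2, 1, 0, 3, 2, 1, 0, 3],
   [1, 2, 3, 2, 3, 4, 3, 2, 1, 0, 1, 0, 5, 1],
   [1, 3, 2, 3, 2, 4, 3, 2, 1, 0, 1, 3, 2, 1, 3],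
   [1, 3, 2, 3, 2, 1, 0, 4, 3, 2, 1, 0, 3, 2, 1, 5],
   [1, 0, 3, 2, 3, 4, 3, 2, 1, 0, 1, 0, 3, 2, 1],
   [1, 0, 3, 2, 1, 0, 3, 4, 3, 2, 1, 0, 5],
   [1, 0, 3, 2, 1, 0, 3, 4, 3, 2, 1, 3, 2],
   [1, 0, 3, 2, 3, 4, 3, 2, 1, 3, 2, 3, 2, 1, 0, 4, 5],
   [1, 0, 3, 2, 1, 0, 3, 4, 3, 2, 1, 3, 5],
   [1, 2, 3, 2, 3, 4, 3, 2, 1, 0, 1, 0, 3, 2, 1, 3],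
   [1, 0, 3, 2, 1, 0, 3, 4, 3, 2, 3, 5, 1],
   [1, 0, 3, 2, 1, 0, 1, 4, 3, 2, 1, 3],
   [1, 0, 3, 2, 1, 3, 4, 3, 2, 1, 0, 1, 3, 2, 3, 5, 1],
   [1, 2, 3, 2, 3, 4, 3, 2, 1, 3, 2, 3, 4, 5],
   [1, 0, 3, 2, 3, 4, 3, 2, 1, 3, 2, 3, 2, 4],
   [1, 0, 3, 2, 1, 0, 3, 4, 3, 2, 1, 0, 3, 2, 5, 1],
   [1, 0, 3, 2, 1, 3, 4, 3, 2, 1, 0, 3, 2],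
   [1, 0, 3, 2, 1, 3, 4, 3, 2, 1, 0, 3, 2, 4, 3],
   [1, 0, 3, 2, 1, 3, 4, 3, 2, 1, 3, 2, 3, 4, 5],
   [1, 0, 3, 2, 1, 3, 4, 3, 2, 1, 3, 2, 5],
   [1, 0, 3, 2, 1, 3, 4, 3, 2, 1, 3, 2, 4, 3, 5],
   [1, 3, 2, 3, 2, 4, 3, 2, 1, 0, 1, 3, 2, 1, 3, 2, 5],
   [1, 0, 3, 2, 1, 0, 1, 4, 3, 2, 1, 3, 5],
   [1, 0, 3, 2, 1, 0, 1, 4, 3, 2, 1, 0, 5],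
   [1, 0, 3, 2, 1, 0, 3, 4, 3, 2, 5, 1, 0, 1],
   [1, 0, 3, 2, 1, 0, 1, 4, 3, 2, 1, 3, 4],
   [1, 0, 3, 2, 1, 0, 1, 4, 3, 2, 1, 0, 3],
   [1, 3, 2, 3, 2, 1, 4, 3, 2, 3, 5, 1, 2, 3, 4],
   [1, 3, 2, 4, 3, 2, 1, 0, 1, 0, 2],
   [1, 0, 3, 2, 1, 0, 4, 3, 2, 1, 0],
   [1, 0, 3, 2, 1, 0, 4, 3, 2, 3, 4],
   [1, 3, 2, 3, 2, 1, 0, 4, 3, 2, 1, 0, 1],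
   [1, 0, 3, 2, 1, 3, 4, 3, 2, 1, 0, 1, 3, 5, 1],
   [1, 0, 3, 2, 1, 4, 3, 2, 5, 1, 0, 1],
   [1, 3, 2, 3, 4, 3, 2, 1, 0, 1, 2],
   [1, 2, 3, 2, 3, 4, 3, 2, 1, 0, 1, 0, 3, 2, 3, 5],
   [1, 2, 3, 2, 1, 3, 4, 3, 2, 1, 0, 3, 5],
   [1, 0, 3, 2, 1, 3, 4, 3, 2, 1, 3, 2],
   [1, 0, 3, 2, 1, 4, 3, 2, 3, 2, 5, 1, 2],
   [1, 3, 2, 3, 2, 1, 4, 3, 2, 3, 5, 1, 0],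
   [1, 0, 3, 2, 1, 0, 4, 3, 2, 1, 0, 3],
   [1, 3, 2, 3, 4, 3, 2, 1, 0, 1, 3, 2, 5, 1, 0, 1],
   [1, 3, 2, 3, 2, 1, 4, 3, 2, 1, 3, 2, 3, 5, 1, 0],
   [1, 3, 2, 3, 4, 3, 2, 1, 0, 1, 0]]

/-- Words. -/
def caseBImgs8 : List (List ℕ) :=
  [[1, 0, 3, 2, 1, 0, 3, 4, 3, 2, 1, 0, 1],
   [1, 3, 2, 3, 2, 1, 0, 4, 3, 2, 1, 3, 5, 1, 0],
   [1, 0, 3, 2, 1, 4, 3, 2, 1, 0, 3, 5],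
   [1, 2, 3, 2, 1, 3, 4, 3, 2, 1, 3, 2, 3, 5],
   [1, 0, 1, 3, 2, 1, 0, 4, 3, 2, 5, 1, 0],
   [1, 0, 3, 2, 1, 3, 4, 3, 2, 1, 0],
   [1, 0, 3, 2, 1, 3, 4, 3, 2, 1, 3],
   [1, 0, 1, 3, 2, 1, 0, 4, 3, 2, 1, 5, 1],
   [1, 0, 3, 2, 1, 3, 4, 3, 2, 1, 5],
   [1, 2, 3, 2, 3, 4, 3, 2, 1, 3, 2, 3, 2],
   [1, 2, 3, 2, 3, 4, 3, 2, 1, 0, 1, 0, 3, 2, 5],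
   [1, 3, 2, 3, 2, 4, 3, 2, 1, 0, 3, 2, 5, 1, 0],
   [1, 3, 2, 3, 4, 3, 2, 1, 0, 1, 0, 3],
   [1, 0, 3, 2, 1, 3, 4, 3, 2, 3, 4],
   [1, 3, 2, 3, 2, 1, 4, 3, 2, 1, 0, 3, 4, 5, 1],
   [1, 0, 3, 2, 3, 4, 3, 2, 1, 0, 1, 5, 1],
   [1, 0, 1, 3, 2, 1, 0, 4, 3, 2, 1, 0],
   [1, 0, 3, 2, 3, 4, 3, 2, 1, 0, 3, 2, 3, 4, 5, 1],
   [1, 3, 2, 3, 2, 1, 4, 3, 2, 5, 1, 0],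
   [1, 0, 3, 2, 1, 4, 3, 2, 3, 2, 1],
   [1, 3, 2, 3, 2, 1, 4, 3, 2, 3, 5, 1],
   [1, 0, 3, 2, 1, 3, 4, 3, 2, 3, 5, 1, 0, 1, 2],
   [1, 3, 2, 3, 2, 1, 4, 3, 2, 3, 5, 1, 0, 2],
   [1, 0, 3, 2, 1, 3, 4, 3, 2, 3, 5, 1, 0, 1, 0],
   [1, 3, 2, 3, 2, 1, 4, 3, 2, 3, 4, 5, 1, 2],
   [1, 0, 3, 2, 1, 3, 4, 3, 2, 3, 4, 5, 1, 0, 1],
   [1, 0, 3, 2, 4, 3, 2, 1, 0, 1, 5, 1],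
   [1, 0, 3, 2, 3, 4, 3, 2, 1, 3, 2, 3, 2],
   [1, 0, 3, 2, 3, 4, 3, 2, 1, 3, 2, 3, 2, 4, 3],
   [1, 3, 2, 3, 2, 1, 0, 4, 3, 2, 1, 0, 1, 3, 2, 1],
   [1, 3, 2, 3, 2, 1, 4, 3, 2, 1, 3],
   [1, 0, 3, 2, 1, 4, 3, 2, 3, 2, 5, 1],
   [1, 3, 2, 3, 2, 1, 4, 3, 2, 1, 0, 5],
   [1, 0, 1, 3, 2, 1, 4, 3, 2, 1, 0, 1, 3],
   [1, 0, 3, 2, 1, 0, 3, 4, 3, 2, 3, 5, 1, 0, 1],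
   [1, 2, 3, 2, 4, 3, 2, 1, 0, 1, 2],
   [1, 0, 3, 2, 4, 3, 2, 1, 0, 1, 2],
   [1, 0, 3, 2, 1, 0, 3, 4, 3, 2, 5, 1, 0, 1, 0],
   [1, 0, 3, 2, 1, 3, 4, 3, 2, 3, 5, 1, 2, 3, 2, 1, 0],
   [1, 0, 3, 2, 4, 3, 2, 1, 0, 1, 0],
   [1, 0, 3, 2, 1, 4, 3, 2, 3, 4, 5, 1, 2, 3, 2, 1],
   [1, 3, 2, 3, 2, 1, 4, 3, 2, 1, 3, 5],
   [1, 3, 2, 3, 4, 3, 2, 1, 0, 3, 2, 3, 5, 1, 0],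
   [1, 3, 2, 3, 2, 4, 3, 2, 1, 0, 1, 0],
   [1, 3, 2, 3, 2, 4, 3, 2, 1, 3, 2, 3, 2, 4, 5],
   [1, 3, 2, 3, 2, 1, 4, 3, 2, 1, 0, 3, 4, 5],
   [1, 0, 3, 2, 1, 0, 4, 3, 2, 5, 1, 0, 1],
   [1, 3, 2, 3, 2, 1, 4, 3, 2, 1, 0, 1],
   [1, 0, 1, 3, 2, 1, 4, 3, 2, 1, 0, 1, 5],
   [1, 3, 2, 3, 2, 1, 4, 3, 2, 1, 0, 3],
   [1, 3, 2, 3, 2, 4, 3, 2, 1, 5],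
   [1, 3, 2, 3, 4, 3, 2, 1, 3, 2, 3],
   [1, 0, 1, 3, 2, 1, 0, 4, 3, 2, 1, 5],
   [1, 3, 2, 3, 4, 3, 2, 1, 0, 3, 2, 1, 3],
   [1, 3, 2, 3, 2, 1, 4, 3, 2, 1, 5, 1],
   [1, 2, 3, 2, 4, 3, 2, 1, 0, 1, 5],
   [1, 3, 2, 3, 2, 1, 4, 3, 2, 1, 3, 2],
   [1, 0, 3, 2, 1, 0, 4, 3, 2, 3, 4, 5, 1],
   [1, 3, 2, 3, 2, 1, 4, 3, 2, 1, 3, 4],
   [1, 3, 2, 3, 2, 4, 3, 2, 1, 0, 3, 5],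
   [1, 3, 2, 3, 4, 3, 2, 1, 0, 3, 2],
   [1, 3, 2, 3, 2, 4, 3, 2, 1, 0],
   [1, 3, 2, 3, 4, 3, 2, 1, 0, 3, 2, 3, 5],
   [1, 0, 3, 2, 3, 4, 3, 2, 1, 0, 1, 3, 2, 3, 5, 1]]

/-- Words. -/
def caseBImgs9 : List (List ℕ) :=
  [[1, 3, 2, 3, 2, 1, 4, 3, 2, 3, 4],
   [1, 0, 3, 2, 1, 4, 3, 2, 3, 2, 4, 5],
   [1, 0, 3, 2, 3, 4, 3, 2, 1, 0, 1, 2, 5, 1],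
   [1, 0, 3, 2, 3, 4, 3, 2, 1, 0, 1, 0, 5, 1],
   [1, 0, 3, 2, 1, 3, 4, 3, 2, 1, 0, 1, 3, 2, 5, 1],
   [1, 2, 3, 2, 3, 4, 3, 2, 1, 0, 5, 1, 2, 3],
   [1, 0, 3, 2, 1, 4, 3, 2, 3, 4, 5, 1, 2, 3, 2, 4],
   [1, 0, 3, 2, 4, 3, 2, 1, 0, 5, 1, 2],
   [1, 3, 2, 3, 2, 4, 3, 2, 1, 0, 1, 5, 1, 2, 3],
   [1, 0, 3, 2, 1, 4, 3, 2, 1, 0, 1, 0, 3, 4, 5],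
   [1, 0, 3, 2, 4, 3, 2, 1, 0, 5, 1, 0],
   [1, 0, 3, 2, 1, 4, 3, 2, 3, 4, 5, 1, 0, 2, 3],
   [1, 0, 3, 2, 3, 4, 3, 2, 1, 0, 5, 1, 0],
   [1, 0, 3, 2, 1, 4, 3, 2, 3, 2, 4],
   [1, 3, 2, 3, 2, 1, 4, 3, 2, 3, 4, 5],
   [1, 3, 2, 3, 2, 4, 3, 2, 1, 0, 5, 1, 2],
   [1, 2, 3, 2, 3, 4, 3, 2, 1, 3, 2, 3, 2, 1],
   [1, 3, 2, 4, 3, 2, 1, 0, 1, 5, 1, 0],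
   [1, 3, 2, 3, 2, 1, 4, 3, 2, 1, 3, 5, 1, 2],
   [1, 0, 3, 2, 1, 4, 3, 2, 3, 4, 5, 1, 2, 3],
   [1, 0, 1, 3, 2, 1, 4, 3, 2, 1, 0, 5, 1],
   [1, 3, 2, 3, 2, 1, 4, 3, 2, 1, 0, 1, 3, 5],
   [1, 0, 1, 3, 2, 1, 4, 3, 2, 1, 0, 3, 4],
   [1, 0, 3, 2, 3, 4, 3, 2, 1, 0, 1, 0, 5],
   [1, 3, 2, 3, 2, 4, 3, 2, 1, 0, 1, 0, 3, 2, 3],
   [1, 2, 3, 2, 3, 4, 3, 2, 1, 0, 3, 2, 1, 3, 5, 1, 0],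
   [1, 0, 3, 2, 1, 4, 3, 2, 5, 1, 0, 1, 0],
   [1, 3, 2, 3, 2, 4, 3, 2, 1, 0, 1, 3, 2, 3, 5],
   [1, 0, 3, 2, 3, 4, 3, 2, 1, 0, 1],
   [1, 3, 2, 3, 2, 4, 3, 2, 1, 0, 1, 0, 3, 2, 5],
   [1, 0, 3, 2, 3, 4, 3, 2, 1, 0, 1, 0, 3],
   [1, 2, 3, 2, 3, 4, 3, 2, 1, 0, 3, 2, 5, 1, 0],
   [1, 3, 2, 3, 2, 1, 0, 4, 3, 2, 3, 5, 1],
   [1, 0, 3, 2, 1, 4, 3, 2, 1, 3],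
   [1, 0, 3, 2, 3, 4, 3, 2, 1, 0, 1, 2, 5],
   [1, 0, 1, 3, 2, 4, 3, 2, 1, 0, 1],
   [1, 3, 2, 3, 2, 1, 4, 3, 2, 1, 3, 2, 3, 5],
   [1, 3, 2, 3, 4, 3, 2, 1, 0, 3, 2, 3, 4, 5, 1],
   [1, 3, 2, 3, 2, 1, 4, 3, 2, 1, 0, 3, 2, 5],
   [1, 2, 3, 2, 4, 3, 2, 1, 0, 1, 0],
   [1, 3, 2, 3, 4, 3, 2, 1, 0, 5],
   [1, 3, 2, 3, 2, 4, 3, 2, 1, 0, 3, 2, 3],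
   [1, 0, 3, 2, 1, 3, 4, 3, 2, 1, 0, 1, 3, 5, 1, 2],
   [1, 0, 3, 2, 1, 3, 4, 3, 2, 1, 0, 1, 3, 5],
   [1, 0, 3, 2, 1, 4, 3, 2, 3, 5, 1, 2, 3],
   [1, 3, 2, 3, 2, 4, 3, 2, 1, 0, 3],
   [1, 3, 2, 3, 4, 3, 2, 1, 0, 3, 2, 5],
   [1, 0, 3, 2, 4, 3, 2, 1, 5],
   [1, 2, 3, 2, 3, 4, 3, 2, 1, 3, 2, 3, 4],
   [1, 3, 2, 3, 2, 1, 0, 4, 3, 2, 1, 5, 1, 2],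
   [1, 0, 1, 3, 2, 1, 4, 3, 2, 1, 5, 1, 0],
   [1, 0, 3, 2, 3, 4, 3, 2, 1, 0, 3, 2, 3],
   [1, 2, 3, 2, 3, 4, 3, 2, 1, 0, 5],
   [1, 2, 3, 2, 4, 3, 2, 1, 0, 5, 1],
   [1, 0, 3, 2, 3, 4, 3, 2, 1, 0, 3, 2, 1, 3, 4],
   [1, 3, 2, 3, 2, 1, 0, 4, 3, 2, 1, 3, 2, 5],
   [1, 0, 3, 2, 3, 4, 3, 2, 1, 0, 3, 2, 1, 5, 1, 0, 2],
   [1, 0, 1, 3, 2, 4, 3, 2, 1, 0, 5, 1, 0],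
   [1, 3, 2, 3, 2, 1, 0, 4, 3, 2, 1, 0, 3, 2, 3, 5],
   [1, 0, 3, 2, 1, 3, 4, 3, 2, 1, 0, 1, 3, 2],
   [1, 0, 1, 3, 2, 4, 3, 2, 1, 0, 1, 5, 1],
   [1, 3, 2, 3, 4, 3, 2, 1, 0, 3, 2, 1, 3, 4, 5],
   [1, 3, 2, 3, 2, 1, 0, 4, 3, 2, 1, 3, 2, 3],
   [1, 2, 3, 2, 3, 4, 3, 2, 1, 3, 2, 3, 5, 1, 2]]

/-- Words. -/
def caseBImgs10 : List (List ℕ) :=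
  [[1, 0, 3, 2, 4, 3, 2, 1, 0, 1, 2, 3, 4, 5],
   [1, 0, 3, 2, 1, 3, 4, 3, 2, 1, 0, 1, 3, 4, 5],
   [1, 0, 3, 2, 1, 4, 3, 2, 3, 5, 1, 2, 3, 4],
   [1, 3, 2, 4, 3, 2, 1, 0, 5],
   [1, 3, 2, 3, 2, 4, 3, 2, 1, 0, 3, 2, 3, 4],
   [1, 3, 2, 3, 2, 1, 4, 3, 2, 1, 3, 5, 1, 0, 2],
   [1, 3, 2, 3, 4, 3, 2, 1, 0, 3, 2, 3, 5, 1],
   [1, 3, 2, 3, 2, 4, 3, 2, 1, 0, 1],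
   [1, 0, 3, 2, 3, 4, 3, 2, 1, 0, 1, 3, 2, 3, 5],
   [1, 3, 2, 4, 3, 2, 1, 0, 1, 2],
   [1, 0, 3, 2, 1, 3, 4, 3, 2, 1, 0, 3, 2, 4, 5],
   [1, 0, 3, 2, 1, 4, 3, 2, 3, 4, 5, 1, 0],
   [1, 0, 3, 2, 3, 4, 3, 2, 1, 0, 1, 3, 2, 1, 3, 5, 1],
   [1, 0, 3, 2, 1, 4, 3, 2, 3, 2, 4, 3, 5, 1, 2, 3],
   [1, 2, 3, 2, 3, 4, 3, 2, 1, 3, 2, 3, 4, 5, 1, 2],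
   [1, 3, 2, 4, 3, 2, 1, 0, 1],
   [1, 0, 3, 2, 4, 3, 2, 1, 0],
   [1, 3, 2, 3, 2, 1, 0, 4, 3, 2, 5, 1, 0, 2],
   [1, 2, 3, 2, 3, 4, 3, 2, 1, 0, 3, 2, 3, 4, 5],
   [1, 3, 2, 3, 2, 4, 3, 2, 1, 0, 1, 5],
   [1, 3, 2, 3, 4, 3, 2, 1, 0, 3, 2, 1, 3, 5, 1],
   [1, 0, 3, 2, 3, 4, 3, 2, 1, 0, 1, 3, 2, 3],
   [1, 3, 2, 3, 2, 4, 3, 2, 1, 0, 1, 0, 3, 5],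
   [1, 0, 3, 2, 3, 4, 3, 2, 1, 0, 1, 0, 3, 2],
   [1, 3, 2, 3, 4, 3, 2, 1, 0, 3, 2, 1, 5, 1, 0],
   [1, 0, 1, 3, 2, 1, 0, 4, 3, 2, 1, 0, 1],
   [1, 0, 3, 2, 1, 3, 4, 3, 2, 5, 1, 0, 1],
   [1, 3, 2, 3, 2, 1, 4, 3, 2, 1, 3, 5, 1, 0],
   [1, 0, 3, 2, 1, 4, 3, 2, 3, 2, 1, 0],
   [1, 0, 3, 2, 1, 4, 3, 2, 1, 0, 1, 3, 4, 5],
   [1, 0, 3, 2, 1, 3, 4, 3, 2, 3, 5, 1, 0],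
   [1, 0, 3, 2, 1, 3, 4, 3, 2, 1, 5, 1, 0],
   [1, 3, 2, 3, 2, 4, 3, 2, 1, 0, 5, 1, 0],
   [1, 0, 3, 2, 3, 4, 3, 2, 1, 0, 1, 3, 2, 1, 0, 3, 5],
   [1, 0, 3, 2, 1, 4, 3, 2, 1, 0, 1, 3],
   [1, 0, 3, 2, 1, 3, 4, 3, 2, 1, 3, 4, 5, 1, 0],
   [1, 0, 3, 2, 1, 3, 4, 3, 2, 3, 5, 1, 2],
   [1, 0, 3, 2, 1, 4, 3, 2, 3, 2, 1, 4],
   [1, 0, 3, 2, 1, 3, 4, 3, 2, 3, 4, 5, 1],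
   [1, 0, 3, 2, 1, 4, 3, 2, 1, 0, 1, 0, 3, 5],
   [1, 0, 3, 2, 1, 4, 3, 2, 1, 0, 1, 0, 3, 4],
   [1, 0, 3, 2, 1, 3, 4, 3, 2, 1, 3, 5, 1],
   [1, 3, 2, 3, 2, 4, 3, 2, 1, 0, 3, 5, 1],
   [1, 0, 3, 2, 3, 4, 3, 2, 1, 0, 1, 3, 2, 1, 5],
   [1, 2, 3, 2, 3, 4, 3, 2, 1, 0, 1, 3, 5, 1, 2],
   [1, 3, 2, 3, 2, 4, 3, 2, 1, 0, 1, 5, 1, 0],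
   [1, 3, 2, 3, 4, 3, 2, 1, 0, 3, 2, 1, 0, 3, 5],
   [1, 3, 2, 3, 2, 4, 3, 2, 1, 0, 1, 5, 1],
   [1, 3, 2, 3, 4, 3, 2, 1, 0, 3, 2, 1, 3, 5],
   [1, 0, 3, 2, 3, 4, 3, 2, 1, 0, 1, 3, 2, 1, 3],
   [1, 0, 3, 2, 1, 4, 3, 2, 3, 2, 1, 4, 3],
   [1, 0, 3, 2, 1, 4, 3, 2, 3, 4],
   [1, 0, 3, 2, 1, 4, 3, 2, 3, 2, 4, 3, 5],
   [1, 0, 3, 2, 4, 3, 2, 1, 0, 1, 2, 5, 1],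
   [1, 3, 2, 3, 2, 1, 0, 4, 3, 2, 1, 0, 3],
   [1, 0, 3, 2, 1, 4, 3, 2, 3, 5, 1, 0],
   [1, 3, 2, 3, 4, 3, 2, 1, 0, 3, 5, 1, 0, 2],
   [1, 0, 3, 2, 1, 4, 3, 2, 3, 5, 1, 2],
   [1, 0, 3, 2, 1, 3, 4, 3, 2, 1, 0, 1, 5],
   [1, 3, 2, 3, 2, 1, 0, 4, 3, 2, 1, 3, 5],
   [1, 0, 3, 2, 1, 4, 3, 2, 1, 3, 5, 1],
   [1, 0, 3, 2, 1, 3, 4, 3, 2, 1, 0, 1, 0],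
   [1, 3, 2, 3, 2, 1, 0, 4, 3, 2, 1, 0, 5],
   [1, 3, 2, 3, 2, 1, 0, 4, 3, 2, 1, 5, 1]]

/-- Words. -/
def caseBImgs11 : List (List ℕ) :=
  [[1, 0, 3, 2, 1, 4, 3, 2, 1, 5],
   [1, 0, 3, 2, 3, 4, 3, 2, 1, 0, 1, 2, 3],
   [1, 3, 2, 4, 3, 2, 1, 0, 1, 5, 1, 0, 1],
   [1, 0, 3, 2, 1, 3, 4, 3, 2, 1, 0, 1, 3, 2, 5],
   [1, 3, 2, 3, 4, 3, 2, 1, 0, 5, 1, 2],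
   [1, 3, 2, 3, 2, 1, 0, 4, 3, 2, 5, 1, 0],
   [1, 0, 3, 2, 1, 4, 3, 2, 1, 0],
   [1, 0, 3, 2, 1, 0, 3, 4, 3, 2, 1, 0, 1, 3, 5],
   [1, 0, 3, 2, 1, 3, 4, 3, 2, 1, 0, 1, 3, 2, 3, 5],
   [1, 0, 3, 2, 1, 4, 3, 2, 3, 2, 1, 0, 4, 5],
   [1, 2, 3, 2, 1, 3, 4, 3, 2, 1, 3, 4, 5],
   [1, 0, 3, 2, 1, 3, 4, 3, 2, 1, 0, 3, 2, 4],
   [1, 0, 3, 2, 3, 4, 3, 2, 1, 0, 1, 3, 2, 5, 1],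
   [1, 2, 3, 2, 1, 3, 4, 3, 2, 1, 3, 2, 5],
   [1, 0, 3, 2, 1, 3, 4, 3, 2, 1, 0, 3],
   [1, 0, 3, 2, 1, 4, 3, 2, 1, 5, 1, 0, 1],
   [1, 0, 3, 2, 1, 3, 4, 3, 2, 1, 0, 3, 2, 1, 0, 5],
   [1, 0, 3, 2, 3, 4, 3, 2, 1, 0, 1, 3, 2, 1, 5, 1],
   [1, 2, 3, 2, 3, 4, 3, 2, 1, 0, 3, 2, 3, 5, 1],
   [1, 2, 3, 2, 3, 4, 3, 2, 1, 3, 5],
   [1, 0, 3, 2, 3, 4, 3, 2, 1, 3, 2],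
   [1, 3, 2, 3, 2, 1, 4, 3, 2, 1, 0, 3, 2, 1, 0],
   [1, 0, 3, 2, 1, 4, 3, 2, 3, 4, 5, 1, 2, 3, 2, 1, 0, 3],
   [1, 0, 3, 2, 4, 3, 2, 1, 0, 1, 0, 5, 1],
   [1, 0, 3, 2, 4, 3, 2, 1, 0, 1, 2, 3, 2],
   [1, 0, 3, 2, 1, 3, 4, 3, 2, 1, 0, 3, 4, 5],
   [1, 0, 3, 2, 1, 0, 4, 3, 2, 1, 0, 1, 3],
   [1, 2, 3, 2, 3, 4, 3, 2, 1, 0, 1, 2, 3, 2, 3, 4],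
   [1, 0, 1, 3, 2, 1, 4, 3, 2, 1, 0, 3, 4, 5, 1],
   [1, 0, 3, 2, 4, 3, 2, 1, 0, 1, 2, 3, 4],
   [1, 0, 3, 2, 1, 3, 4, 3, 2, 1, 3, 5],
   [1, 0, 3, 2, 1, 4, 3, 2, 3, 2, 1, 5, 1],
   [1, 3, 2, 3, 4, 3, 2, 1, 0, 1, 2, 5],
   [1, 2, 3, 2, 3, 4, 3, 2, 1, 0, 1, 3, 2, 3, 2],
   [1, 3, 2, 3, 2, 4, 3, 2, 1, 0, 3, 2, 3, 5, 1, 0],
   [1, 3, 2, 4, 3, 2, 1, 0, 5, 1, 0, 1, 2, 1],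
   [1, 2, 3, 2, 1, 3, 4, 3, 2, 1, 3, 2, 3],
   [1, 0, 1, 3, 2, 1, 0, 4, 3, 2, 1, 5, 1, 0],
   [1, 2, 3, 2, 3, 4, 3, 2, 1, 0, 1, 0, 3, 2, 3],
   [1, 3, 2, 3, 4, 3, 2, 1, 0, 1, 0, 5],
   [1, 3, 2, 3, 2, 4, 3, 2, 1, 0, 3, 2, 3, 5, 1, 2],
   [1, 2, 3, 2, 3, 4, 3, 2, 1, 0, 1],
   [1, 3, 2, 3, 2, 1, 4, 3, 2, 1, 3, 2, 4, 5],
   [1, 2, 3, 2, 3, 4, 3, 2, 1, 0, 3],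
   [1, 3, 2, 3, 4, 3, 2, 1, 0, 1, 3, 2, 5, 1],
   [1, 0, 3, 2, 3, 4, 3, 2, 1, 0, 3, 2, 5],
   [1, 2, 3, 2, 3, 4, 3, 2, 1, 0, 3, 5, 1, 2, 3, 4],
   [1, 3, 2, 3, 2, 1, 4, 3, 2, 1, 0, 1, 3],
   [1, 0, 1, 3, 2, 1, 4, 3, 2, 1, 0, 1, 5, 1],
   [1, 0, 1, 3, 2, 1, 4, 3, 2, 1, 0, 3, 4, 5],
   [1, 2, 3, 2, 3, 4, 3, 2, 1, 3, 2],
   [1, 0, 3, 2, 3, 4, 3, 2, 1, 3, 5],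
   [1, 0, 3, 2, 3, 4, 3, 2, 1, 0, 3, 2, 5, 1, 2, 3, 2],
   [1, 3, 2, 3, 2, 4, 3, 2, 1, 3],
   [1, 3, 2, 3, 4, 3, 2, 1, 3, 2, 5],
   [1, 2, 3, 2, 3, 4, 3, 2, 1, 0, 1, 2],
   [1, 3, 2, 3, 2, 1, 4, 3, 2, 1, 3, 4, 5],
   [1, 0, 3, 2, 1, 0, 4, 3, 2, 5, 1, 0, 1, 0],
   [1, 0, 3, 2, 3, 4, 3, 2, 1, 0],
   [1, 2, 3, 2, 3, 4, 3, 2, 1, 0, 3, 2, 3, 5],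
   [1, 0, 1, 3, 2, 1, 0, 4, 3, 2, 5, 1, 0, 2],
   [1, 0, 3, 2, 1, 3, 4, 3, 2, 3, 5, 1, 2, 3, 2, 4],
   [1, 0, 3, 2, 3, 4, 3, 2, 1, 3],
   [1, 2, 3, 2, 3, 4, 3, 2, 1, 3, 2, 5]]

/-- Words. -/
def caseBImgs12 : List (List ℕ) :=
  [[1, 0, 1, 3, 2, 1, 0, 4, 3, 2, 5, 1, 2, 3],
   [1, 0, 3, 2, 3, 4, 3, 2, 1, 5],
   [1, 2, 3, 2, 3, 4, 3, 2, 1, 3, 2, 3],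
   [1, 0, 1, 3, 2, 1, 0, 4, 3, 2, 1, 5, 1, 2],
   [1, 3, 2, 3, 4, 3, 2, 1, 0, 1, 0, 3, 2],
   [1, 2, 3, 2, 3, 4, 3, 2, 1, 0, 1, 0, 3, 5],
   [1, 0, 3, 2, 3, 4, 3, 2, 1, 0, 3, 2, 1, 5, 1, 0],
   [1, 3, 2, 3, 2, 4, 3, 2, 1, 0, 3, 2, 5, 1, 0, 2],
   [1, 2, 3, 2, 3, 4, 3, 2, 1, 3, 2, 3, 4, 5, 1],
   [1, 0, 3, 2, 1, 3, 4, 3, 2, 1, 0, 1, 5, 1],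
   [1, 0, 3, 2, 1, 0, 3, 4, 3, 2, 1, 3, 2, 3],
   [1, 0, 3, 2, 3, 4, 3, 2, 1, 3, 2, 3, 2, 1, 0, 5],
   [1, 0, 3, 2, 3, 4, 3, 2, 1, 3, 2, 3, 2, 1, 4, 3, 2],
   [1, 3, 2, 3, 4, 3, 2, 1, 3, 2, 3, 4, 5, 1, 2],
   [1, 0, 3, 2, 1, 3, 4, 3, 2, 1, 0, 5, 1, 2],
   [1, 3, 2, 3, 2, 1, 4, 3, 2, 3, 5, 1, 0, 2, 1],
   [1, 0, 3, 2, 1, 4, 3, 2, 3, 2, 4, 5, 1, 2, 3, 2, 3],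
   [1, 3, 2, 4, 3, 2, 1, 0, 1, 0, 2, 5],
   [1, 0, 3, 2, 1, 3, 4, 3, 2, 1, 0, 3, 2, 1, 4],
   [1, 3, 2, 3, 4, 3, 2, 1, 0, 1, 3, 2, 5, 1, 0],
   [1, 3, 2, 3, 2, 1, 0, 4, 3, 2, 1, 3, 2, 3, 5],
   [1, 0, 3, 2, 1, 4, 3, 2, 3, 5, 1, 0, 1],
   [1, 0, 3, 2, 1, 3, 4, 3, 2, 1, 0, 1, 3],
   [1, 3, 2, 3, 2, 1, 4, 3, 2, 3, 4, 5, 1, 2, 3, 4],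
   [1, 2, 3, 2, 3, 4, 3, 2, 1, 0, 3, 2, 3, 5, 1, 2, 3],
   [1, 0, 3, 2, 1, 3, 4, 3, 2, 1, 0, 1, 3, 2, 1],
   [1, 2, 3, 2, 3, 4, 3, 2, 1, 0, 3, 2, 3, 5, 1, 0],
   [1, 3, 2, 4, 3, 2, 1, 0, 5, 1, 0, 1, 2],
   [1, 3, 2, 3, 4, 3, 2, 1, 0, 1, 2, 5, 1],
   [1, 3, 2, 3, 2, 4, 3, 2, 1, 3, 2, 3, 2, 1, 0],
   [1, 0, 3, 2, 1, 4, 3, 2, 3, 4, 5, 1, 2, 3, 2, 1, 0],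
   [1, 3, 2, 3, 2, 1, 4, 3, 2, 1, 0, 3, 2, 1],
   [1, 2, 3, 2, 3, 4, 3, 2, 1, 0, 3, 2, 5, 1, 0, 2],
   [1, 0, 3, 2, 1, 4, 3, 2, 3, 4, 5, 1, 2, 3, 2, 1, 3],
   [1, 3, 2, 3, 4, 3, 2, 1, 0, 1, 2, 3, 5, 1, 2],
   [1, 0, 3, 2, 3, 4, 3, 2, 1, 0, 3, 2, 1, 5, 1, 0, 1],
   [1, 2, 3, 2, 3, 4, 3, 2, 1, 0, 1, 0, 3, 5, 1],
   [1, 3, 2, 3, 4, 3, 2, 1, 0, 1, 0, 3, 2, 1],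
   [1, 3, 2, 3, 2, 1, 0, 4, 3, 2, 1, 0, 3, 2, 1],
   [1, 0, 3, 2, 1, 4, 3, 2, 3, 5, 1, 0, 2, 1],
   [1, 0, 3, 2, 1, 0, 3, 4, 3, 2, 1, 3, 2, 3, 5],
   [1, 0, 3, 2, 3, 4, 3, 2, 1, 3, 2, 3, 2, 1, 0, 4, 3],
   [1, 0, 3, 2, 3, 4, 3, 2, 1, 3, 2, 3, 2, 1, 0],
   [1, 0, 3, 2, 1, 3, 4, 3, 2, 1, 0, 3, 2, 1, 0, 4],
   [1, 0, 3, 2, 1, 0, 3, 4, 3, 2, 1, 0, 3, 2, 5],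
   [1, 0, 3, 2, 3, 4, 3, 2, 1, 3, 2, 3, 2, 1, 4],
   [1, 0, 3, 2, 1, 3, 4, 3, 2, 1, 0, 3, 2, 1],
   [1, 0, 3, 2, 1, 3, 4, 3, 2, 1, 0, 3, 2, 1, 4, 3],
   [1, 0, 3, 2, 1, 3, 4, 3, 2, 1, 0, 3, 2, 1, 4, 3, 2],
   [1, 0, 3, 2, 1, 4, 3, 2, 3, 2, 1, 4, 3, 2, 5, 1],
   [1, 3, 2, 3, 2, 4, 3, 2, 1, 0, 3, 2, 3, 4, 5, 1],
   [1, 2, 3, 2, 1, 4, 3, 2, 1, 0, 3, 4, 5],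
   [1, 0, 3, 2, 1, 3, 4, 3, 2, 1, 3, 2, 4, 3],
   [1, 0, 3, 2, 1, 4, 3, 2, 3, 2, 4, 5, 1, 2, 3, 2, 1],
   [1, 3, 2, 3, 2, 4, 3, 2, 1, 0, 1, 0, 3, 2, 1],
   [1, 2, 3, 2, 3, 4, 3, 2, 1, 0, 3, 2, 1, 5, 1, 0, 1],
   [1, 0, 3, 2, 3, 4, 3, 2, 1, 0, 1, 0, 3, 5, 1],
   [1, 2, 3, 2, 1, 4, 3, 2, 1, 0, 1, 3, 4],
   [1, 0, 3, 2, 1, 3, 4, 3, 2, 3, 5, 1, 0, 1, 2, 1],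
   [1, 3, 2, 3, 2, 1, 4, 3, 2, 1, 3, 5, 1, 2, 3, 4],
   [1, 2, 3, 2, 1, 4, 3, 2, 1, 0, 1, 0, 3],
   [1, 0, 3, 2, 3, 4, 3, 2, 1, 0, 3, 2, 3, 5, 1],
   [1, 2, 3, 2, 1, 4, 3, 2, 1, 0, 1, 3, 2],
   [1, 0, 3, 2, 1, 3, 4, 3, 2, 1, 3, 4, 5, 1, 0, 2]]

/-- Words. -/
def caseBImgs13 : List (List ℕ) :=
  [[1, 0, 3, 2, 1, 3, 4, 3, 2, 1, 3, 5, 1, 0, 2, 3],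
   [1, 0, 3, 2, 1, 3, 4, 3, 2, 3, 4, 5, 1, 0, 2, 1],
   [1, 3, 2, 3, 2, 4, 3, 2, 1, 3, 2],
   [1, 3, 2, 3, 4, 3, 2, 1, 3, 5],
   [1, 3, 2, 3, 2, 1, 4, 3, 2, 1, 0, 1, 5],
   [1, 0, 1, 3, 2, 1, 4, 3, 2, 1, 0, 3, 5, 1],
   [1, 3, 2, 3, 2, 1, 4, 3, 2, 1, 0, 3, 4],
   [1, 2, 3, 2, 3, 4, 3, 2, 1, 0, 1, 2, 3, 2, 1],
   [1, 0, 3, 2, 1, 0, 3, 4, 3, 2, 1, 3, 2, 5, 1, 2, 3],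
   [1, 2, 3, 2, 3, 4, 3, 2, 1, 0, 3, 2, 1, 0, 3, 2, 1],
   [1, 0, 3, 2, 3, 4, 3, 2, 1, 3, 2, 3, 2, 1, 0, 1, 2],
   [1, 0, 3, 2, 1, 0, 3, 4, 3, 2, 1, 3, 5, 1, 2],
   [1, 0, 3, 2, 1, 0, 3, 4, 3, 2, 1, 0, 3, 2, 1, 0],
   [1, 2, 3, 2, 3, 4, 3, 2, 1, 0, 1, 2, 3, 2, 3],
   [1, 0, 3, 2, 1, 0, 3, 4, 3, 2, 1, 3, 5, 1, 2, 3, 4],
   [1, 0, 3, 2, 1, 0, 3, 4, 3, 2, 3, 5, 1, 2, 3],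
   [1, 2, 3, 2, 3, 4, 3, 2, 1, 0, 3, 2, 1, 0, 3, 2, 5],
   [1, 0, 3, 2, 1, 0, 3, 4, 3, 2, 3, 4, 5, 1, 2],
   [1, 0, 3, 2, 1, 0, 3, 4, 3, 2, 3, 4, 5, 1, 2, 3, 4],
   [1, 0, 3, 2, 3, 4, 3, 2, 1, 3, 2, 3, 2, 1, 4, 5],
   [1, 0, 3, 2, 1, 0, 3, 4, 3, 2, 1, 0, 3, 2],
   [1, 0, 3, 2, 1, 3, 4, 3, 2, 1, 0, 3, 2, 1, 5],
   [1, 0, 3, 2, 1, 0, 3, 4, 3, 2, 3, 5, 1, 0, 2],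
   [1, 0, 3, 2, 1, 0, 3, 4, 3, 2, 1, 0, 3, 2, 1, 5],
   [1, 0, 3, 2, 1, 0, 3, 4, 3, 2, 3, 5, 1, 0, 2, 3, 4],
   [1, 0, 3, 2, 1, 3, 4, 3, 2, 1, 0, 3, 2, 5, 1],
   [1, 0, 3, 2, 1, 3, 4, 3, 2, 1, 3, 2, 3, 5],
   [1, 0, 3, 2, 1, 3, 4, 3, 2, 1, 3, 2, 3, 4, 3, 5],
   [1, 0, 3, 2, 1, 3, 4, 3, 2, 1, 3, 2, 5, 1, 2, 3, 2, 1],
   [1, 0, 3, 2, 1, 3, 4, 3, 2, 1, 3, 2, 4, 5],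
   [1, 2, 3, 2, 3, 4, 3, 2, 1, 0, 5, 1, 2, 3, 2, 1],
   [1, 3, 2, 4, 3, 2, 1, 0, 1, 2, 3, 5, 1],
   [1, 0, 3, 2, 1, 3, 4, 3, 2, 1, 0, 3, 2, 1, 4, 3, 5],
   [1, 3, 2, 4, 3, 2, 1, 0, 1, 2, 5],
   [1, 3, 2, 3, 4, 3, 2, 1, 0, 5, 1, 0, 1, 2, 1],
   [1, 2, 3, 2, 3, 4, 3, 2, 1, 0, 1, 3, 2, 3, 2, 4],
   [1, 2, 3, 2, 3, 4, 3, 2, 1, 0, 5, 1, 2, 3, 2, 3],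
   [1, 0, 3, 2, 1, 0, 4, 3, 2, 1, 3, 2, 3, 2],
   [1, 0, 3, 2, 1, 3, 4, 3, 2, 1, 3, 5, 1, 0, 2, 1, 3],
   [1, 0, 3, 2, 3, 4, 3, 2, 1, 3, 2, 3, 2, 4, 5],
   [1, 0, 3, 2, 1, 0, 3, 4, 3, 2, 1, 0, 3, 2, 1, 5, 1],
   [1, 0, 3, 2, 1, 3, 4, 3, 2, 1, 0, 3, 2, 5],
   [1, 0, 3, 2, 1, 3, 4, 3, 2, 1, 0, 3, 2, 4, 3, 5],
   [1, 3, 2, 3, 2, 1, 4, 3, 2, 1, 3, 2, 3, 5, 1, 2, 3],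
   [1, 2, 3, 2, 3, 4, 3, 2, 1, 0, 1, 0, 3, 2, 1],
   [1, 3, 2, 3, 4, 3, 2, 1, 0, 1, 0, 3, 5, 1],
   [1, 0, 3, 2, 3, 4, 3, 2, 1, 0, 3, 2, 5, 1, 0, 2, 1],
   [1, 2, 3, 2, 1, 4, 3, 2, 1, 0, 5, 1, 0, 1, 2, 3],
   [1, 3, 2, 3, 2, 1, 4, 3, 2, 1, 0, 3, 2, 4],
   [1, 2, 3, 2, 3, 4, 3, 2, 1, 0, 1, 0, 5],
   [1, 0, 3, 2, 1, 4, 3, 2, 3, 4, 5, 1, 2, 3, 2, 3, 4],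
   [1, 3, 2, 4, 3, 2, 1, 0, 5, 1, 0, 2, 1, 0],
   [1, 3, 2, 3, 2, 4, 3, 2, 1, 0, 3, 2, 5, 1, 0, 2, 1],
   [1, 2, 3, 2, 3, 4, 3, 2, 1, 0, 3, 2, 1, 3, 4],
   [1, 0, 3, 2, 1, 3, 4, 3, 2, 1, 3, 5, 1, 2, 3, 2, 1],
   [1, 0, 3, 2, 4, 3, 2, 1, 0, 5, 1],
   [1, 0, 3, 2, 1, 0, 3, 4, 3, 2, 1, 0, 1, 3],
   [1, 3, 2, 3, 2, 1, 0, 4, 3, 2, 1, 5, 1, 0],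
   [1, 0, 3, 2, 1, 4, 3, 2, 1, 0, 5],
   [1, 0, 3, 2, 1, 4, 3, 2, 3, 2, 1, 0, 4, 3, 2],
   [1, 0, 3, 2, 1, 4, 3, 2, 3, 4, 5, 1, 0, 2],
   [1, 0, 3, 2, 1, 4, 3, 2, 1, 0, 1, 0, 5],
   [1, 3, 2, 3, 2, 4, 3, 2, 1, 0, 1, 3, 2, 1, 0],
   [1, 0, 3, 2, 4, 3, 2, 1, 0, 1, 0, 5, 1, 2]]

/-- Words. -/
def caseBImgs14 : List (List ℕ) :=
  [[1, 0, 3, 2, 1, 4, 3, 2, 3, 2, 1, 0, 4],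
   [1, 0, 3, 2, 1, 3, 4, 3, 2, 3, 4, 5, 1, 0],
   [1, 0, 3, 2, 1, 4, 3, 2, 1, 0, 1, 3, 5],
   [1, 0, 3, 2, 1, 4, 3, 2, 1, 3, 4, 5, 1, 0],
   [1, 0, 3, 2, 1, 4, 3, 2, 3, 2, 1, 0, 4, 3, 5],
   [1, 0, 3, 2, 1, 4, 3, 2, 1, 0, 1],
   [1, 0, 3, 2, 3, 4, 3, 2, 1, 0, 3, 2, 1, 0, 3],
   [1, 2, 3, 2, 3, 4, 3, 2, 1, 0, 5, 1, 0],
   [1, 0, 3, 2, 1, 0, 4, 3, 2, 1, 0, 5],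
   [1, 0, 3, 2, 1, 3, 4, 3, 2, 3, 5, 1, 0, 1],
   [1, 0, 3, 2, 1, 3, 4, 3, 2, 1, 0, 3, 2, 1, 0, 4, 5],
   [1, 0, 3, 2, 3, 4, 3, 2, 1, 0, 1, 5],
   [1, 2, 3, 2, 3, 4, 3, 2, 1, 0, 3, 2, 1, 3, 5, 1],
   [1, 3, 2, 3, 2, 4, 3, 2, 1, 0, 1, 3, 2, 3],
   [1, 3, 2, 3, 4, 3, 2, 1, 0, 3, 5, 1, 2],
   [1, 2, 3, 2, 3, 4, 3, 2, 1, 0, 3, 2, 1, 5],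
   [1, 2, 3, 2, 3, 4, 3, 2, 1, 0, 3, 2, 1, 3],
   [1, 0, 3, 2, 3, 4, 3, 2, 1, 0, 5, 1],
   [1, 3, 2, 3, 2, 4, 3, 2, 1, 0, 1, 3, 2, 1, 3, 5],
   [1, 2, 3, 2, 3, 4, 3, 2, 1, 0, 1, 5, 1],
   [1, 0, 3, 2, 3, 4, 3, 2, 1, 0, 3, 2, 1, 3, 5],
   [1, 0, 3, 2, 3, 4, 3, 2, 1, 0, 3, 2, 1, 0, 5],
   [1, 0, 3, 2, 1, 3, 4, 3, 2, 1, 0, 5, 1, 2, 3],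
   [1, 3, 2, 3, 4, 3, 2, 1, 0, 1, 3, 2, 1, 0],
   [1, 3, 2, 3, 2, 4, 3, 2, 1, 0, 3, 5, 1, 0, 2],
   [1, 0, 3, 2, 1, 4, 3, 2, 3, 2, 1, 4, 3, 5],
   [1, 0, 3, 2, 1, 4, 3, 2, 1, 3, 4, 5, 1],
   [1, 0, 3, 2, 1, 3, 4, 3, 2, 3, 5, 1, 0, 2, 3],
   [1, 3, 2, 3, 2, 4, 3, 2, 1, 0, 3, 2, 1, 0],
   [1, 0, 3, 2, 3, 4, 3, 2, 1, 0, 5, 1, 2, 3, 2],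
   [1, 0, 3, 2, 3, 4, 3, 2, 1, 0, 3, 5, 1, 0, 2],
   [1, 3, 2, 3, 4, 3, 2, 1, 0, 1, 3, 5, 1, 0],
   [1, 2, 3, 2, 3, 4, 3, 2, 1, 0, 3, 2, 1, 0],
   [1, 0, 3, 2, 3, 4, 3, 2, 1, 0, 3, 5, 1, 0],
   [1, 3, 2, 3, 2, 4, 3, 2, 1, 0, 3, 2, 1, 3, 4, 5],
   [1, 2, 3, 2, 3, 4, 3, 2, 1, 0, 3, 2, 1, 0, 1, 3],
   [1, 0, 3, 2, 1, 4, 3, 2, 3, 2, 1, 0, 4, 3, 2, 1, 5, 1],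
   [1, 0, 3, 2, 3, 4, 3, 2, 1, 0, 5, 1, 0, 1],
   [1, 2, 3, 2, 3, 4, 3, 2, 1, 0, 3, 2, 1, 3, 4, 5, 1],
   [1, 0, 3, 2, 4, 3, 2, 1, 0, 1, 5],
   [1, 3, 2, 3, 2, 4, 3, 2, 1, 0, 1, 3, 2, 3, 4],
   [1, 0, 3, 2, 3, 4, 3, 2, 1, 0, 5, 1, 2, 3],
   [1, 0, 3, 2, 1, 3, 4, 3, 2, 5, 1, 0, 1, 0],
   [1, 0, 3, 2, 1, 3, 4, 3, 2, 3, 5, 1, 2, 3, 2],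
   [1, 0, 3, 2, 1, 4, 3, 2, 3, 2, 1, 0, 4, 3, 2, 5],
   [1, 0, 3, 2, 1, 4, 3, 2, 1, 0, 1, 0],
   [1, 0, 3, 2, 1, 4, 3, 2, 1, 0, 1, 5],
   [1, 3, 2, 3, 2, 1, 4, 3, 2, 1, 3, 5, 1, 2, 3],
   [1, 0, 3, 2, 1, 4, 3, 2, 3, 4, 5, 1, 2],
   [1, 0, 3, 2, 1, 4, 3, 2, 3, 2, 1, 4, 3, 2],
   [1, 0, 3, 2, 3, 4, 3, 2, 1, 0, 3, 2, 1, 0, 1, 3],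
   [1, 0, 3, 2, 1, 4, 3, 2, 3, 2, 1, 0, 4, 3, 2, 5, 1],
   [1, 3, 2, 4, 3, 2, 1, 0, 1, 0, 5, 1],
   [1, 0, 3, 2, 1, 3, 4, 3, 2, 1, 0, 1, 0, 5, 1],
   [1, 3, 2, 3, 2, 4, 3, 2, 1, 0, 3, 2, 1, 0, 5],
   [1, 0, 1, 3, 2, 1, 0, 4, 3, 2, 1, 0, 5],
   [1, 3, 2, 3, 4, 3, 2, 1, 0, 3, 2, 1, 0, 3],
   [1, 0, 3, 2, 1, 3, 4, 3, 2, 3, 4, 5, 1, 2, 3, 2],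
   [1, 3, 2, 3, 2, 1, 4, 3, 2, 1, 5, 1, 0],
   [1, 0, 3, 2, 3, 4, 3, 2, 1, 0, 1, 3, 5, 1],
   [1, 3, 2, 3, 4, 3, 2, 1, 0, 1, 0, 5, 1],
   [1, 2, 3, 2, 3, 4, 3, 2, 1, 0, 3, 2, 1, 0, 5],
   [1, 0, 3, 2, 1, 4, 3, 2, 1, 0, 1, 0, 5, 1],
   [1, 3, 2, 3, 2, 4, 3, 2, 1, 0, 1, 0, 5, 1, 2]]

/-- Words. -/
def caseBImgs15 : List (List ℕ) :=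
  [[1, 0, 3, 2, 3, 4, 3, 2, 1, 0, 1, 0, 5, 1, 2, 3],
   [1, 3, 2, 4, 3, 2, 1, 0, 1, 0, 5, 1, 0],
   [1, 0, 3, 2, 1, 4, 3, 2, 3, 4, 5, 1, 0, 2, 1, 3],
   [1, 3, 2, 4, 3, 2, 1, 0, 1, 0, 5, 1, 2],
   [1, 3, 2, 3, 2, 4, 3, 2, 1, 0, 1, 3, 2, 1, 0, 5],
   [1, 2, 3, 2, 3, 4, 3, 2, 1, 0, 1, 3, 2, 1, 3, 4],
   [1, 2, 3, 2, 3, 4, 3, 2, 1, 0, 5, 1, 0, 1],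
   [1, 3, 2, 3, 2, 1, 4, 3, 2, 1, 3, 2, 5, 1],
   [1, 0, 3, 2, 1, 4, 3, 2, 3, 2, 4, 5, 1, 2, 3, 2],
   [1, 0, 3, 2, 1, 4, 3, 2, 1, 5, 1, 0],
   [1, 0, 3, 2, 1, 3, 4, 3, 2, 1, 0, 5],
   [1, 3, 2, 3, 2, 1, 0, 4, 3, 2, 1, 3, 5, 1],
   [1, 0, 3, 2, 3, 4, 3, 2, 1, 0, 1, 2],
   [1, 0, 3, 2, 1, 4, 3, 2, 1, 3, 5],
   [1, 0, 3, 2, 1, 3, 4, 3, 2, 1, 3, 5, 1, 0, 1, 2, 3],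
   [1, 3, 2, 3, 2, 1, 4, 3, 2, 1, 3, 2, 5, 1, 2, 3, 4],
   [1, 0, 3, 2, 1, 4, 3, 2, 3, 4, 5, 1],
   [1, 2, 3, 2, 3, 4, 3, 2, 1, 0, 1, 0, 5, 1, 2],
   [1, 3, 2, 4, 3, 2, 1, 0, 5, 1, 0, 1, 5],
   [1, 2, 3, 2, 3, 4, 3, 2, 1, 3, 2, 3, 2, 5, 1],
   [1, 3, 2, 3, 2, 1, 4, 3, 2, 1, 3, 5, 1],
   [1, 0, 3, 2, 3, 4, 3, 2, 1, 0, 5, 1, 2],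
   [1, 0, 3, 2, 1, 4, 3, 2, 3, 2, 1, 5],
   [1, 3, 2, 3, 4, 3, 2, 1, 0, 3, 2, 1],
   [1, 0, 3, 2, 1, 4, 3, 2, 3, 4, 5, 1, 2, 3, 2],
   [1, 2, 3, 2, 4, 3, 2, 1, 0, 1, 0, 5, 1, 2],
   [1, 3, 2, 3, 2, 4, 3, 2, 1, 0, 1, 3, 2, 1],
   [1, 0, 3, 2, 3, 4, 3, 2, 1, 0, 1, 2, 3, 5, 1],
   [1, 0, 3, 2, 1, 4, 3, 2, 1, 0, 3, 4, 5],
   [1, 0, 3, 2, 1, 0, 4, 3, 2, 1, 0, 1],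
   [1, 0, 3, 2, 1, 4, 3, 2, 3, 2, 4, 5, 1, 2, 3],
   [1, 0, 3, 2, 1, 3, 4, 3, 2, 1, 3, 4, 5],
   [1, 0, 3, 2, 1, 4, 3, 2, 3, 2, 1, 4, 5, 1],
   [1, 0, 3, 2, 4, 3, 2, 1, 0, 1, 2, 3],
   [1, 0, 3, 2, 1, 4, 3, 2, 3, 2, 4, 3, 5, 1],
   [1, 0, 3, 2, 4, 3, 2, 1, 0, 1, 2, 5],
   [1, 0, 3, 2, 1, 4, 3, 2, 1, 3, 4],
   [1, 0, 3, 2, 1, 3, 4, 3, 2, 3, 4, 5, 1, 0, 2],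
   [1, 0, 3, 2, 1, 3, 4, 3, 2, 1, 3, 5, 1, 0, 1],
   [1, 0, 3, 2, 1, 4, 3, 2, 1, 0, 3, 4],
   [1, 0, 3, 2, 1, 0, 4, 3, 2, 1, 0, 1, 5],
   [1, 0, 3, 2, 1, 3, 4, 3, 2, 1, 0, 1, 0, 3, 5],
   [1, 0, 1, 3, 2, 4, 3, 2, 1, 0, 1, 5, 1, 2],
   [1, 3, 2, 3, 2, 1, 0, 4, 3, 2, 1, 0, 3, 2, 3],
   [1, 2, 3, 2, 4, 3, 2, 1, 0, 1, 5, 1],
   [1, 0, 3, 2, 3, 4, 3, 2, 1, 0, 3, 2, 1, 3, 4, 5],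
   [1, 3, 2, 3, 2, 1, 0, 4, 3, 2, 1, 3, 2],
   [1, 3, 2, 3, 4, 3, 2, 1, 0, 5, 1, 0, 2],
   [1, 0, 3, 2, 1, 3, 4, 3, 2, 1, 0, 1, 3, 2, 3],
   [1, 3, 2, 3, 2, 1, 0, 4, 3, 2, 1, 0, 3, 2, 5],
   [1, 2, 3, 2, 4, 3, 2, 1, 0, 5, 1, 0],
   [1, 0, 3, 2, 1, 3, 4, 3, 2, 1, 0, 1, 0, 5],
   [1, 3, 2, 3, 2, 1, 0, 4, 3, 2, 1, 0, 3, 2],
   [1, 0, 3, 2, 1, 4, 3, 2, 3, 5, 1, 0, 2],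
   [1, 3, 2, 3, 4, 3, 2, 1, 0, 3, 5, 1, 0],
   [1, 0, 3, 2, 1, 4, 3, 2, 3, 2, 1, 4, 3, 2, 5],
   [1, 0, 3, 2, 3, 4, 3, 2, 1, 0, 3, 2, 1, 3],
   [1, 2, 3, 2, 3, 4, 3, 2, 1, 0, 5, 1],
   [1, 3, 2, 3, 2, 4, 3, 2, 1, 0, 1, 3, 5, 1, 2, 3],
   [1, 0, 1, 3, 2, 4, 3, 2, 1, 0, 1, 5],
   [1, 3, 2, 3, 2, 1, 4, 3, 2, 1, 3, 2, 3],
   [1, 0, 3, 2, 1, 4, 3, 2, 3, 4, 5, 1, 0, 2, 3, 2],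
   [1, 3, 2, 3, 2, 1, 4, 3, 2, 1, 0, 3, 2],
   [1, 2, 3, 2, 4, 3, 2, 1, 0, 1, 0, 5]]

/-- Words. -/
def caseBImgs16 : List (List ℕ) :=
  [[1, 2, 3, 2, 3, 4, 3, 2, 1, 0, 1, 3, 2, 3, 5],
   [1, 3, 2, 3, 2, 4, 3, 2, 1, 0, 3, 2, 3, 5, 1],
   [1, 3, 2, 3, 4, 3, 2, 1, 0, 1],
   [1, 0, 3, 2, 3, 4, 3, 2, 1, 0, 3, 2, 1, 5, 1, 2, 3],
   [1, 3, 2, 4, 3, 2, 1, 0, 5, 1, 0, 2, 1, 5],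
   [1, 3, 2, 3, 2, 4, 3, 2, 1, 0, 3, 2, 5],
   [1, 3, 2, 3, 4, 3, 2, 1, 0, 3],
   [1, 2, 3, 2, 3, 4, 3, 2, 1, 0, 1, 3, 2, 5, 1],
   [1, 3, 2, 3, 2, 4, 3, 2, 1, 3, 5],
   [1, 3, 2, 3, 4, 3, 2, 1, 3, 2],
   [1, 3, 2, 3, 2, 1, 4, 3, 2, 3, 4, 5, 1, 2, 3, 2],
   [1, 0, 3, 2, 3, 4, 3, 2, 1, 0, 1, 3, 2, 1, 5, 1, 0],
   [1, 0, 1, 3, 2, 1, 0, 4, 3, 2, 1, 5, 1, 2, 3],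
   [1, 0, 3, 2, 1, 3, 4, 3, 2, 1, 0, 1, 3, 2, 1, 0],
   [1, 2, 3, 2, 3, 4, 3, 2, 1, 0, 3, 2, 1, 3, 5, 1, 2],
   [1, 2, 3, 2, 3, 4, 3, 2, 1, 0, 1, 3, 2, 1, 3, 2],
   [1, 3, 2, 3, 2, 4, 3, 2, 1, 0, 3, 2, 1, 3, 2, 5],
   [1, 3, 2, 3, 4, 3, 2, 1, 0, 1, 5, 1, 2],
   [1, 3, 2, 3, 4, 3, 2, 1, 0, 5, 1],
   [1, 3, 2, 3, 2, 4, 3, 2, 1, 0, 3, 2, 1, 3],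
   [1, 3, 2, 4, 3, 2, 1, 0, 1, 5, 1, 0, 2],
   [1, 3, 2, 3, 4, 3, 2, 1, 0, 1, 5, 1, 0],
   [1, 3, 2, 3, 2, 4, 3, 2, 1, 0, 3, 2, 1, 0, 3, 5],
   [1, 3, 2, 4, 3, 2, 1, 0, 5, 1, 2],
   [1, 0, 3, 2, 3, 4, 3, 2, 1, 0, 3, 5, 1, 0, 2, 3],
   [1, 2, 3, 2, 3, 4, 3, 2, 1, 0, 1, 3, 2, 1, 0, 3],
   [1, 0, 3, 2, 1, 4, 3, 2, 3, 4, 5, 1, 0, 2, 1],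
   [1, 2, 3, 2, 4, 3, 2, 1, 0, 1, 0, 5, 1],
   [1, 3, 2, 3, 4, 3, 2, 1, 0, 5, 1, 0, 1, 2, 3],
   [1, 0, 3, 2, 1, 0, 3, 4, 3, 2, 1, 3, 2, 5],
   [1, 0, 3, 2, 3, 4, 3, 2, 1, 3, 2, 3, 2, 1, 0, 4],
   [1, 0, 3, 2, 1, 3, 4, 3, 2, 1, 0, 3, 2, 1, 0, 4, 3],
   [1, 0, 3, 2, 1, 3, 4, 3, 2, 1, 0, 3, 2, 1, 0],
   [1, 0, 3, 2, 1, 0, 3, 4, 3, 2, 3, 5, 1, 2],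
   [1, 0, 3, 2, 1, 0, 3, 4, 3, 2, 1, 0, 3, 2, 1, 0, 5],
   [1, 0, 3, 2, 1, 0, 3, 4, 3, 2, 3, 4, 5, 1, 2, 3],
   [1, 0, 3, 2, 1, 0, 3, 4, 3, 2, 3, 5, 1, 2, 3, 4],
   [1, 0, 3, 2, 1, 0, 1, 4, 3, 2, 1, 3, 2],
   [1, 0, 3, 2, 1, 3, 4, 3, 2, 1, 3, 2, 3, 5, 1, 2, 3, 2],
   [1, 0, 3, 2, 1, 3, 4, 3, 2, 1, 3, 2, 5, 1],
   [1, 0, 3, 2, 1, 3, 4, 3, 2, 1, 3, 2, 3, 4, 5, 1],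
   [1, 0, 3, 2, 1, 3, 4, 3, 2, 1, 3, 2, 4, 3, 5, 1],
   [1, 0, 3, 2, 1, 3, 4, 3, 2, 1, 3, 4, 5, 1, 2, 3],
   [1, 0, 3, 2, 1, 3, 4, 3, 2, 1, 3, 5, 1, 2, 3, 4],
   [1, 0, 3, 2, 1, 3, 4, 3, 2, 1, 3, 5, 1, 2],
   [1, 0, 3, 2, 1, 0, 1, 4, 3, 2, 1, 3, 2, 5],
   [1, 3, 2, 3, 2, 1, 4, 3, 2, 3, 5, 1, 0, 2, 1, 0],
   [1, 2, 3, 2, 3, 4, 3, 2, 1, 0, 1, 3, 2, 5, 1, 2],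
   [1, 0, 3, 2, 1, 0, 3, 4, 3, 2, 5, 1, 0, 1, 2],
   [1, 3, 2, 4, 3, 2, 1, 0, 1, 0],
   [1, 3, 2, 3, 2, 4, 3, 2, 1, 0, 3, 2, 3, 4, 5, 1, 0],
   [1, 0, 3, 2, 1, 4, 3, 2, 3, 2, 4, 5, 1, 2],
   [1, 0, 3, 2, 3, 4, 3, 2, 1, 0, 1, 3, 2, 5, 1, 0],
   [1, 3, 2, 4, 3, 2, 1, 0, 1, 0, 2, 5, 1],
   [1, 0, 3, 2, 1, 3, 4, 3, 2, 1, 3, 2, 4],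
   [1, 0, 3, 2, 1, 4, 3, 2, 3, 4, 5, 1, 2, 3, 2, 3],
   [1, 0, 3, 2, 1, 3, 4, 3, 2, 3, 4, 5, 1, 2, 3, 4],
   [1, 0, 3, 2, 1, 0, 1, 4, 3, 2, 1, 3, 2, 3],
   [1, 0, 3, 2, 1, 3, 4, 3, 2, 3, 5, 1, 2, 3],
   [1, 0, 3, 2, 1, 3, 4, 3, 2, 1, 3, 5, 1, 0, 2, 1],
   [1, 0, 3, 2, 1, 0, 1, 4, 3, 2, 1, 0, 3, 2],
   [1, 3, 2, 3, 2, 1, 0, 4, 3, 2, 1, 0, 3, 5],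
   [1, 0, 3, 2, 1, 3, 4, 3, 2, 1, 0, 1],
   [1, 0, 3, 2, 1, 4, 3, 2, 1, 3, 5, 1, 0]]

/-- Words. -/
def caseBImgs17 : List (List ℕ) :=
  [[1, 0, 3, 2, 1, 3, 4, 3, 2, 3, 5, 1, 2, 3, 4],
   [1, 3, 2, 3, 4, 3, 2, 1, 0, 1, 3, 5, 1, 0, 2],
   [1, 3, 2, 3, 2, 4, 3, 2, 1, 0, 3, 2, 5, 1],
   [1, 2, 3, 2, 3, 4, 3, 2, 1, 0, 1, 3, 2, 5],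
   [1, 3, 2, 3, 4, 3, 2, 1, 0, 1, 3],
   [1, 0, 3, 2, 3, 4, 3, 2, 1, 0, 3, 2, 1, 5, 1, 2],
   [1, 0, 3, 2, 1, 4, 3, 2, 3, 2, 4, 5, 1],
   [1, 0, 3, 2, 4, 3, 2, 1, 0, 1, 2, 3, 5],
   [1, 0, 3, 2, 1, 3, 4, 3, 2, 1, 3, 4],
   [1, 0, 3, 2, 3, 4, 3, 2, 1, 0, 1, 3, 2, 5, 1, 0, 2],
   [1, 0, 3, 2, 1, 3, 4, 3, 2, 3, 4, 5, 1, 0, 2, 3],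
   [1, 3, 2, 3, 4, 3, 2, 1, 0, 1, 3, 5],
   [1, 2, 3, 2, 3, 4, 3, 2, 1, 0, 1, 3, 2],
   [1, 3, 2, 3, 2, 4, 3, 2, 1, 0, 3, 2, 1, 5, 1],
   [1, 0, 3, 2, 3, 4, 3, 2, 1, 0, 3, 2, 5, 1, 2],
   [1, 2, 3, 2, 3, 4, 3, 2, 1, 0, 1, 0, 3, 2],
   [1, 3, 2, 3, 2, 4, 3, 2, 1, 0, 3, 2, 1, 5, 1, 0],
   [1, 3, 2, 3, 4, 3, 2, 1, 0, 1, 0, 3, 5],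
   [1, 0, 3, 2, 3, 4, 3, 2, 1, 0, 3, 2, 5, 1, 0, 2],
   [1, 0, 3, 2, 4, 3, 2, 1, 0, 1, 0, 5],
   [1, 3, 2, 3, 2, 1, 4, 3, 2, 1, 0, 3, 2, 1, 0, 1],
   [1, 2, 3, 2, 3, 4, 3, 2, 1, 0, 3, 2, 1, 3, 4, 5, 1, 0],
   [1, 0, 3, 2, 1, 4, 3, 2, 3, 4, 5, 1, 0, 1],
   [1, 0, 3, 2, 3, 4, 3, 2, 1, 0, 1, 3, 2, 1, 3, 5],
   [1, 3, 2, 3, 2, 1, 4, 3, 2, 3, 4, 5, 1, 2, 3],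
   [1, 0, 3, 2, 1, 3, 4, 3, 2, 1, 0, 1, 3, 4],
   [1, 3, 2, 4, 3, 2, 1, 0, 1, 5, 1],
   [1, 0, 3, 2, 4, 3, 2, 1, 0, 1],
   [1, 0, 3, 2, 1, 3, 4, 3, 2, 3, 5, 1, 2, 3, 2, 1],
   [1, 3, 2, 3, 2, 1, 0, 4, 3, 2, 5, 1, 0, 2, 1],
   [1, 2, 3, 2, 3, 4, 3, 2, 1, 0, 3, 2, 3, 4, 5, 1],
   [1, 3, 2, 3, 2, 1, 4, 3, 2, 1, 0, 3, 2, 4, 5],
   [1, 2, 3, 2, 3, 4, 3, 2, 1, 0, 1, 0],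
   [1, 0, 3, 2, 1, 0, 4, 3, 2, 5, 1, 0, 1, 2],
   [1, 0, 3, 2, 3, 4, 3, 2, 1, 0, 3, 2, 3, 5, 1, 0],
   [1, 2, 3, 2, 3, 4, 3, 2, 1, 0, 3, 2, 5, 1, 0, 2, 1],
   [1, 3, 2, 3, 2, 4, 3, 2, 1, 0, 1, 0, 3],
   [1, 2, 3, 2, 3, 4, 3, 2, 1, 0, 3, 2, 1, 5, 1, 0, 2],
   [1, 3, 2, 3, 4, 3, 2, 1, 0, 3, 2, 5, 1, 0],
   [1, 0, 3, 2, 3, 4, 3, 2, 1, 0, 1, 0, 3, 2, 5],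
   [1, 2, 3, 2, 3, 4, 3, 2, 1, 0, 1, 5],
   [1, 3, 2, 3, 2, 1, 4, 3, 2, 1, 3, 2, 4],
   [1, 0, 3, 2, 3, 4, 3, 2, 1, 0, 3, 2, 1, 3, 5, 1],
   [1, 3, 2, 3, 2, 4, 3, 2, 1, 0, 3, 2, 5, 1, 2, 3],
   [1, 2, 3, 2, 3, 4, 3, 2, 1, 0, 3, 5],
   [1, 0, 3, 2, 3, 4, 3, 2, 1, 0, 3, 2],
   [1, 3, 2, 3, 2, 4, 3, 2, 1, 0, 1, 3, 2, 5, 1, 2],
   [1, 3, 2, 3, 4, 3, 2, 1, 0, 1, 3, 2, 1, 5, 1],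
   [1, 2, 3, 2, 3, 4, 3, 2, 1, 3, 2, 3, 2, 5, 1, 0],
   [1, 0, 3, 2, 3, 4, 3, 2, 1, 0, 1, 0, 5, 1, 2],
   [1, 2, 3, 2, 3, 4, 3, 2, 1, 0, 1, 3, 2, 1, 0],
   [1, 0, 3, 2, 4, 3, 2, 1, 0, 5, 1, 0, 1],
   [1, 2, 3, 2, 3, 4, 3, 2, 1, 0, 1, 3, 2, 1, 3, 5],
   [1, 3, 2, 3, 2, 4, 3, 2, 1, 0, 1, 5, 1, 2],
   [1, 2, 3, 2, 3, 4, 3, 2, 1, 3, 2, 3, 2, 1, 5],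
   [1, 0, 3, 2, 3, 4, 3, 2, 1, 0, 1, 3, 2, 1, 0, 3],
   [1, 3, 2, 4, 3, 2, 1, 0, 5, 1, 0],
   [1, 2, 3, 2, 3, 4, 3, 2, 1, 0, 3, 2, 1, 5, 1, 0],
   [1, 3, 2, 3, 2, 4, 3, 2, 1, 0, 1, 0, 3, 2],
   [1, 0, 3, 2, 3, 4, 3, 2, 1, 0, 1, 0, 3, 5],
   [1, 3, 2, 3, 2, 4, 3, 2, 1, 0, 3, 5, 1, 2, 3],
   [1, 3, 2, 4, 3, 2, 1, 0, 5, 1, 0, 2, 1, 0, 3],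
   [1, 3, 2, 3, 2, 4, 3, 2, 1, 0, 1, 3, 2, 5],
   [1, 2, 3, 2, 3, 4, 3, 2, 1, 0, 3, 2, 5, 1]]

/-- Words. -/
def caseBImgs18 : List (List ℕ) :=
  [[1, 0, 3, 2, 3, 4, 3, 2, 1, 0, 1, 3],
   [1, 3, 2, 3, 4, 3, 2, 1, 0, 3, 2, 1, 5, 1, 2],
   [1, 3, 2, 3, 4, 3, 2, 1, 0, 3, 5],
   [1, 3, 2, 3, 2, 4, 3, 2, 1, 0, 3, 2],
   [1, 2, 3, 2, 3, 4, 3, 2, 1, 0, 1, 3, 2, 1, 5, 1],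
   [1, 3, 2, 3, 2, 4, 3, 2, 1, 0, 1, 3],
   [1, 3, 2, 3, 4, 3, 2, 1, 0, 3, 2, 5, 1],
   [1, 0, 3, 2, 3, 4, 3, 2, 1, 0, 1, 3, 2, 5],
   [1, 2, 3, 2, 3, 4, 3, 2, 1, 0, 3, 2, 1, 5, 1, 2],
   [1, 0, 3, 2, 4, 3, 2, 1, 0, 5],
   [1, 2, 3, 2, 3, 4, 3, 2, 1, 0, 3, 2, 3, 4],
   [1, 3, 2, 3, 2, 1, 0, 4, 3, 2, 1, 5, 1, 0, 2],
   [1, 0, 3, 2, 1, 3, 4, 3, 2, 1, 3, 5, 1, 2, 3, 2],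
   [1, 3, 2, 3, 4, 3, 2, 1, 0, 1, 0, 5, 1, 2],
   [1, 2, 3, 2, 3, 4, 3, 2, 1, 0, 1, 0, 5, 1, 2, 3],
   [1, 2, 3, 2, 3, 4, 3, 2, 1, 0, 1, 3, 2, 1, 0, 5],
   [1, 3, 2, 3, 2, 4, 3, 2, 1, 0, 3, 2, 1, 3, 4],
   [1, 3, 2, 4, 3, 2, 1, 0, 5, 1],
   [1, 3, 2, 3, 4, 3, 2, 1, 0, 1, 5, 1, 0, 2],
   [1, 3, 2, 3, 2, 1, 4, 3, 2, 1, 3, 5, 1, 0, 2, 1],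
   [1, 3, 2, 3, 2, 4, 3, 2, 1, 0, 3, 2, 1, 3, 4, 5, 1],
   [1, 3, 2, 4, 3, 2, 1, 0, 1, 5],
   [1, 2, 3, 2, 3, 4, 3, 2, 1, 0, 1, 3, 2, 3, 4],
   [1, 2, 3, 2, 3, 4, 3, 2, 1, 0, 3, 5, 1, 0, 2, 3],
   [1, 3, 2, 3, 4, 3, 2, 1, 0, 5, 1, 0, 2, 1],
   [1, 0, 1, 3, 2, 1, 0, 4, 3, 2, 1, 0, 5, 1],
   [1, 0, 3, 2, 1, 3, 4, 3, 2, 1, 0, 3, 4],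
   [1, 0, 3, 2, 1, 3, 4, 3, 2, 3, 4, 5, 1, 2, 3],
   [1, 0, 3, 2, 1, 3, 4, 3, 2, 1, 5, 1, 0, 1],
   [1, 0, 3, 2, 3, 4, 3, 2, 1, 0, 1, 3, 2, 5, 1, 2],
   [1, 3, 2, 3, 2, 4, 3, 2, 1, 0, 1, 3, 5],
   [1, 0, 3, 2, 3, 4, 3, 2, 1, 0, 1, 3, 2],
   [1, 3, 2, 3, 4, 3, 2, 1, 0, 3, 2, 1, 5, 1],
   [1, 2, 3, 2, 3, 4, 3, 2, 1, 0, 3, 2, 5, 1, 2],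
   [1, 0, 3, 2, 1, 4, 3, 2, 1, 0, 1, 0, 3],
   [1, 0, 3, 2, 1, 4, 3, 2, 3, 2, 1, 4, 5],
   [1, 0, 3, 2, 1, 3, 4, 3, 2, 1, 3, 4, 5, 1],
   [1, 0, 3, 2, 1, 3, 4, 3, 2, 3, 5, 1, 0, 2],
   [1, 0, 3, 2, 1, 4, 3, 2, 3, 2, 1, 0, 5],
   [1, 0, 3, 2, 1, 4, 3, 2, 1, 0, 1, 3, 4],
   [1, 0, 3, 2, 1, 3, 4, 3, 2, 1, 3, 5, 1, 0],
   [1, 0, 3, 2, 1, 3, 4, 3, 2, 3, 4, 5, 1, 2],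
   [1, 0, 3, 2, 3, 4, 3, 2, 1, 0, 1, 3, 5, 1, 2, 3],
   [1, 0, 3, 2, 3, 4, 3, 2, 1, 0, 1, 3, 2, 1, 0, 5],
   [1, 3, 2, 3, 4, 3, 2, 1, 0, 3, 2, 1, 0],
   [1, 3, 2, 3, 2, 4, 3, 2, 1, 0, 3, 5, 1, 0],
   [1, 0, 3, 2, 1, 3, 4, 3, 2, 1, 0, 5, 1, 2, 3, 2],
   [1, 3, 2, 3, 4, 3, 2, 1, 0, 3, 2, 1, 0, 1, 3],
   [1, 0, 3, 2, 3, 4, 3, 2, 1, 0, 1, 3, 2, 1, 0, 3, 5, 1],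
   [1, 3, 2, 3, 4, 3, 2, 1, 0, 1, 3, 2, 5, 1, 0, 2],
   [1, 3, 2, 3, 2, 4, 3, 2, 1, 0, 5, 1, 0, 1],
   [1, 2, 3, 2, 3, 4, 3, 2, 1, 0, 1, 3, 5, 1],
   [1, 0, 3, 2, 3, 4, 3, 2, 1, 0, 3, 2, 1, 5],
   [1, 3, 2, 3, 4, 3, 2, 1, 0, 1, 3, 2, 1],
   [1, 3, 2, 3, 2, 4, 3, 2, 1, 0, 3, 5, 1, 2],
   [1, 3, 2, 3, 2, 4, 3, 2, 1, 0, 1, 3, 5, 1, 2],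
   [1, 3, 2, 3, 4, 3, 2, 1, 0, 1, 3, 2, 1, 5],
   [1, 2, 3, 2, 3, 4, 3, 2, 1, 0, 3, 5, 1],
   [1, 0, 3, 2, 3, 4, 3, 2, 1, 0, 3, 2, 1],
   [1, 3, 2, 3, 2, 4, 3, 2, 1, 0, 1, 3, 5, 1, 0],
   [1, 3, 2, 3, 4, 3, 2, 1, 0, 3, 2, 1, 0, 5],
   [1, 0, 3, 2, 3, 4, 3, 2, 1, 0, 1, 3, 2, 1, 0],
   [1, 3, 2, 4, 3, 2, 1, 0, 5, 1, 2, 3],
   [1, 2, 3, 2, 3, 4, 3, 2, 1, 0, 3, 5, 1, 0, 2]]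

/-- Words. -/
def caseBImgs19 : List (List ℕ) :=
  [[1, 3, 2, 3, 2, 4, 3, 2, 1, 0, 1, 3, 5, 1],
   [1, 0, 3, 2, 3, 4, 3, 2, 1, 0, 1, 3, 2, 1],
   [1, 3, 2, 3, 4, 3, 2, 1, 0, 3, 2, 1, 5],
   [1, 2, 3, 2, 3, 4, 3, 2, 1, 0, 3, 5, 1, 2],
   [1, 2, 3, 2, 3, 4, 3, 2, 1, 0, 3, 2, 1, 5, 1],
   [1, 0, 3, 2, 3, 4, 3, 2, 1, 0, 1, 3, 5],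
   [1, 3, 2, 3, 2, 4, 3, 2, 1, 0, 1, 3, 2],
   [1, 3, 2, 3, 4, 3, 2, 1, 0, 3, 2, 5, 1, 2],
   [1, 2, 3, 2, 3, 4, 3, 2, 1, 0, 3, 2, 3, 5, 1, 2],
   [1, 0, 3, 2, 1, 3, 4, 3, 2, 1, 0, 1, 3, 2, 1, 3],
   [1, 0, 3, 2, 3, 4, 3, 2, 1, 0, 1, 3, 2, 1, 5, 1, 2],
   [1, 2, 3, 2, 4, 3, 2, 1, 0, 5, 1, 0, 1],
   [1, 3, 2, 3, 2, 4, 3, 2, 1, 0, 3, 2, 3, 4, 5, 1, 2],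
   [1, 2, 3, 2, 3, 4, 3, 2, 1, 0, 1, 0, 3, 2, 3, 4],
   [1, 2, 3, 2, 3, 4, 3, 2, 1, 0, 3, 5, 1, 2, 3],
   [1, 3, 2, 4, 3, 2, 1, 0, 1, 0, 5],
   [1, 3, 2, 3, 4, 3, 2, 1, 0, 5, 1, 0, 2, 1, 0],
   [1, 3, 2, 3, 4, 3, 2, 1, 0, 1, 5],
   [1, 3, 2, 3, 2, 4, 3, 2, 1, 0, 3, 2, 1, 3, 5, 1],
   [1, 2, 3, 2, 3, 4, 3, 2, 1, 0, 1, 3, 2, 3],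
   [1, 0, 3, 2, 3, 4, 3, 2, 1, 0, 3, 2, 5, 1, 2, 3],
   [1, 3, 2, 4, 3, 2, 1, 0, 5, 1, 0, 2, 1],
   [1, 0, 3, 2, 3, 4, 3, 2, 1, 0, 5],
   [1, 2, 3, 2, 3, 4, 3, 2, 1, 0, 3, 2, 3],
   [1, 3, 2, 4, 3, 2, 1, 0, 1, 5, 1, 0, 2, 1],
   [1, 0, 3, 2, 1, 3, 4, 3, 2, 1, 3, 5, 1, 2, 3, 2, 4],
   [1, 3, 2, 3, 4, 3, 2, 1, 0, 1, 3, 2, 5],
   [1, 2, 3, 2, 3, 4, 3, 2, 1, 0, 1, 3],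
   [1, 0, 3, 2, 3, 4, 3, 2, 1, 0, 3, 2, 5, 1],
   [1, 3, 2, 3, 2, 4, 3, 2, 1, 0, 3, 2, 1, 5, 1, 2],
   [1, 3, 2, 4, 3, 2, 1, 0, 5, 1, 0, 2, 1, 3, 2],
   [1, 2, 3, 2, 3, 4, 3, 2, 1, 0, 3, 2],
   [1, 0, 3, 2, 3, 4, 3, 2, 1, 0, 3, 5],
   [1, 3, 2, 3, 4, 3, 2, 1, 0, 1, 3, 2, 5, 1, 2],
   [1, 3, 2, 3, 2, 4, 3, 2, 1, 0, 1, 3, 2, 1, 5, 1],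
   [1, 3, 2, 4, 3, 2, 1, 0, 1, 5, 1, 0, 2, 1, 3],
   [1, 0, 3, 2, 3, 4, 3, 2, 1, 0, 3],
   [1, 3, 2, 3, 2, 4, 3, 2, 1, 0, 1, 3, 2, 5, 1],
   [1, 2, 3, 2, 3, 4, 3, 2, 1, 0, 3, 2, 5],
   [1, 3, 2, 3, 4, 3, 2, 1, 0, 1, 3, 2, 1, 5, 1, 2],
   [1, 0, 1, 3, 2, 1, 0, 4, 3, 2, 5, 1, 0, 2, 3],
   [1, 2, 3, 2, 3, 4, 3, 2, 1, 0, 1, 3, 5],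
   [1, 3, 2, 3, 4, 3, 2, 1, 0, 1, 3, 2],
   [1, 0, 3, 2, 3, 4, 3, 2, 1, 0, 3, 2, 1, 5, 1],
   [1, 3, 2, 3, 2, 4, 3, 2, 1, 0, 3, 2, 5, 1, 2],
   [1, 3, 2, 4, 3, 2, 1, 0, 5, 1, 0, 2, 1, 3],
   [1, 3, 2, 3, 4, 3, 2, 1, 0, 1, 0, 3, 2, 5],
   [1, 2, 3, 2, 3, 4, 3, 2, 1, 0, 1, 0, 3],
   [1, 0, 3, 2, 3, 4, 3, 2, 1, 0, 3, 2, 5, 1, 0],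
   [1, 3, 2, 3, 2, 4, 3, 2, 1, 0, 3, 2, 1, 5, 1, 0, 2],
   [1, 0, 3, 2, 1, 0, 4, 3, 2, 5, 1, 0, 1, 2, 3],
   [1, 0, 3, 2, 1, 3, 4, 3, 2, 1, 0, 3, 2, 1, 4, 5],
   [1, 2, 3, 2, 3, 4, 3, 2, 1, 0, 3, 2, 3, 4, 5, 1, 0],
   [1, 3, 2, 3, 4, 3, 2, 1, 0, 1, 3, 2, 1, 5, 1, 0],
   [1, 3, 2, 4, 3, 2, 1, 0, 1, 2, 5, 1],
   [1, 3, 2, 3, 4, 3, 2, 1, 0, 5, 1, 0, 1, 2],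
   [1, 2, 3, 2, 3, 4, 3, 2, 1, 0, 3, 2, 3, 5, 1, 0, 2],
   [1, 0, 3, 2, 1, 3, 4, 3, 2, 1, 0, 1, 3, 2, 1, 5],
   [1, 3, 2, 4, 3, 2, 1, 0, 5, 1, 0, 1],
   [1, 0, 3, 2, 3, 4, 3, 2, 1, 0, 1, 3, 2, 5, 1, 2, 3],
   [1, 3, 2, 3, 4, 3, 2, 1, 0, 1, 2, 5, 1, 2],
   [1, 3, 2, 4, 3, 2, 1, 0, 1, 0, 5, 1, 0, 2],
   [1, 3, 2, 3, 2, 4, 3, 2, 1, 0, 3, 2, 1, 3, 2],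
   [1, 0, 3, 2, 1, 3, 4, 3, 2, 1, 0, 1, 0, 3, 5, 1]]

/-- Words. -/
def caseBImgs20 : List (List ℕ) :=
  [[1, 0, 3, 2, 1, 0, 3, 4, 3, 2, 1, 3, 2, 3, 5, 1],
   [1, 0, 3, 2, 1, 0, 3, 4, 3, 2, 1, 3, 2, 5, 1, 2, 3, 2],
   [1, 0, 3, 2, 3, 4, 3, 2, 1, 3, 2, 3, 2, 1, 0, 1],
   [1, 0, 3, 2, 1, 3, 4, 3, 2, 1, 0, 3, 2, 1, 0, 1, 4],
   [1, 0, 3, 2, 1, 3, 4, 3, 2, 1, 3, 5, 1, 0, 2, 1, 5],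
   [1, 2, 3, 2, 1, 4, 3, 2, 1, 0, 1, 3, 2, 3],
   [1, 0, 3, 2, 1, 3, 4, 3, 2, 1, 3, 5, 1, 0, 2],
   [1, 0, 3, 2, 1, 3, 4, 3, 2, 3, 5, 1, 0, 2, 1],
   [1, 0, 3, 2, 3, 4, 3, 2, 1, 0, 3, 2, 3, 5, 1, 2],
   [1, 2, 3, 2, 1, 4, 3, 2, 1, 0, 1, 0, 3, 2],
   [1, 0, 3, 2, 1, 3, 4, 3, 2, 1, 3, 5, 1, 2, 3],
   [1, 0, 3, 2, 1, 3, 4, 3, 2, 1, 3, 4, 5, 1, 2],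
   [1, 0, 3, 2, 1, 0, 3, 4, 3, 2, 1, 3, 2, 5, 1, 2],
   [1, 2, 3, 2, 3, 4, 3, 2, 1, 0, 1, 2, 3, 2, 1, 3],
   [1, 0, 3, 2, 1, 0, 3, 4, 3, 2, 1, 3, 2, 5, 1, 2, 3, 4],
   [1, 0, 3, 2, 1, 0, 3, 4, 3, 2, 1, 0, 3, 2, 1, 0, 1],
   [1, 0, 3, 2, 1, 3, 4, 3, 2, 1, 3, 2, 5, 1, 2, 3, 2],
   [1, 0, 3, 2, 1, 3, 4, 3, 2, 1, 3, 2, 3, 5, 1],
   [1, 0, 3, 2, 1, 3, 4, 3, 2, 1, 3, 2, 4, 5, 1],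
   [1, 0, 3, 2, 1, 3, 4, 3, 2, 1, 3, 2, 3, 4, 3, 5, 1],
   [1, 0, 3, 2, 3, 4, 3, 2, 1, 0, 3, 2, 1, 0, 1],
   [1, 2, 3, 2, 3, 4, 3, 2, 1, 0, 3, 5, 1, 0, 1],
   [1, 0, 3, 2, 3, 4, 3, 2, 1, 0, 5, 1, 2, 3, 2, 1, 0],
   [1, 3, 2, 3, 4, 3, 2, 1, 0, 1, 3, 2, 1, 0, 5, 1],
   [1, 0, 3, 2, 3, 4, 3, 2, 1, 0, 3, 2, 1, 0],
   [1, 2, 3, 2, 3, 4, 3, 2, 1, 0, 3, 5, 1, 0],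
   [1, 3, 2, 3, 4, 3, 2, 1, 0, 1, 3, 2, 1, 0, 5],
   [1, 3, 2, 3, 2, 4, 3, 2, 1, 0, 1, 3, 5, 1, 0, 2],
   [1, 3, 2, 4, 3, 2, 1, 0, 1, 5, 1, 2, 3],
   [1, 3, 2, 3, 4, 3, 2, 1, 0, 3, 5, 1],
   [1, 0, 3, 2, 3, 4, 3, 2, 1, 0, 1, 3, 5, 1, 2],
   [1, 2, 3, 2, 3, 4, 3, 2, 1, 0, 1, 3, 2, 1, 5],
   [1, 3, 2, 3, 2, 4, 3, 2, 1, 0, 3, 2, 1],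
   [1, 3, 2, 3, 4, 3, 2, 1, 0, 1, 3, 5, 1],
   [1, 0, 3, 2, 3, 4, 3, 2, 1, 0, 3, 5, 1, 2],
   [1, 3, 2, 3, 2, 4, 3, 2, 1, 0, 3, 2, 1, 5],
   [1, 2, 3, 2, 3, 4, 3, 2, 1, 0, 1, 3, 2, 1],
   [1, 3, 2, 4, 3, 2, 1, 0, 5, 1, 0, 2, 3],
   [1, 2, 3, 2, 3, 4, 3, 2, 1, 0, 3, 2, 1],
   [1, 3, 2, 3, 4, 3, 2, 1, 0, 1, 3, 5, 1, 2],
   [1, 0, 3, 2, 3, 4, 3, 2, 1, 0, 3, 5, 1],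
   [1, 3, 2, 3, 2, 4, 3, 2, 1, 0, 1, 3, 2, 1, 5],
   [1, 3, 2, 4, 3, 2, 1, 0, 1, 5, 1, 0, 2, 3],
   [1, 3, 2, 3, 2, 4, 3, 2, 1, 0, 3, 2, 1, 0, 1],
   [1, 2, 3, 2, 3, 4, 3, 2, 1, 0, 1, 3, 2, 1, 0, 5, 1],
   [1, 3, 2, 3, 4, 3, 2, 1, 0, 3, 5, 1, 0, 1],
   [1, 0, 3, 2, 3, 4, 3, 2, 1, 0, 5, 1, 2, 3, 2, 1],
   [1, 3, 2, 4, 3, 2, 1, 0, 1, 5, 1, 2],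
   [1, 3, 2, 3, 2, 4, 3, 2, 1, 0, 3, 2, 1, 0, 3],
   [1, 2, 3, 2, 3, 4, 3, 2, 1, 0, 1, 3, 2, 1, 0, 3, 5],
   [1, 3, 2, 3, 4, 3, 2, 1, 0, 5, 1, 0],
   [1, 0, 3, 2, 3, 4, 3, 2, 1, 0, 5, 1, 2, 3, 2, 3],
   [1, 0, 3, 2, 3, 4, 3, 2, 1, 0, 3, 5, 1, 2, 3],
   [1, 3, 2, 3, 4, 3, 2, 1, 0, 1, 5, 1],
   [1, 3, 2, 4, 3, 2, 1, 0, 5, 1, 0, 2],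
   [1, 3, 2, 3, 2, 4, 3, 2, 1, 0, 3, 2, 1, 3, 5],
   [1, 2, 3, 2, 3, 4, 3, 2, 1, 0, 1, 3, 2, 1, 3],
   [1, 2, 3, 2, 3, 4, 3, 2, 1, 0, 3, 2, 1, 0, 1],
   [1, 0, 3, 2, 3, 4, 3, 2, 1, 0, 3, 5, 1, 0, 1],
   [1, 3, 2, 3, 2, 4, 3, 2, 1, 0, 1, 3, 2, 1, 0, 5, 1],
   [1, 3, 2, 3, 4, 3, 2, 1, 0, 1, 3, 2, 5, 1, 2, 3],
   [1, 3, 2, 3, 2, 4, 3, 2, 1, 0, 3, 2, 1, 0, 1, 3],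
   [1, 0, 3, 2, 1, 4, 3, 2, 3, 2, 1, 0, 4, 3, 2, 5, 1, 0],
   [1, 0, 3, 2, 3, 4, 3, 2, 1, 0, 5, 1, 2, 3, 2, 1, 3]]

/-- Words. -/
def caseBImgs21 : List (List ℕ) :=
  [[1, 3, 2, 4, 3, 2, 1, 0, 1, 2, 5, 1, 2],
   [1, 3, 2, 3, 4, 3, 2, 1, 0, 5, 1, 0, 1],
   [1, 0, 3, 2, 1, 0, 3, 4, 3, 2, 1, 3, 2, 5, 1],
   [1, 0, 3, 2, 3, 4, 3, 2, 1, 3, 2, 3, 2, 1, 0, 1, 4],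
   [1, 0, 3, 2, 1, 3, 4, 3, 2, 1, 0, 3, 2, 1, 0, 1, 4, 3],
   [1, 0, 3, 2, 1, 3, 4, 3, 2, 1, 0, 3, 2, 1, 0, 1],
   [1, 0, 3, 2, 1, 3, 4, 3, 2, 1, 3, 2, 5, 1, 2],
   [1, 0, 3, 2, 1, 3, 4, 3, 2, 1, 3, 2, 3, 5, 1, 2, 3],
   [1, 0, 3, 2, 1, 3, 4, 3, 2, 1, 3, 2, 3, 4, 5, 1, 2],
   [1, 0, 3, 2, 1, 3, 4, 3, 2, 1, 3, 2, 4, 3, 5, 1, 2],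
   [1, 0, 3, 2, 1, 0, 1, 4, 3, 2, 1, 3, 2, 5, 1],
   [1, 3, 2, 3, 4, 3, 2, 1, 0, 3, 2, 1, 0, 1],
   [1, 3, 2, 3, 2, 4, 3, 2, 1, 0, 3, 5, 1, 0, 1],
   [1, 0, 3, 2, 3, 4, 3, 2, 1, 0, 1, 3, 2, 1, 0, 5, 1],
   [1, 0, 3, 2, 1, 3, 4, 3, 2, 1, 0, 5, 1, 2, 3, 2, 1],
   [1, 3, 2, 4, 3, 2, 1, 0, 1, 2, 5, 1, 2, 3],
   [1, 0, 3, 2, 1, 3, 4, 3, 2, 1, 3, 2, 5, 1, 2, 3],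
   [1, 0, 3, 2, 1, 3, 4, 3, 2, 1, 3, 2, 3, 5, 1, 2],
   [1, 0, 3, 2, 1, 3, 4, 3, 2, 1, 3, 2, 4, 5, 1, 2],
   [1, 0, 3, 2, 1, 3, 4, 3, 2, 1, 3, 2, 3, 4, 3, 5, 1, 2],
   [1, 2, 3, 2, 1, 4, 3, 2, 1, 0, 1, 0, 3, 2, 1]]

/-- Words. -/
def caseBImgs : List (List ℕ) :=
  caseBImgs0 ++
  caseBImgs1 ++
  caseBImgs2 ++
  caseBImgs3 ++
  caseBImgs4 ++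
  caseBImgs5 ++
  caseBImgs6 ++
  caseBImgs7 ++
  caseBImgs8 ++
  caseBImgs9 ++
  caseBImgs10 ++
  caseBImgs11 ++
  caseBImgs12 ++
  caseBImgs13 ++
  caseBImgs14 ++
  caseBImgs15 ++
  caseBImgs16 ++
  caseBImgs17 ++
  caseBImgs18 ++
  caseBImgs19 ++
  caseBImgs20 ++
  caseBImgs21

/-- Words. -/
def caseBTws0 : List (List ℕ) :=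
  [[2, 5],
   [2],
   [2, 4, 5],
   [0, 2, 5],
   [5],
   [0, 2, 1, 2, 5, 1],
   [0, 2, 5, 1, 2, 5, 1],
   [2, 1, 0, 1, 5, 0, 1],
   [0, 1, 2, 5, 1, 0],
   [0, 2, 5, 1, 2, 5, 1, 0],
   [2, 4],
   [2, 1, 0, 5, 1, 0, 1],
   [0, 1, 2, 5, 1],
   [0, 2],
   [],
   [4, 5, 3, 2, 3],
   [0, 2, 4, 5],
   [4, 5],
   [0, 5, 1, 2, 5, 1],
   [0, 5],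
   [0, 2, 4, 1, 2, 5, 1],
   [0, 2, 4, 5, 1, 2, 5, 1],
   [2, 4, 1, 0, 1, 5, 0, 1],
   [0, 1, 2, 5, 1, 0, 4],
   [0, 2, 4, 5, 1, 2, 5, 1, 0],
   [4, 3, 2, 3, 1, 0, 1, 5, 0, 1, 0, 4],
   [4, 3, 2, 3],
   [2, 4, 1, 0, 5, 1, 0, 1],
   [0, 4, 1, 2, 5, 1],
   [0, 2, 4],
   [4],
   [0],
   [4, 3, 2, 3, 4, 5],
   [4, 5, 3, 2, 3, 1, 2, 5, 1],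
   [0, 4, 5, 3, 2, 3],
   [4, 3, 2, 3, 2, 5],
   [0, 4, 5, 1, 2, 5, 1],
   [0, 4, 5],
   [4, 3, 2, 3, 1, 0, 1, 5, 0, 1, 0],
   [0, 4, 3, 2, 3, 1, 0, 5, 1, 0, 1],
   [4, 3, 2, 3, 4, 1, 0, 5, 1, 0, 1],
   [4, 3, 2, 3, 4],
   [4, 3, 2, 3, 4, 1, 0, 1, 5, 0, 1],
   [0, 4, 3, 2, 3, 4, 1, 0, 1, 5, 0, 1],
   [4, 3, 2, 3, 1, 0, 1, 5, 0, 1],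
   [0, 4, 3, 2, 3, 1, 0, 1, 5, 0, 1],
   [4, 3, 2, 3, 4, 5, 1, 0, 1, 5, 0, 1],
   [4, 3, 2, 3, 4, 5, 1, 0, 5, 1, 0, 1],
   [4, 3, 2, 3, 1, 0, 5, 1, 0, 1, 5],
   [4, 3, 2, 3, 1, 0, 5, 1, 0, 1],
   [0, 4, 3, 2, 3, 4, 1, 0, 5, 1, 0, 1],
   [4, 3, 2, 3, 1, 0, 1, 5, 0, 1, 0, 2, 4],
   [4, 5, 3, 2, 3, 1, 0, 1, 5, 0, 1],
   [0, 4, 3, 2, 3],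
   [4, 3, 2, 3, 2],
   [0, 4],
   [4, 3, 2, 3, 4, 5, 1, 2, 5, 1],
   [0, 4, 3, 2, 3, 4, 5],
   [4, 3, 2, 3, 2, 4, 5],
   [0, 4, 3, 2, 3, 4],
   [4, 3, 2, 3, 2, 5, 1, 2, 5, 1],
   [4, 5, 3, 2, 3, 1, 0, 1, 5, 0, 1, 1, 2, 5, 1, 3, 2, 3],
   [4, 3, 2, 3, 1, 2, 5, 1, 0, 2],
   [4, 3, 2, 3, 1, 2, 5, 1]]

/-- Words. -/
def caseBTws1 : List (List ℕ) :=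
  [[4, 5, 3, 2, 3, 1, 0, 5, 1, 0, 1],
   [4, 3, 2, 3, 1, 0, 5, 1, 0, 1, 5, 4],
   [2, 4, 5, 3, 2, 3],
   [4, 3, 2, 3, 1, 0, 1, 5, 0, 1, 0, 2],
   [0, 4, 3, 2, 3, 1, 0, 5, 1, 0, 1, 2],
   [4, 3, 2, 3, 1, 0, 5, 1, 0, 1, 2, 4],
   [4, 3, 2, 3, 2, 4],
   [4, 3, 2, 3, 1, 0, 1, 5, 0, 1, 2, 4],
   [0, 4, 3, 2, 3, 4, 1, 0, 1, 5, 0, 1, 1, 2, 5, 1],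
   [0, 4, 3, 2, 3, 1, 0, 1, 5, 0, 1, 2, 4],
   [4, 3, 2, 3, 1, 0, 1, 5, 0, 1, 2],
   [0, 4, 3, 2, 3, 1, 0, 1, 5, 0, 1, 2],
   [0, 4, 3, 2, 3, 1, 0, 1, 5, 0, 1, 2, 4, 1, 2, 5, 1],
   [4, 3, 2, 3, 2, 4, 1, 0, 1, 5, 0, 1, 1, 2, 5, 1],
   [4, 3, 2, 3, 4, 1, 0, 1, 5, 0, 1, 1, 2, 5, 1],
   [4, 3, 2, 3, 4, 5, 1, 0, 1, 5, 0, 1, 2],
   [4, 3, 2, 3, 1, 0, 5, 1, 0, 1, 2, 0, 4],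
   [4, 3, 2, 3, 1, 0, 5, 1, 0, 1, 2, 5],
   [4, 3, 2, 3, 1, 0, 1, 5, 0, 1, 0, 1, 2, 5, 1],
   [4, 3, 2, 3, 1, 0, 1, 5, 0, 1, 0, 2, 1, 2, 5, 1],
   [2, 4, 5, 3, 2, 3, 1, 0, 1, 5, 0, 1, 2, 1, 2, 5, 1],
   [4, 3, 2, 3, 2, 5, 1, 0, 1, 5, 0, 1, 1, 2, 5, 1],
   [4, 3, 2, 3, 1, 0, 5, 1, 0, 1, 2],
   [0, 4, 3, 2, 3, 1, 0, 5, 1, 0, 1, 2, 4],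
   [0, 4, 3, 2, 3, 4, 1, 2, 5, 1],
   [4, 5, 3, 2, 3, 1, 0, 1, 5, 0, 1, 2],
   [2, 4, 3, 2, 3],
   [4, 3, 2, 3, 2, 4, 5, 1, 2, 5, 1],
   [4, 3, 2, 3, 1, 2, 5, 1, 0, 2, 4, 1, 0, 5, 1, 0, 1, 1, 2, 5, 1],
   [4, 3, 2, 3, 1, 2, 5, 1, 0, 2, 4],
   [4, 3, 2, 3, 4, 1, 2, 5, 1],
   [2, 4, 3, 2, 3, 4, 5],
   [2, 4, 3, 2, 3, 4],
   [4, 3, 2, 3, 1, 2, 5, 1, 3, 2, 3, 2, 5],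
   [4, 3, 2, 3, 1, 2, 5, 1, 0, 2, 4, 1, 0, 5, 1, 0, 1],
   [4, 5, 3, 2, 3, 1, 0, 1, 5, 0, 1, 2, 1, 2, 5, 1, 3, 2, 3],
   [4, 3, 2, 3, 1, 2, 5, 1, 0, 2, 5],
   [4, 3, 2, 3, 2, 1, 2, 5, 1],
   [4, 5, 3, 2, 3, 1, 2, 5, 1, 3, 2, 3],
   [0, 4, 3, 2, 3, 1, 2, 5, 1, 1, 0, 5, 1, 0, 1, 3, 2, 3],
   [2, 4, 5, 3, 2, 3, 1, 0, 1, 5, 0, 1, 1, 2, 5, 1, 3, 2, 3],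
   [4, 3, 2, 3, 1, 2, 5, 1, 1, 0, 5, 1, 0, 1, 3, 2, 3, 4],
   [4, 5, 3, 2, 3, 1, 2, 5, 1, 1, 0, 5, 1, 0, 1],
   [4, 3, 2, 3, 1, 2, 5, 1, 0],
   [4, 3, 2, 3, 2, 5, 1, 2, 5, 1, 3, 2, 3],
   [4, 5, 3, 2, 3, 1, 0, 1, 5, 0, 1, 1, 2, 5, 1],
   [4, 3, 2, 3, 1, 2, 5, 1, 3, 2, 3, 2],
   [4, 3, 2, 3, 1, 0, 5, 1, 0, 1, 2, 0],
   [4, 3, 2, 3, 1, 0, 5, 1, 0, 1, 2, 4, 5],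
   [2, 4, 3, 2, 3, 1, 2, 5, 1, 3, 2, 3, 2, 4, 1, 2, 5, 1, 3, 2, 3, 4],
   [4, 3, 2, 3, 1, 2, 5, 1, 1, 0, 5, 1, 0, 1, 3, 2, 3, 4, 5],
   [4, 3, 2, 3, 1, 2, 5, 1, 3, 2, 3],
   [4, 5, 3, 2, 3, 1, 2, 5, 1, 1, 0, 5, 1, 0, 1, 5],
   [4, 3, 2, 3, 1, 0, 1, 5, 0, 1, 0, 1, 2, 5, 1, 3, 2, 3],
   [4, 3, 2, 3, 1, 0, 1, 5, 0, 1, 0, 2, 1, 2, 5, 1, 3, 2, 3],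
   [4, 3, 2, 3, 2, 1, 2, 5, 1, 3, 2, 3],
   [2, 4, 1, 0, 1, 5, 0, 1, 3, 2, 3],
   [0, 4, 3, 2, 3, 1, 2, 5, 1],
   [0, 2, 4, 1, 2, 5, 1, 3, 2, 3],
   [4, 3, 2, 3, 4, 1, 0, 5, 1, 0, 1, 1, 2, 5, 1, 3, 2, 3],
   [0, 2, 4, 5, 1, 2, 5, 1, 3, 2, 3],
   [0, 4, 5, 3, 2, 3, 1, 2, 5, 1],
   [2, 4, 3, 2, 3, 1, 2, 5, 1, 3, 2, 3, 4, 1, 2, 5, 1, 3, 2, 3, 4],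
   [4, 3, 2, 3, 1, 0, 5, 1, 0, 1, 2, 0, 4, 1, 2, 5, 1, 3, 2, 3]]

/-- Words. -/
def caseBTws2 : List (List ℕ) :=
  [[4, 3, 2, 3, 4, 5, 1, 0, 1, 5, 0, 1, 2, 1, 2, 5, 1, 3, 2, 3],
   [4, 3, 2, 3, 1, 2, 5, 1, 0, 2, 4, 1, 0, 5, 1, 0, 1, 3, 2, 3],
   [4, 3, 2, 3, 1, 0, 1, 5, 0, 1, 2, 4, 1, 2, 5, 1],
   [0, 4, 3, 2, 3, 1, 0, 1, 5, 0, 1, 1, 2, 5, 1],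
   [4, 3, 2, 3, 4, 5, 1, 0, 5, 1, 0, 1, 1, 2, 5, 1, 3, 2, 3, 4],
   [0, 4, 3, 2, 3, 4, 1, 0, 5, 1, 0, 1, 1, 2, 5, 1, 3, 2, 3, 4],
   [2, 4, 3, 2, 3, 4, 1, 2, 5, 1, 3, 2, 3, 2, 4, 1, 2, 5, 1],
   [0, 4, 3, 2, 3, 1, 0, 1, 5, 0, 1, 2, 1, 2, 5, 1],
   [4, 3, 2, 3, 2, 1, 0, 1, 5, 0, 1, 1, 2, 5, 1],
   [4, 3, 2, 3, 1, 0, 1, 5, 0, 1, 1, 2, 5, 1],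
   [0, 1, 2, 5, 1, 0, 4, 3, 2, 3],
   [4, 3, 2, 3, 2, 4, 5, 1, 2, 5, 1, 1, 0, 5, 1, 0, 1],
   [4, 3, 2, 3, 2, 1, 0, 1, 5, 0, 1, 2, 4, 1, 2, 5, 1],
   [4, 3, 2, 3, 1, 2, 5, 1, 0, 2, 1, 0, 5, 1, 0, 1],
   [4, 3, 2, 3, 4, 5, 1, 2, 5, 1, 1, 0, 5, 1, 0, 1, 5],
   [2, 4, 3, 2, 3, 1, 2, 5, 1, 0, 2, 4, 1, 0, 5, 1, 0, 1],
   [0, 4, 3, 2, 3, 1, 2, 5, 1, 0, 4, 3, 2, 3, 4, 1, 2, 5, 1, 1, 0, 5, 1, 0, 1],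
   [0, 4, 3, 2, 3, 4, 1, 0, 1, 5, 0, 1, 1, 2, 5, 1, 1, 0, 5, 1, 0, 1],
   [2, 4, 3, 2, 3, 4, 1, 0, 1, 5, 0, 1, 1, 2, 5, 1],
   [0, 4, 3, 2, 3, 4, 1, 0, 5, 1, 0, 1, 1, 2, 5, 1],
   [2, 4, 3, 2, 3, 4, 1, 0, 5, 1, 0, 1, 1, 2, 5, 1, 3, 2, 3, 4],
   [2, 4, 3, 2, 3, 1, 2, 5, 1, 3, 2, 3, 4, 1, 2, 5, 1, 3, 2, 3],
   [4, 3, 2, 3, 1, 0, 1, 5, 0, 1, 0, 4, 1, 2, 5, 1],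
   [4, 3, 2, 3, 1, 0, 5, 1, 0, 1, 1, 2, 5, 1],
   [4, 3, 2, 3, 1, 0, 1, 5, 0, 1, 0, 2, 4, 1, 2, 5, 1],
   [4, 3, 2, 3, 1, 2, 5, 1, 3, 2, 3, 1, 2, 5, 1],
   [2, 4, 3, 2, 3, 4, 5, 1, 0, 1, 5, 0, 1, 2, 1, 2, 5, 1],
   [4, 3, 2, 3, 2, 4, 5, 1, 0, 1, 5, 0, 1, 1, 2, 5, 1],
   [0, 1, 2, 5, 1, 0, 4, 3, 2, 3, 4, 5],
   [0, 2, 4, 1, 2, 5, 1, 3, 2, 3, 2],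
   [0, 4, 3, 2, 3, 4, 1, 2, 5, 1, 3, 2, 3, 1, 2, 5, 1, 1, 0, 5, 1, 0, 1],
   [2, 4, 3, 2, 3, 1, 0, 1, 5, 0, 1, 2, 0, 1, 2, 5, 1],
   [0, 4, 3, 2, 3, 1, 2, 5, 1, 3, 2, 3, 4, 1, 2, 5, 1, 3, 2, 3, 4, 0],
   [4, 3, 2, 3, 1, 0, 5, 1, 0, 1, 1, 2, 5, 1, 0, 4, 3, 2, 3],
   [4, 3, 2, 3, 1, 2, 5, 1, 0, 4, 1, 0, 5, 1, 0, 1, 3, 2, 3, 4],
   [4, 3, 2, 3, 2, 4, 1, 2, 5, 1, 3, 2, 3, 2, 1, 0, 5, 1, 0, 1],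
   [4, 3, 2, 3, 1, 2, 5, 1, 0, 3, 2, 3],
   [4, 5, 3, 2, 3, 1, 0, 1, 5, 0, 1, 2, 1, 2, 5, 1],
   [2, 4, 5, 3, 2, 3, 1, 2, 5, 1],
   [4, 3, 2, 3, 1, 2, 5, 1, 3, 2, 3, 4],
   [4, 3, 2, 3, 1, 2, 5, 1, 0, 5],
   [0, 4, 3, 2, 3, 4, 1, 0, 5, 1, 0, 1, 1, 2, 5, 1, 3, 2, 3, 4, 2],
   [2, 4, 5, 3, 2, 3, 1, 2, 5, 1, 3, 2, 3],
   [4, 3, 2, 3, 1, 2, 5, 1, 0, 3, 2, 3, 4, 1, 2, 5, 1, 3, 2, 3, 1, 2, 5, 1],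
   [2, 4, 5, 3, 2, 3, 1, 0, 1, 5, 0, 1, 1, 2, 5, 1],
   [2, 4, 5, 3, 2, 3, 1, 2, 5, 1, 3, 2, 3, 1, 2, 5, 1],
   [4, 3, 2, 3, 2, 5, 1, 2, 5, 1, 3, 2, 3, 4, 1, 2, 5, 1, 3, 2, 3, 4],
   [4, 3, 2, 3, 2, 4, 1, 2, 5, 1, 3, 2, 3, 1, 2, 5, 1],
   [4, 5, 3, 2, 3, 1, 0, 5, 1, 0, 1, 1, 2, 5, 1],
   [4, 3, 2, 3, 1, 0, 5, 1, 0, 1, 5, 4, 1, 2, 5, 1],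
   [4, 3, 2, 3, 2, 4, 1, 2, 5, 1, 1, 0, 5, 1, 0, 1, 3, 2, 3],
   [0, 4, 3, 2, 3, 4, 5, 1, 2, 5, 1],
   [0, 4, 1, 2, 5, 1, 3, 2, 3, 2],
   [0, 4, 3, 2, 3, 1, 2, 5, 1, 0, 4],
   [4, 3, 2, 3, 4, 5, 1, 2, 5, 1, 3, 2, 3, 4, 1, 0, 1, 5, 0, 1],
   [2, 4, 3, 2, 3, 4, 1, 2, 5, 1],
   [2, 4, 5, 3, 2, 3, 1, 2, 5, 1, 3, 2, 3, 4],
   [0, 4, 1, 2, 5, 1, 3, 2, 3],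
   [0, 4, 3, 2, 3, 1, 0, 5, 1, 0, 1, 1, 2, 5, 1],
   [4, 3, 2, 3, 4, 1, 0, 5, 1, 0, 1, 1, 2, 5, 1],
   [4, 3, 2, 3, 1, 2, 5, 1, 3, 2, 3, 2, 4, 5],
   [4, 3, 2, 3, 2, 1, 2, 5, 1, 1, 0, 5, 1, 0, 1, 1, 2, 5, 1, 0, 4],
   [4, 3, 2, 3, 1, 2, 5, 1, 0, 2, 4, 5],
   [4, 3, 2, 3, 2, 4, 1, 2, 5, 1]]

/-- Words. -/
def caseBTws3 : List (List ℕ) :=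
  [[4, 3, 2, 3, 4, 5, 1, 0, 5, 1, 0, 1, 1, 2, 5, 1, 3, 2, 3],
   [4, 5, 3, 2, 3, 1, 2, 5, 1, 3, 2, 3, 4],
   [4, 3, 2, 3, 1, 2, 5, 1, 0, 2, 1, 0, 5, 1, 0, 1, 1, 2, 5, 1],
   [0, 4, 3, 2, 3, 4, 1, 2, 5, 1, 1, 0, 5, 1, 0, 1, 1, 2, 5, 1],
   [4, 3, 2, 3, 2, 4, 5, 1, 2, 5, 1, 1, 0, 5, 1, 0, 1, 1, 2, 5, 1],
   [4, 3, 2, 3, 4, 5, 1, 2, 5, 1, 1, 0, 5, 1, 0, 1],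
   [4, 3, 2, 3, 1, 2, 5, 1, 0, 4],
   [4, 3, 2, 3, 2, 4, 5, 1, 0, 1, 5, 0, 1, 1, 2, 5, 1, 3, 2, 3, 1, 2, 5, 1],
   [4, 3, 2, 3, 2, 5, 1, 2, 5, 1, 3, 2, 3, 4],
   [4, 3, 2, 3, 4, 1, 2, 5, 1, 3, 2, 3, 2, 4, 3, 2, 3, 1, 0, 1, 5, 0, 1],
   [4, 3, 2, 3, 4, 1, 0, 1, 5, 0, 1, 1, 2, 5, 1, 3, 2, 3, 1, 2, 5, 1],
   [4, 3, 2, 3, 1, 2, 5, 1, 3, 2, 3, 4, 5],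
   [4, 3, 2, 3, 1, 2, 5, 1, 3, 2, 3, 2, 4],
   [4, 3, 2, 3, 4, 5, 1, 0, 1, 5, 0, 1, 1, 2, 5, 1],
   [4, 3, 2, 3, 4, 5, 1, 0, 5, 1, 0, 1, 1, 2, 5, 1],
   [4, 3, 2, 3, 1, 0, 5, 1, 0, 1, 5, 1, 2, 5, 1],
   [4, 5, 3, 2, 3, 1, 2, 5, 1, 3, 2, 3, 4, 1, 2, 5, 1, 3, 2, 3, 4],
   [4, 3, 2, 3, 2, 4, 1, 0, 1, 5, 0, 1, 1, 2, 5, 1, 3, 2, 3],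
   [4, 3, 2, 3, 1, 2, 5, 1, 0, 3, 2, 3, 4, 1, 2, 5, 1, 3, 2, 3],
   [2, 4, 3, 2, 3, 4, 5, 1, 2, 5, 1, 3, 2, 3, 1, 0, 1, 5, 0, 1, 1, 2, 5, 1],
   [4, 3, 2, 3, 1, 0, 5, 1, 0, 1, 2, 4, 1, 2, 5, 1, 3, 2, 3, 1, 0, 1, 5, 0, 1],
   [0, 4, 3, 2, 3, 1, 0, 1, 5, 0, 1, 2, 4, 1, 2, 5, 1, 3, 2, 3],
   [2, 4, 3, 2, 3, 4, 5, 1, 2, 5, 1, 1, 0, 5, 1, 0, 1],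
   [4, 3, 2, 3, 2, 1, 0, 1, 5, 0, 1, 2, 4, 1, 2, 5, 1, 3, 2, 3],
   [2, 4, 3, 2, 3, 1, 2, 5, 1, 3, 2, 3, 4, 1, 2, 5, 1, 3, 2, 3, 4, 1, 2, 5, 1],
   [2, 4, 3, 2, 3, 1, 0, 1, 5, 0, 1, 2, 4, 1, 2, 5, 1, 3, 2, 3],
   [4, 3, 2, 3, 1, 2, 5, 1, 3, 2, 3, 4, 1, 2, 5, 1, 3, 2, 3, 1, 2, 5, 1, 0],
   [4, 3, 2, 3, 4, 5, 1, 2, 5, 1, 1, 0, 5, 1, 0, 1, 3, 2, 3],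
   [2, 4, 3, 2, 3, 4, 1, 2, 5, 1, 1, 0, 5, 1, 0, 1, 3, 2, 3],
   [2, 4, 3, 2, 3, 1, 2, 5, 1, 0, 4, 1, 0, 5, 1, 0, 1, 3, 2, 3],
   [2, 4, 3, 2, 3, 1, 2, 5, 1, 0, 1, 0, 5, 1, 0, 1, 3, 2, 3],
   [0, 4, 3, 2, 3, 1, 2, 5, 1, 0, 4, 1, 0, 5, 1, 0, 1, 3, 2, 3],
   [2, 4, 5, 3, 2, 3, 1, 0, 1, 5, 0, 1, 2, 1, 2, 5, 1, 3, 2, 3],
   [4, 3, 2, 3, 1, 2, 5, 1, 3, 2, 3, 4, 1, 2, 5, 1, 3, 2, 3, 2, 1, 2, 5, 1],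
   [2, 4, 3, 2, 3, 1, 2, 5, 1, 1, 0, 5, 1, 0, 1, 3, 2, 3],
   [4, 3, 2, 3, 1, 2, 5, 1, 1, 0, 5, 1, 0, 1, 3, 2, 3],
   [4, 3, 2, 3, 1, 0, 1, 5, 0, 1, 2, 1, 2, 5, 1, 3, 2, 3],
   [4, 3, 2, 3, 2, 5, 1, 2, 5, 1, 1, 0, 5, 1, 0, 1],
   [2, 4, 5, 3, 2, 3, 1, 2, 5, 1, 1, 0, 5, 1, 0, 1],
   [4, 3, 2, 3, 1, 2, 5, 1, 3, 2, 3, 2, 5, 1, 2, 5, 1],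
   [4, 3, 2, 3, 1, 2, 5, 1, 0, 5, 3, 2, 3],
   [4, 3, 2, 3, 1, 2, 5, 1, 0, 4, 1, 0, 5, 1, 0, 1, 3, 2, 3, 1, 2, 5, 1],
   [0, 4, 5, 1, 2, 5, 1, 3, 2, 3],
   [4, 3, 2, 3, 1, 0, 1, 5, 0, 1, 2, 4, 1, 2, 5, 1, 3, 2, 3, 1, 2, 5, 1],
   [4, 3, 2, 3, 1, 2, 5, 1, 0, 4, 3, 2, 3, 1, 2, 5, 1, 1, 0, 5, 1, 0, 1],
   [4, 3, 2, 3, 4, 1, 0, 1, 5, 0, 1, 1, 2, 5, 1, 3, 2, 3, 4, 1, 2, 5, 1],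
   [4, 3, 2, 3, 2, 4, 1, 0, 1, 5, 0, 1, 1, 2, 5, 1, 3, 2, 3, 1, 2, 5, 1],
   [2, 4, 3, 2, 3, 4, 1, 0, 1, 5, 0, 1, 1, 2, 5, 1, 3, 2, 3],
   [4, 3, 2, 3, 2, 4, 5, 1, 0, 5, 1, 0, 1, 1, 2, 5, 1, 3, 2, 3, 1, 0, 1, 5, 0, 1],
   [4, 3, 2, 3, 2, 4, 1, 2, 5, 1, 1, 0, 5, 1, 0, 1, 3, 2, 3, 1, 2, 5, 1],
   [2, 4, 3, 2, 3, 4, 1, 2, 5, 1, 3, 2, 3, 1, 2, 5, 1, 1, 0, 5, 1, 0, 1],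
   [4, 3, 2, 3, 4, 5, 1, 0, 1, 5, 0, 1, 1, 2, 5, 1, 3, 2, 3, 1, 2, 5, 1],
   [2, 4, 3, 2, 3, 4, 1, 2, 5, 1, 3, 2, 3, 2, 1, 2, 5, 1],
   [0, 4, 3, 2, 3, 4, 1, 0, 5, 1, 0, 1, 1, 2, 5, 1, 3, 2, 3],
   [0, 4, 3, 2, 3, 1, 2, 5, 1, 0, 4, 1, 0, 5, 1, 0, 1, 3, 2, 3, 1, 2, 5, 1],
   [2, 4, 3, 2, 3, 4, 1, 0, 5, 1, 0, 1, 1, 2, 5, 1, 3, 2, 3],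
   [2, 4, 3, 2, 3, 1, 2, 5, 1, 3, 2, 3, 2, 4, 1, 2, 5, 1, 3, 2, 3],
   [4, 3, 2, 3, 1, 2, 5, 1, 1, 0, 5, 1, 0, 1, 5, 3, 2, 3],
   [4, 3, 2, 3, 1, 0, 1, 5, 0, 1, 1, 2, 5, 1, 3, 2, 3],
   [0, 4, 3, 2, 3, 4, 1, 2, 5, 1, 3, 2, 3, 2, 4, 1, 0, 1, 5, 0, 1, 1, 2, 5, 1, 3, 2, 3],
   [2, 4, 3, 2, 3, 4, 1, 2, 5, 1, 3, 2, 3, 2, 1, 0, 1, 5, 0, 1, 1, 2, 5, 1],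
   [0, 4, 3, 2, 3, 1, 2, 5, 1, 0, 2, 1, 0, 5, 1, 0, 1],
   [2, 4, 3, 2, 3, 4, 1, 0, 5, 1, 0, 1, 1, 2, 5, 1, 3, 2, 3, 4, 0],
   [4, 3, 2, 3, 2, 1, 2, 5, 1, 1, 0, 5, 1, 0, 1, 3, 2, 3]]

/-- Words. -/
def caseBTws4 : List (List ℕ) :=
  [[4, 3, 2, 3, 1, 2, 5, 1, 0, 1, 0, 5, 1, 0, 1, 3, 2, 3],
   [4, 3, 2, 3, 1, 2, 5, 1, 3, 2, 3, 1, 2, 5, 1, 0, 4, 3, 2, 3, 4],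
   [4, 3, 2, 3, 2, 4, 5, 1, 0, 5, 1, 0, 1, 1, 2, 5, 1, 3, 2, 3],
   [4, 3, 2, 3, 1, 2, 5, 1, 0, 4, 3, 2, 3, 1, 2, 5, 1],
   [4, 5, 3, 2, 3, 1, 2, 5, 1, 1, 0, 5, 1, 0, 1, 5, 1, 2, 5, 1],
   [4, 3, 2, 3, 4, 1, 2, 5, 1, 3, 2, 3, 1, 0, 1, 5, 0, 1, 0, 1, 2, 5, 1],
   [4, 3, 2, 3, 2, 5, 1, 2, 5, 1, 3, 2, 3, 4, 1, 2, 5, 1, 3, 2, 3, 1, 2, 5, 1],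
   [4, 3, 2, 3, 4, 5, 1, 2, 5, 1, 3, 2, 3, 4, 1, 2, 5, 1, 1, 0, 5, 1, 0, 1],
   [4, 3, 2, 3, 4, 5, 1, 2, 5, 1, 1, 0, 5, 1, 0, 1, 5, 3, 2, 3],
   [4, 3, 2, 3, 2, 4, 5, 1, 2, 5, 1, 3, 2, 3, 4, 1, 2, 5, 1],
   [4, 3, 2, 3, 1, 2, 5, 1, 0, 3, 2, 3, 4, 5, 1, 2, 5, 1, 3, 2, 3, 1, 0, 5, 1, 0, 1],
   [4, 3, 2, 3, 1, 0, 1, 5, 0, 1, 2, 1, 2, 5, 1],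
   [4, 3, 2, 3, 4, 1, 2, 5, 1, 3, 2, 3, 1, 0, 1, 5, 0, 1, 2, 4, 3, 2, 3],
   [4, 3, 2, 3, 4, 5, 1, 2, 5, 1, 3, 2, 3, 1, 2, 5, 1, 1, 0, 5, 1, 0, 1],
   [4, 3, 2, 3, 1, 2, 5, 1, 3, 2, 3, 4, 3, 2, 3, 1, 0, 5, 1, 0, 1, 3, 2, 3],
   [4, 3, 2, 3, 1, 2, 5, 1, 1, 0, 5, 1, 0, 1, 1, 2, 5, 1, 0, 4],
   [0, 4, 3, 2, 3, 4, 5, 1, 2, 5, 1, 3, 2, 3],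
   [2, 4, 3, 2, 3, 4, 5, 1, 0, 1, 5, 0, 1],
   [4, 3, 2, 3, 1, 2, 5, 1, 0, 4, 3, 2, 3, 4, 5, 1, 2, 5, 1],
   [0, 4, 3, 2, 3, 4, 1, 2, 5, 1, 3, 2, 3, 2, 1, 2, 5, 1],
   [2, 4, 3, 2, 3, 4, 5, 1, 0, 5, 1, 0, 1, 1, 2, 5, 1, 3, 2, 3, 4],
   [2, 4, 3, 2, 3, 1, 2, 5, 1],
   [4, 3, 2, 3, 1, 2, 5, 1, 1, 0, 5, 1, 0, 1, 1, 2, 5, 1],
   [2, 4, 3, 2, 3, 4, 5, 1, 0, 5, 1, 0, 1, 1, 2, 5, 1, 3, 2, 3],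
   [0, 4, 3, 2, 3, 1, 2, 5, 1, 0],
   [4, 3, 2, 3, 2, 5, 1, 0, 1, 5, 0, 1, 1, 2, 5, 1, 1, 0, 5, 1, 0, 1],
   [4, 3, 2, 3, 2, 4, 1, 2, 5, 1, 3, 2, 3],
   [0, 2, 4, 1, 2, 5, 1, 3, 2, 3, 4],
   [0, 4, 3, 2, 3, 4, 5, 1, 2, 5, 1, 3, 2, 3, 1, 2, 5, 1],
   [4, 3, 2, 3, 2, 4, 1, 2, 5, 1, 1, 0, 5, 1, 0, 1],
   [4, 3, 2, 3, 1, 0, 5, 1, 0, 1, 2, 4, 1, 2, 5, 1, 3, 2, 3],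
   [4, 3, 2, 3, 2, 4, 1, 2, 5, 1, 3, 2, 3, 2, 4],
   [4, 3, 2, 3, 1, 0, 5, 1, 0, 1, 2, 4, 5, 1, 2, 5, 1, 3, 2, 3, 4],
   [4, 3, 2, 3, 1, 0, 5, 1, 0, 1, 1, 2, 5, 1, 0, 4, 3, 2, 3, 4],
   [4, 3, 2, 3, 4, 1, 0, 5, 1, 0, 1, 1, 2, 5, 1, 3, 2, 3, 2],
   [2, 4, 3, 2, 3, 1, 2, 5, 1, 0, 4, 1, 0, 5, 1, 0, 1],
   [4, 3, 2, 3, 4, 1, 0, 5, 1, 0, 1, 1, 2, 5, 1, 3, 2, 3, 4],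
   [4, 5, 3, 2, 3, 1, 2, 5, 1, 3, 2, 3, 4, 1, 2, 5, 1, 3, 2, 3, 1, 2, 5, 1],
   [2, 4, 3, 2, 3, 1, 2, 5, 1, 0, 3, 2, 3],
   [0, 2, 4, 5, 1, 2, 5, 1, 3, 2, 3, 4],
   [4, 3, 2, 3, 1, 2, 5, 1, 1, 0, 5, 1, 0, 1, 1, 2, 5, 1, 0],
   [4, 3, 2, 3, 4, 5, 1, 2, 5, 1, 3, 2, 3, 4, 1, 0, 1, 5, 0, 1, 3, 2, 3, 1, 2, 5, 1],
   [0, 4, 3, 2, 3, 1, 2, 5, 1, 0, 2],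
   [4, 3, 2, 3, 2, 4, 1, 2, 5, 1, 3, 2, 3, 2],
   [4, 3, 2, 3, 1, 2, 5, 1, 0, 3, 2, 3, 4, 1, 2, 5, 1, 3, 2, 3, 4],
   [2, 4, 3, 2, 3, 1, 2, 5, 1, 0, 4, 3, 2, 3, 1, 0, 1, 5, 0, 1, 1, 2, 5, 1],
   [0, 4, 5, 1, 2, 5, 1, 3, 2, 3, 4],
   [0, 4, 3, 2, 3, 4, 5, 1, 2, 5, 1, 3, 2, 3, 1, 0, 5, 1, 0, 1],
   [4, 3, 2, 3, 2, 4, 1, 2, 5, 1, 3, 2, 3, 2, 1, 0, 1, 5, 0, 1, 1, 2, 5, 1],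
   [4, 3, 2, 3, 1, 2, 5, 1, 1, 0, 5, 1, 0, 1, 5, 1, 2, 5, 1],
   [0, 4, 3, 2, 3, 1, 2, 5, 1, 3, 2, 3, 4, 1, 2, 5, 1, 3, 2, 3, 4],
   [2, 4, 3, 2, 3, 4, 1, 2, 5, 1, 3, 2, 3, 1, 0, 1, 5, 0, 1, 1, 2, 5, 1],
   [2, 4, 3, 2, 3, 1, 2, 5, 1, 1, 0, 5, 1, 0, 1, 1, 2, 5, 1],
   [4, 3, 2, 3, 4, 5, 1, 2, 5, 1, 1, 0, 5, 1, 0, 1, 5, 1, 2, 5, 1],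
   [4, 3, 2, 3, 2, 4, 5, 1, 0, 1, 5, 0, 1, 1, 2, 5, 1, 3, 2, 3],
   [4, 3, 2, 3, 2, 4, 1, 2, 5, 1, 3, 2, 3, 1, 0, 1, 5, 0, 1, 1, 2, 5, 1],
   [4, 3, 2, 3, 4, 1, 2, 5, 1, 3, 2, 3, 1, 0, 1, 5, 0, 1, 2, 4, 1, 2, 5, 1],
   [2, 4, 3, 2, 3, 4, 5, 1, 0, 1, 5, 0, 1, 2, 1, 2, 5, 1, 3, 2, 3],
   [0, 4, 3, 2, 3, 4, 1, 2, 5, 1, 3, 2, 3, 4, 1, 0, 1, 5, 0, 1, 3, 2, 3, 4],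
   [2, 4, 3, 2, 3, 1, 2, 5, 1, 0, 3, 2, 3, 4, 3, 2, 3, 1, 0, 1, 5, 0, 1],
   [4, 3, 2, 3, 4, 1, 2, 5, 1, 3, 2, 3, 4, 1, 0, 1, 5, 0, 1, 1, 2, 5, 1, 3, 2, 3, 4, 0],
   [4, 3, 2, 3, 4, 5, 1, 0, 1, 5, 0, 1, 1, 2, 5, 1, 3, 2, 3],
   [4, 3, 2, 3, 4, 1, 2, 5, 1, 3, 2, 3, 1, 2, 5, 1, 3, 2, 3, 4, 3, 2, 3],
   [4, 3, 2, 3, 2, 1, 0, 1, 5, 0, 1, 2, 4, 1, 2, 5, 1, 1, 0, 5, 1, 0, 1]]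

/-- Words. -/
def caseBTws5 : List (List ℕ) :=
  [[4, 3, 2, 3, 4, 1, 2, 5, 1, 3, 2, 3, 1, 2, 5, 1, 0, 1, 0, 5, 1, 0, 1],
   [4, 3, 2, 3, 4, 1, 2, 5, 1, 3, 2, 3, 2, 4, 1, 2, 5, 1, 1, 0, 5, 1, 0, 1],
   [0, 4, 3, 2, 3, 4, 1, 0, 1, 5, 0, 1, 1, 2, 5, 1, 3, 2, 3],
   [4, 3, 2, 3, 4, 1, 2, 5, 1, 1, 0, 5, 1, 0, 1, 1, 2, 5, 1],
   [0, 4, 3, 2, 3, 1, 2, 5, 1, 0, 2, 4, 1, 0, 5, 1, 0, 1],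
   [4, 3, 2, 3, 4, 5, 1, 2, 5, 1, 3, 2, 3, 4, 1, 0, 1, 5, 0, 1, 3, 2, 3, 4],
   [4, 3, 2, 3, 4, 1, 2, 5, 1, 3, 2, 3, 2, 1, 2, 5, 1, 1, 0, 5, 1, 0, 1],
   [4, 3, 2, 3, 2, 4, 5, 1, 0, 1, 5, 0, 1],
   [0, 4, 3, 2, 3, 4, 1, 2, 5, 1, 3, 2, 3, 2, 4, 1, 2, 5, 1],
   [4, 3, 2, 3, 1, 2, 5, 1, 0, 4, 5, 3, 2, 3, 1, 2, 5, 1],
   [2, 4, 3, 2, 3, 1, 0, 1, 5, 0, 1, 2, 4, 1, 2, 5, 1],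
   [4, 3, 2, 3, 4, 1, 0, 1, 5, 0, 1, 1, 2, 5, 1, 3, 2, 3, 4],
   [0, 4, 5, 3, 2, 3, 1, 2, 5, 1, 3, 2, 3, 4, 1, 2, 5, 1, 3, 2, 3, 1, 2, 5, 1],
   [4, 3, 2, 3, 2, 4, 5, 1, 2, 5, 1, 1, 0, 5, 1, 0, 1, 3, 2, 3],
   [4, 3, 2, 3, 1, 2, 5, 1, 3, 2, 3, 4, 1, 2, 5, 1, 3, 2, 3, 1, 2, 5, 1],
   [4, 3, 2, 3, 1, 2, 5, 1, 0, 2, 4, 1, 0, 5, 1, 0, 1, 3, 2, 3, 1, 2, 5, 1],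
   [2, 4, 3, 2, 3, 1, 0, 1, 5, 0, 1, 1, 2, 5, 1, 3, 2, 3, 4],
   [4, 3, 2, 3, 4, 1, 2, 5, 1, 3, 2, 3, 1, 2, 5, 1, 0, 4, 1, 0, 5, 1, 0, 1],
   [4, 3, 2, 3, 2, 4, 1, 2, 5, 1, 3, 2, 3, 4],
   [0, 4, 3, 2, 3, 1, 0, 5, 1, 0, 1, 1, 2, 5, 1, 0, 4, 3, 2, 3, 4],
   [4, 3, 2, 3, 4, 5, 1, 2, 5, 1, 3, 2, 3, 4, 1, 2, 5, 1],
   [4, 3, 2, 3, 1, 2, 5, 1, 0, 4, 3, 2, 3, 4, 1, 0, 1, 5, 0, 1, 1, 2, 5, 1],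
   [0, 4, 3, 2, 3, 1, 0, 5, 1, 0, 1, 2, 4, 1, 2, 5, 1, 3, 2, 3, 4],
   [0, 4, 3, 2, 3, 1, 2, 5, 1, 0, 4, 3, 2, 3, 4, 1, 0, 1, 5, 0, 1, 1, 2, 5, 1],
   [2, 4, 3, 2, 3, 4, 1, 2, 5, 1, 3, 2, 3, 4, 1, 2, 5, 1],
   [2, 4, 5, 3, 2, 3, 1, 2, 5, 1, 1, 0, 5, 1, 0, 1, 3, 2, 3],
   [4, 3, 2, 3, 2, 1, 0, 1, 5, 0, 1, 2, 1, 2, 5, 1],
   [4, 3, 2, 3, 1, 2, 5, 1, 0, 3, 2, 3, 4, 1, 2, 5, 1],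
   [2, 4, 3, 2, 3, 1, 0, 1, 5, 0, 1, 1, 2, 5, 1, 3, 2, 3],
   [4, 3, 2, 3, 1, 0, 1, 5, 0, 1, 1, 2, 5, 1, 3, 2, 3, 4],
   [0, 4, 3, 2, 3, 4, 5, 1, 2, 5, 1, 3, 2, 3, 4],
   [0, 4, 3, 2, 3, 1, 0, 1, 5, 0, 1, 1, 2, 5, 1, 1, 0, 5, 1, 0, 1],
   [2, 4, 3, 2, 3, 1, 0, 1, 5, 0, 1, 1, 2, 5, 1],
   [0, 1, 2, 5, 1, 0, 4, 3, 2, 3, 4],
   [0, 4, 3, 2, 3, 4, 5, 1, 2, 5, 1, 1, 0, 5, 1, 0, 1],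
   [4, 3, 2, 3, 4, 1, 2, 5, 1, 3, 2, 3, 1, 2, 5, 1, 3, 2, 3, 2, 4, 3, 2, 3],
   [4, 3, 2, 3, 1, 0, 1, 5, 0, 1, 1, 2, 5, 1, 1, 0, 5, 1, 0, 1],
   [0, 4, 3, 2, 3, 1, 0, 1, 5, 0, 1, 2, 4, 1, 2, 5, 1, 1, 0, 5, 1, 0, 1],
   [4, 3, 2, 3, 1, 2, 5, 1, 3, 2, 3, 4, 1, 2, 5, 1, 3, 2, 3, 2],
   [4, 3, 2, 3, 2, 4, 1, 2, 5, 1, 1, 0, 5, 1, 0, 1, 1, 2, 5, 1],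
   [4, 3, 2, 3, 4, 1, 2, 5, 1, 3, 2, 3, 2, 4, 1, 0, 1, 5, 0, 1, 1, 2, 5, 1],
   [0, 4, 3, 2, 3, 1, 2, 5, 1, 0, 4, 3, 2, 3, 1, 2, 5, 1, 1, 0, 5, 1, 0, 1],
   [2, 4, 3, 2, 3, 1, 2, 5, 1, 0, 2, 1, 0, 5, 1, 0, 1],
   [4, 3, 2, 3, 2, 4, 5, 1, 2, 5, 1, 3, 2, 3, 1, 0, 1, 5, 0, 1, 1, 2, 5, 1],
   [4, 3, 2, 3, 4, 5, 1, 0, 1, 5, 0, 1, 2, 1, 2, 5, 1, 1, 0, 5, 1, 0, 1],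
   [0, 4, 3, 2, 3, 4, 1, 2, 5, 1, 1, 0, 5, 1, 0, 1],
   [4, 3, 2, 3, 2, 4, 1, 0, 5, 1, 0, 1, 1, 2, 5, 1, 3, 2, 3],
   [4, 3, 2, 3, 2, 4, 5, 1, 2, 5, 1, 3, 2, 3],
   [4, 3, 2, 3, 1, 0, 5, 1, 0, 1, 1, 2, 5, 1, 0],
   [0, 4, 3, 2, 3, 1, 0, 5, 1, 0, 1, 1, 2, 5, 1, 0, 4],
   [4, 3, 2, 3, 4, 5, 1, 2, 5, 1, 3, 2, 3, 4, 1, 0, 1, 5, 0, 1, 1, 2, 5, 1],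
   [4, 3, 2, 3, 1, 0, 5, 1, 0, 1, 2, 1, 2, 5, 1],
   [0, 4, 3, 2, 3, 1, 0, 5, 1, 0, 1, 2, 4, 1, 2, 5, 1],
   [4, 3, 2, 3, 4, 1, 2, 5, 1, 3, 2, 3, 2],
   [4, 3, 2, 3, 2, 1, 0, 1, 5, 0, 1, 2, 4, 1, 2, 5, 1, 3, 2, 3, 1, 2, 5, 1, 3, 2, 3],
   [4, 3, 2, 3, 1, 0, 1, 5, 0, 1, 0, 4, 1, 2, 5, 1, 3, 2, 3, 1, 2, 5, 1, 3, 2, 3, 4, 0],
   [4, 3, 2, 3, 1, 2, 5, 1, 3, 2, 3, 2, 4, 3, 2, 3],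
   [4, 3, 2, 3, 2, 5, 1, 2, 5, 1, 3, 2, 3, 4, 1, 2, 5, 1, 3, 2, 3],
   [4, 3, 2, 3, 2, 4, 1, 2, 5, 1, 3, 2, 3, 4, 1, 0, 5, 1, 0, 1],
   [0, 4, 3, 2, 3, 1, 2, 5, 1, 0, 2, 4],
   [4, 3, 2, 3, 2, 5, 1, 0, 5, 1, 0, 1, 1, 2, 5, 1, 1, 0, 1, 5, 0, 1],
   [4, 3, 2, 3, 4, 5, 1, 2, 5, 1, 3, 2, 3, 4, 1, 0, 1, 5, 0, 1, 3, 2, 3],
   [4, 3, 2, 3, 4, 1, 2, 5, 1, 3, 2, 3, 1, 2, 5, 1, 0, 4],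
   [0, 4, 3, 2, 3, 4, 1, 2, 5, 1, 3, 2, 3, 4, 1, 0, 1, 5, 0, 1, 3, 2, 3]]

/-- Words. -/
def caseBTws6 : List (List ℕ) :=
  [[4, 3, 2, 3, 2, 4, 1, 2, 5, 1, 3, 2, 3, 4, 1, 2, 5, 1],
   [0, 4, 3, 2, 3, 4, 1, 2, 5, 1, 3, 2, 3, 4, 1, 2, 5, 1, 1, 0, 5, 1, 0, 1],
   [0, 4, 3, 2, 3, 1, 2, 5, 1, 0, 4, 3, 2, 3, 1, 2, 5, 1],
   [0, 4, 3, 2, 3, 1, 0, 5, 1, 0, 1, 1, 2, 5, 1, 0, 4, 3, 2, 3],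
   [4, 3, 2, 3, 4, 5, 1, 2, 5, 1, 3, 2, 3, 1, 2, 5, 1],
   [4, 3, 2, 3, 2, 4, 5, 1, 2, 5, 1, 3, 2, 3, 1, 0, 5, 1, 0, 1],
   [2, 4, 3, 2, 3, 1, 0, 1, 5, 0, 1, 2, 0, 4, 1, 2, 5, 1],
   [4, 3, 2, 3, 1, 2, 5, 1, 0, 3, 2, 3, 4, 5, 1, 2, 5, 1, 3, 2, 3],
   [4, 3, 2, 3, 1, 2, 5, 1, 3, 2, 3, 2, 1, 2, 5, 1],
   [2, 4, 3, 2, 3, 1, 2, 5, 1, 1, 0, 5, 1, 0, 1],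
   [2, 4, 3, 2, 3, 1, 2, 5, 1, 3, 2, 3, 4, 1, 2, 5, 1],
   [4, 3, 2, 3, 2, 1, 2, 5, 1, 1, 0, 5, 1, 0, 1],
   [4, 3, 2, 3, 2, 4, 1, 2, 5, 1, 3, 2, 3, 2, 4, 1, 0, 1, 5, 0, 1, 1, 2, 5, 1],
   [4, 3, 2, 3, 4, 1, 2, 5, 1, 3, 2, 3, 2, 1, 0, 5, 1, 0, 1],
   [4, 3, 2, 3, 4, 1, 2, 5, 1, 3, 2, 3, 1, 2, 5, 1, 0],
   [4, 3, 2, 3, 1, 2, 5, 1, 0, 4, 1, 0, 5, 1, 0, 1, 3, 2, 3],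
   [4, 3, 2, 3, 2, 4, 1, 2, 5, 1, 3, 2, 3, 2, 4, 1, 0, 5, 1, 0, 1],
   [4, 3, 2, 3, 1, 2, 5, 1, 0, 3, 2, 3, 1, 2, 5, 1],
   [2, 4, 5, 3, 2, 3, 1, 2, 5, 1, 3, 2, 3, 4, 1, 2, 5, 1],
   [4, 3, 2, 3, 1, 2, 5, 1, 3, 2, 3, 1, 2, 5, 1, 0],
   [4, 3, 2, 3, 4, 5, 1, 2, 5, 1, 3, 2, 3, 1, 0, 5, 1, 0, 1],
   [4, 3, 2, 3, 4, 5, 1, 0, 1, 5, 0, 1, 2, 1, 2, 5, 1],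
   [4, 3, 2, 3, 1, 2, 5, 1, 0, 3, 2, 3, 4, 1, 2, 5, 1, 3, 2, 3, 4, 1, 2, 5, 1],
   [2, 4, 3, 2, 3, 4, 5, 1, 2, 5, 1],
   [4, 3, 2, 3, 2, 1, 2, 5, 1, 3, 2, 3, 1, 2, 5, 1],
   [2, 4, 3, 2, 3, 4, 1, 2, 5, 1, 3, 2, 3, 2, 1, 0, 5, 1, 0, 1],
   [4, 3, 2, 3, 1, 2, 5, 1, 3, 2, 3, 4, 1, 2, 5, 1],
   [4, 3, 2, 3, 2, 4, 5, 1, 2, 5, 1, 3, 2, 3, 4, 1, 0, 5, 1, 0, 1],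
   [4, 3, 2, 3, 2, 5, 1, 2, 5, 1, 3, 2, 3, 4, 3, 2, 3, 1, 0, 1, 5, 0, 1],
   [4, 3, 2, 3, 4, 1, 2, 5, 1, 3, 2, 3, 2, 4, 1, 0, 1, 5, 0, 1, 1, 2, 5, 1, 3, 2, 3, 4],
   [2, 4, 3, 2, 3, 4, 5, 1, 0, 1, 5, 0, 1, 1, 2, 5, 1],
   [4, 3, 2, 3, 2, 4, 1, 2, 5, 1, 3, 2, 3, 4, 1, 0, 1, 5, 0, 1, 1, 2, 5, 1],
   [0, 2, 4, 1, 2, 5, 1, 3, 2, 3, 2, 4],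
   [2, 4, 3, 2, 3, 1, 0, 5, 1, 0, 1, 2, 4],
   [2, 4, 3, 2, 3, 4, 1, 0, 1, 5, 0, 1],
   [4, 3, 2, 3, 4, 1, 2, 5, 1, 3, 2, 3, 4, 1, 0, 1, 5, 0, 1],
   [4, 3, 2, 3, 2, 4, 1, 2, 5, 1, 3, 2, 3, 4, 1, 2, 5, 1, 1, 0, 5, 1, 0, 1],
   [2, 4, 3, 2, 3, 4, 5, 1, 2, 5, 1, 3, 2, 3, 1, 2, 5, 1],
   [4, 3, 2, 3, 2, 4, 1, 2, 5, 1, 3, 2, 3, 2, 1, 2, 5, 1],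
   [4, 3, 2, 3, 1, 0, 5, 1, 0, 1, 1, 2, 5, 1, 1, 0, 1, 5, 0, 1, 0, 4],
   [4, 3, 2, 3, 2, 4, 1, 2, 5, 1, 3, 2, 3, 2, 4, 1, 2, 5, 1],
   [0, 4, 1, 2, 5, 1, 3, 2, 3, 2, 4],
   [2, 4, 3, 2, 3, 1, 2, 5, 1, 0, 3, 2, 3, 4],
   [4, 5, 3, 2, 3, 1, 2, 5, 1, 3, 2, 3, 4, 1, 2, 5, 1, 3, 2, 3, 4, 1, 2, 5, 1],
   [4, 3, 2, 3, 1, 0, 5, 1, 0, 1, 2, 0, 1, 2, 5, 1, 1, 0, 1, 5, 0, 1],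
   [2, 4, 3, 2, 3, 4, 1, 2, 5, 1, 3, 2, 3, 4, 1, 0, 1, 5, 0, 1, 3, 2, 3],
   [0, 4, 3, 2, 3, 4, 5, 1, 2, 5, 1, 3, 2, 3, 4, 1, 2, 5, 1],
   [4, 3, 2, 3, 4, 5, 1, 0, 1, 5, 0, 1, 2, 1, 2, 5, 1, 3, 2, 3, 1, 2, 5, 1],
   [4, 3, 2, 3, 1, 2, 5, 1, 0, 3, 2, 3, 4],
   [4, 3, 2, 3, 1, 2, 5, 1, 0, 4, 1, 0, 5, 1, 0, 1],
   [4, 3, 2, 3, 1, 0, 1, 5, 0, 1, 0, 2, 4, 1, 2, 5, 1, 3, 2, 3, 1, 2, 5, 1],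
   [4, 3, 2, 3, 1, 0, 1, 5, 0, 1, 2, 1, 2, 5, 1, 1, 0, 5, 1, 0, 1],
   [4, 3, 2, 3, 4, 1, 2, 5, 1, 1, 0, 5, 1, 0, 1],
   [4, 3, 2, 3, 1, 0, 1, 5, 0, 1, 2, 4, 1, 2, 5, 1, 3, 2, 3, 1, 2, 5, 1, 3, 2, 3, 4, 5],
   [4, 3, 2, 3, 4, 5, 1, 2, 5, 1, 3, 2, 3, 4, 3, 2, 3],
   [4, 3, 2, 3, 4, 1, 0, 5, 1, 0, 1, 1, 2, 5, 1, 3, 2, 3, 1, 0, 5, 1, 0, 1, 3, 2, 3],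
   [4, 3, 2, 3, 1, 0, 5, 1, 0, 1, 5, 4, 1, 2, 5, 1, 3, 2, 3],
   [0, 4, 3, 2, 3, 1, 2, 5, 1, 0, 4, 1, 0, 5, 1, 0, 1],
   [4, 3, 2, 3, 1, 0, 1, 5, 0, 1, 0, 2, 4, 1, 2, 5, 1, 3, 2, 3],
   [4, 3, 2, 3, 4, 1, 2, 5, 1, 3, 2, 3, 4, 1, 2, 5, 1],
   [2, 4, 3, 2, 3, 4, 5, 1, 2, 5, 1, 3, 2, 3, 1, 0, 5, 1, 0, 1],
   [0, 4, 5, 3, 2, 3, 1, 2, 5, 1, 3, 2, 3, 1, 2, 5, 1],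
   [2, 4, 3, 2, 3, 4, 5, 1, 0, 1, 5, 0, 1, 1, 2, 5, 1, 3, 2, 3],
   [4, 3, 2, 3, 4, 1, 2, 5, 1, 1, 0, 5, 1, 0, 1, 3, 2, 3, 1, 0, 1, 5, 0, 1]]

/-- Words. -/
def caseBTws7 : List (List ℕ) :=
  [[4, 3, 2, 3, 1, 2, 5, 1, 3, 2, 3, 4, 5, 1, 2, 5, 1, 3, 2, 3, 1, 2, 5, 1],
   [0, 4, 3, 2, 3, 1, 2, 5, 1, 3, 2, 3],
   [4, 3, 2, 3, 4, 5, 1, 2, 5, 1, 3, 2, 3, 1, 0, 5, 1, 0, 1, 3, 2, 3],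
   [0, 4, 3, 2, 3, 1, 2, 5, 1, 0, 4, 3, 2, 3, 4, 1, 0, 1, 5, 0, 1, 1, 2, 5, 1, 3, 2, 3, 4],
   [4, 3, 2, 3, 1, 0, 5, 1, 0, 1, 2, 0, 1, 2, 5, 1],
   [4, 3, 2, 3, 4, 1, 2, 5, 1, 3, 2, 3, 4],
   [4, 3, 2, 3, 1, 0, 5, 1, 0, 1, 2, 4, 5, 1, 2, 5, 1],
   [2, 4, 3, 2, 3, 1, 2, 5, 1, 0, 2],
   [2, 4, 3, 2, 3, 1, 0, 5, 1, 0, 1, 2, 4, 1, 2, 5, 1, 3, 2, 3],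
   [4, 3, 2, 3, 1, 2, 5, 1, 0, 4, 5],
   [4, 5, 3, 2, 3, 1, 2, 5, 1, 1, 0, 5, 1, 0, 1, 1, 2, 5, 1],
   [4, 3, 2, 3, 1, 2, 5, 1, 3, 2, 3, 4, 5, 1, 2, 5, 1, 3, 2, 3, 4, 1, 0, 5, 1, 0, 1],
   [0, 4, 3, 2, 3, 4, 1, 2, 5, 1, 3, 2, 3, 2, 4, 3, 2, 3],
   [2, 4, 3, 2, 3, 1, 2, 5, 1, 3, 2, 3, 2],
   [2, 4, 5, 3, 2, 3, 1, 2, 5, 1, 3, 2, 3, 4, 1, 2, 5, 1, 3, 2, 3, 1, 2, 5, 1],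
   [0, 4, 5, 3, 2, 3, 1, 2, 5, 1, 3, 2, 3],
   [0, 4, 3, 2, 3, 1, 2, 5, 1, 3, 2, 3, 4, 1, 2, 5, 1, 3, 2, 3, 1, 2, 5, 1],
   [0, 4, 3, 2, 3, 1, 2, 5, 1, 3, 2, 3, 2, 4, 1, 2, 5, 1, 3, 2, 3, 4],
   [4, 3, 2, 3, 1, 2, 5, 1, 0, 4, 1, 0, 5, 1, 0, 1, 1, 2, 5, 1],
   [4, 3, 2, 3, 1, 0, 5, 1, 0, 1, 5, 4, 1, 2, 5, 1, 3, 2, 3, 1, 0, 1, 5, 0, 1],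
   [0, 4, 3, 2, 3, 1, 2, 5, 1, 3, 2, 3, 4],
   [0, 4, 3, 2, 3, 4, 1, 2, 5, 1, 1, 0, 5, 1, 0, 1, 3, 2, 3],
   [4, 3, 2, 3, 1, 2, 5, 1, 0, 4, 5, 3, 2, 3, 1, 2, 5, 1, 1, 0, 5, 1, 0, 1],
   [4, 3, 2, 3, 4, 1, 2, 5, 1, 3, 2, 3, 1, 2, 5, 1],
   [4, 3, 2, 3, 1, 2, 5, 1, 1, 0, 5, 1, 0, 1, 5, 4, 3, 2, 3],
   [0, 4, 3, 2, 3, 1, 0, 1, 5, 0, 1, 2, 1, 2, 5, 1, 1, 0, 5, 1, 0, 1],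
   [0, 4, 3, 2, 3, 4, 1, 2, 5, 1, 3, 2, 3, 2, 1, 0, 1, 5, 0, 1, 1, 2, 5, 1],
   [4, 3, 2, 3, 1, 2, 5, 1, 1, 0, 5, 1, 0, 1, 1, 2, 5, 1, 3, 2, 3, 4],
   [2, 4, 3, 2, 3, 4, 5, 1, 2, 5, 1, 3, 2, 3, 4, 1, 0, 1, 5, 0, 1, 1, 2, 5, 1],
   [0, 4, 3, 2, 3, 1, 2, 5, 1, 3, 2, 3, 2, 4, 1, 2, 5, 1, 3, 2, 3],
   [4, 5, 3, 2, 3, 1, 0, 1, 5, 0, 1, 1, 2, 5, 1, 1, 0, 5, 1, 0, 1],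
   [2, 4, 3, 2, 3, 1, 0, 5, 1, 0, 1, 2, 1, 2, 5, 1],
   [4, 3, 2, 3, 2, 1, 0, 5, 1, 0, 1, 2, 4, 1, 2, 5, 1],
   [4, 3, 2, 3, 1, 2, 5, 1, 0, 4, 3, 2, 3, 4, 5],
   [4, 3, 2, 3, 4, 1, 2, 5, 1, 3, 2, 3, 2, 1, 2, 5, 1],
   [4, 3, 2, 3, 4, 1, 2, 5, 1, 1, 0, 5, 1, 0, 1, 3, 2, 3],
   [4, 3, 2, 3, 2, 4, 1, 0, 1, 5, 0, 1, 1, 2, 5, 1, 3, 2, 3, 1, 2, 5, 1, 3, 2, 3, 4, 0],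
   [4, 3, 2, 3, 4, 1, 2, 5, 1, 3, 2, 3, 4, 3, 2, 3],
   [0, 4, 3, 2, 3, 1, 2, 5, 1, 3, 2, 3, 4, 3, 2, 3],
   [0, 4, 5, 3, 2, 3, 1, 2, 5, 1, 1, 0, 5, 1, 0, 1],
   [4, 3, 2, 3, 4, 1, 0, 1, 5, 0, 1, 1, 2, 5, 1, 1, 0, 5, 1, 0, 1],
   [4, 3, 2, 3, 2, 4, 1, 2, 5, 1, 3, 2, 3, 2, 1, 2, 5, 1, 1, 0, 5, 1, 0, 1],
   [0, 4, 3, 2, 3, 1, 0, 5, 1, 0, 1, 1, 2, 5, 1, 1, 0, 1, 5, 0, 1],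
   [4, 3, 2, 3, 4, 1, 0, 5, 1, 0, 1, 1, 2, 5, 1, 1, 0, 1, 5, 0, 1],
   [4, 3, 2, 3, 2, 4, 1, 2, 5, 1, 3, 2, 3, 2, 4, 1, 0, 1, 5, 0, 1],
   [2, 4, 3, 2, 3, 1, 2, 5, 1, 0, 4],
   [2, 4, 3, 2, 3, 1, 2, 5, 1, 3, 2, 3, 2, 4],
   [4, 3, 2, 3, 1, 0, 5, 1, 0, 1, 1, 2, 5, 1, 0, 1, 0, 1, 5, 0, 1],
   [4, 3, 2, 3, 2, 4, 5, 1, 2, 5, 1, 3, 2, 3, 1, 0, 1, 5, 0, 1],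
   [0, 4, 3, 2, 3, 4, 1, 2, 5, 1, 3, 2, 3, 4, 1, 0, 1, 5, 0, 1],
   [4, 3, 2, 3, 2, 4, 5, 1, 0, 5, 1, 0, 1, 1, 2, 5, 1, 1, 0, 1, 5, 0, 1],
   [4, 3, 2, 3, 4, 5, 1, 2, 5, 1, 3, 2, 3, 1, 0, 1, 5, 0, 1],
   [4, 3, 2, 3, 1, 0, 5, 1, 0, 1, 1, 2, 5, 1, 1, 0, 1, 5, 0, 1, 0],
   [4, 3, 2, 3, 1, 0, 5, 1, 0, 1, 2, 4, 1, 2, 5, 1, 1, 0, 1, 5, 0, 1],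
   [4, 3, 2, 3, 4, 1, 2, 5, 1, 3, 2, 3, 2, 4, 1, 0, 1, 5, 0, 1],
   [4, 3, 2, 3, 2, 4, 1, 2, 5, 1, 3, 2, 3, 1, 2, 5, 1, 3, 2, 3],
   [4, 3, 2, 3, 1, 0, 5, 1, 0, 1, 1, 2, 5, 1, 1, 0, 1, 5, 0, 1, 2, 4, 3, 2, 3, 4],
   [2, 4, 3, 2, 3, 4, 5, 1, 2, 5, 1, 3, 2, 3, 1, 2, 5, 1, 3, 2, 3, 4],
   [0, 4, 3, 2, 3, 1, 2, 5, 1, 3, 2, 3, 2, 4],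
   [4, 3, 2, 3, 4, 5, 1, 0, 5, 1, 0, 1, 1, 2, 5, 1, 3, 2, 3, 1, 0, 1, 5, 0, 1],
   [0, 4, 5, 3, 2, 3, 1, 2, 5, 1, 3, 2, 3, 4],
   [2, 4, 3, 2, 3, 4, 1, 0, 5, 1, 0, 1, 1, 2, 5, 1, 3, 2, 3, 1, 0, 1, 5, 0, 1],
   [4, 3, 2, 3, 2, 5, 1, 2, 5, 1, 3, 2, 3, 4, 1, 2, 5, 1, 3, 2, 3, 1, 0, 5, 1, 0, 1],
   [0, 4, 1, 2, 5, 1, 3, 2, 3, 4]]

/-- Words. -/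
def caseBTws8 : List (List ℕ) :=
  [[2, 4, 3, 2, 3, 1, 0, 5, 1, 0, 1, 2],
   [4, 3, 2, 3, 4, 5, 1, 2, 5, 1, 3, 2, 3, 1, 2, 5, 1, 1, 0, 5, 1, 0, 1, 1, 2, 5, 1],
   [4, 3, 2, 3, 1, 2, 5, 1, 1, 0, 5, 1, 0, 1, 1, 2, 5, 1, 3, 2, 3],
   [4, 3, 2, 3, 4, 5, 1, 0, 5, 1, 0, 1, 1, 2, 5, 1, 1, 0, 1, 5, 0, 1, 3, 2, 3],
   [4, 3, 2, 3, 1, 0, 1, 5, 0, 1, 1, 2, 5, 1, 1, 0, 5, 1, 0, 1, 5],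
   [0, 4, 3, 2, 3, 1, 2, 5, 1, 3, 2, 3, 4, 1, 2, 5, 1, 3, 2, 3, 4, 1, 0, 5, 1, 0, 1],
   [4, 3, 2, 3, 1, 0, 1, 5, 0, 1, 1, 2, 5, 1, 1, 0, 5, 1, 0, 1, 2],
   [4, 3, 2, 3, 1, 0, 5, 1, 0, 1, 2, 4, 1, 2, 5, 1],
   [0, 4, 3, 2, 3, 1, 0, 5, 1, 0, 1, 2, 1, 2, 5, 1],
   [4, 3, 2, 3, 4, 1, 2, 5, 1, 3, 2, 3, 2, 4],
   [0, 4, 3, 2, 3, 1, 2, 5, 1, 3, 2, 3, 2],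
   [4, 3, 2, 3, 1, 2, 5, 1, 3, 2, 3, 2, 4, 5, 1, 2, 5, 1, 3, 2, 3, 1, 2, 5, 1],
   [4, 3, 2, 3, 1, 0, 5, 1, 0, 1, 2, 4, 5, 1, 2, 5, 1, 1, 0, 1, 5, 0, 1],
   [4, 3, 2, 3, 1, 0, 5, 1, 0, 1, 1, 2, 5, 1, 0, 4],
   [0, 4, 3, 2, 3, 1, 0, 5, 1, 0, 1, 1, 2, 5, 1, 0],
   [4, 3, 2, 3, 2, 4, 5, 1, 2, 5, 1, 3, 2, 3, 4],
   [0, 4, 3, 2, 3, 1, 0, 5, 1, 0, 1, 1, 2, 5, 1, 0, 4, 1, 0, 1, 5, 0, 1],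
   [4, 3, 2, 3, 2, 1, 2, 5, 1, 1, 0, 5, 1, 0, 1, 1, 2, 5, 1, 0],
   [4, 3, 2, 3, 1, 2, 5, 1, 0, 4, 3, 2, 3, 1, 0, 1, 5, 0, 1, 1, 2, 5, 1],
   [2, 4, 3, 2, 3, 4, 1, 2, 5, 1, 3, 2, 3, 2, 4, 1, 0, 1, 5, 0, 1, 1, 2, 5, 1, 3, 2, 3],
   [0, 4, 3, 2, 3, 4, 5, 1, 2, 5, 1, 1, 0, 5, 1, 0, 1, 1, 2, 5, 1],
   [4, 3, 2, 3, 4, 1, 2, 5, 1, 3, 2, 3, 4, 1, 0, 1, 5, 0, 1, 1, 2, 5, 1],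
   [4, 3, 2, 3, 1, 2, 5, 1, 3, 2, 3, 4, 1, 2, 5, 1, 3, 2, 3, 1, 0, 5, 1, 0, 1],
   [4, 3, 2, 3, 4, 1, 2, 5, 1, 3, 2, 3, 1, 0, 1, 5, 0, 1, 0, 4, 1, 2, 5, 1, 3, 2, 3],
   [0, 4, 3, 2, 3, 4, 1, 0, 1, 5, 0, 1, 1, 2, 5, 1, 3, 2, 3, 1, 2, 5, 1],
   [4, 3, 2, 3, 4, 5, 1, 2, 5, 1, 3, 2, 3, 4, 3, 2, 3, 1, 0, 1, 5, 0, 1],
   [4, 3, 2, 3, 1, 2, 5, 1, 0, 4, 3, 2, 3, 4, 1, 0, 1, 5, 0, 1, 1, 2, 5, 1, 3, 2, 3],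
   [4, 3, 2, 3, 4, 1, 0, 5, 1, 0, 1, 1, 2, 5, 1, 3, 2, 3, 1, 0, 1, 5, 0, 1],
   [2, 4, 3, 2, 3, 4, 1, 2, 5, 1, 3, 2, 3, 2, 4, 1, 0, 1, 5, 0, 1, 1, 2, 5, 1],
   [2, 4, 3, 2, 3, 1, 0, 1, 5, 0, 1],
   [0, 4, 3, 2, 3, 1, 2, 5, 1, 1, 0, 5, 1, 0, 1, 1, 2, 5, 1],
   [4, 3, 2, 3, 4, 1, 2, 5, 1, 3, 2, 3, 1, 0, 1, 5, 0, 1, 2, 1, 2, 5, 1],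
   [4, 3, 2, 3, 2, 5, 1, 2, 5, 1, 1, 0, 5, 1, 0, 1, 1, 2, 5, 1],
   [4, 3, 2, 3, 1, 2, 5, 1, 3, 2, 3, 2, 4, 1, 2, 5, 1, 3, 2, 3, 4],
   [4, 5, 3, 2, 3, 1, 2, 5, 1, 3, 2, 3, 4, 1, 2, 5, 1],
   [2, 4, 3, 2, 3, 1, 2, 5, 1, 0, 4, 1, 0, 5, 1, 0, 1, 1, 2, 5, 1],
   [0, 4, 3, 2, 3, 4, 1, 2, 5, 1, 3, 2, 3, 4, 1, 0, 1, 5, 0, 1, 1, 2, 5, 1],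
   [4, 3, 2, 3, 2, 4, 1, 0, 1, 5, 0, 1, 1, 2, 5, 1, 1, 0, 5, 1, 0, 1],
   [2, 4, 5, 3, 2, 3, 1, 2, 5, 1, 3, 2, 3, 4, 1, 2, 5, 1, 3, 2, 3],
   [2, 4, 3, 2, 3, 1, 2, 5, 1, 3, 2, 3, 2, 1, 2, 5, 1],
   [4, 3, 2, 3, 4, 5, 1, 2, 5, 1, 3, 2, 3],
   [2, 4, 5, 3, 2, 3, 1, 0, 5, 1, 0, 1, 1, 2, 5, 1],
   [0, 4, 5, 3, 2, 3, 1, 2, 5, 1, 3, 2, 3, 4, 1, 2, 5, 1, 3, 2, 3],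
   [2, 4, 3, 2, 3, 4, 5, 1, 0, 1, 5, 0, 1, 1, 2, 5, 1, 1, 0, 5, 1, 0, 1],
   [4, 3, 2, 3, 1, 2, 5, 1, 3, 2, 3, 2, 4, 5, 1, 2, 5, 1],
   [0, 4, 3, 2, 3, 4, 5, 1, 2, 5, 1, 3, 2, 3, 4, 1, 0, 5, 1, 0, 1],
   [0, 4, 3, 2, 3, 4, 1, 2, 5, 1, 1, 0, 5, 1, 0, 1, 1, 2, 5, 1, 3, 2, 3],
   [2, 4, 3, 2, 3, 4, 1, 2, 5, 1, 3, 2, 3, 2, 4, 1, 0, 1, 5, 0, 1, 1, 2, 5, 1, 3, 2, 3, 4],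
   [0, 4, 3, 2, 3, 1, 2, 5, 1, 0, 4, 3, 2, 3, 4, 1, 0, 1, 5, 0, 1, 1, 2, 5, 1, 3, 2, 3],
   [4, 3, 2, 3, 4, 1, 2, 5, 1, 3, 2, 3, 1, 0, 5, 1, 0, 1, 3, 2, 3],
   [4, 3, 2, 3, 4, 1, 0, 1, 5, 0, 1, 1, 2, 5, 1, 3, 2, 3, 1, 2, 5, 1, 0],
   [4, 3, 2, 3, 1, 2, 5, 1, 0, 3, 2, 3, 4, 5],
   [2, 4, 3, 2, 3, 1, 2, 5, 1, 3, 2, 3, 4, 3, 2, 3, 4, 1, 0, 1, 5, 0, 1],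
   [0, 4, 3, 2, 3, 4, 1, 2, 5, 1, 3, 2, 3, 4, 1, 0, 1, 5, 0, 1, 1, 2, 5, 1, 3, 2, 3],
   [4, 3, 2, 3, 4, 1, 2, 5, 1, 3, 2, 3, 1, 0, 5, 1, 0, 1, 2, 3, 2, 3],
   [4, 5, 3, 2, 3, 1, 2, 5, 1, 3, 2, 3, 4, 3, 2, 3, 1, 0, 1, 5, 0, 1],
   [0, 4, 3, 2, 3, 4, 1, 2, 5, 1, 3, 2, 3, 2, 4, 1, 0, 1, 5, 0, 1, 1, 2, 5, 1, 3, 2, 3, 4],
   [4, 3, 2, 3, 1, 2, 5, 1, 3, 2, 3, 2, 4, 1, 2, 5, 1],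
   [4, 3, 2, 3, 4, 1, 2, 5, 1, 3, 2, 3, 2, 4, 1, 0, 5, 1, 0, 1],
   [2, 4, 3, 2, 3, 1, 2, 5, 1, 3, 2, 3, 1, 2, 5, 1],
   [2, 4, 3, 2, 3, 1, 0, 5, 1, 0, 1, 2, 4, 1, 2, 5, 1],
   [4, 3, 2, 3, 1, 2, 5, 1, 0, 4, 5, 3, 2, 3],
   [4, 3, 2, 3, 2, 1, 0, 5, 1, 0, 1, 2, 1, 2, 5, 1],
   [0, 4, 3, 2, 3, 4, 1, 2, 5, 1, 3, 2, 3, 2, 4]]

/-- Words. -/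
def caseBTws9 : List (List ℕ) :=
  [[4, 3, 2, 3, 4, 5, 1, 2, 5, 1, 3, 2, 3, 4, 1, 0, 1, 5, 0, 1, 1, 2, 5, 1, 3, 2, 3],
   [2, 4, 3, 2, 3, 4, 1, 2, 5, 1, 3, 2, 3, 4, 3, 2, 3, 1, 0, 1, 5, 0, 1],
   [4, 3, 2, 3, 1, 0, 5, 1, 0, 1, 2, 0, 4, 1, 2, 5, 1],
   [4, 3, 2, 3, 4, 1, 2, 5, 1, 3, 2, 3],
   [4, 3, 2, 3, 1, 0, 5, 1, 0, 1, 2, 5, 1, 2, 5, 1],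
   [4, 3, 2, 3, 1, 2, 5, 1, 0, 3, 2, 3, 4, 3, 2, 3],
   [4, 3, 2, 3, 4, 5, 1, 0, 1, 5, 0, 1, 2, 1, 2, 5, 1, 3, 2, 3, 1, 2, 5, 1, 3, 2, 3],
   [0, 4, 3, 2, 3, 1, 2, 5, 1, 3, 2, 3, 4, 3, 2, 3, 4],
   [2, 4, 3, 2, 3, 4, 1, 0, 1, 5, 0, 1, 1, 2, 5, 1, 3, 2, 3, 1, 2, 5, 1, 3, 2, 3, 4, 0],
   [4, 5, 3, 2, 3, 1, 2, 5, 1, 3, 2, 3, 4, 1, 2, 5, 1, 3, 2, 3],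
   [2, 4, 3, 2, 3, 4, 1, 2, 5, 1, 1, 0, 5, 1, 0, 1, 1, 2, 5, 1],
   [4, 3, 2, 3, 4, 1, 0, 1, 5, 0, 1, 1, 2, 5, 1, 3, 2, 3],
   [0, 4, 3, 2, 3, 4, 1, 0, 5, 1, 0, 1, 1, 2, 5, 1, 3, 2, 3, 1, 0, 1, 5, 0, 1],
   [0, 4, 3, 2, 3, 1, 2, 5, 1, 3, 2, 3, 4, 1, 2, 5, 1, 3, 2, 3],
   [4, 3, 2, 3, 1, 2, 5, 1, 1, 0, 5, 1, 0, 1, 5, 4, 1, 2, 5, 1],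
   [4, 3, 2, 3, 1, 2, 5, 1, 3, 2, 3, 4, 5, 1, 2, 5, 1, 3, 2, 3, 4],
   [4, 3, 2, 3, 2, 1, 0, 1, 5, 0, 1, 2, 1, 2, 5, 1, 1, 0, 5, 1, 0, 1],
   [4, 3, 2, 3, 1, 2, 5, 1, 3, 2, 3, 1, 2, 5, 1, 0, 4, 3, 2, 3, 4, 1, 0, 5, 1, 0, 1],
   [2, 4, 3, 2, 3, 1, 2, 5, 1, 0, 4, 3, 2, 3, 4, 1, 0, 1, 5, 0, 1, 1, 2, 5, 1, 3, 2, 3, 4],
   [2, 4, 3, 2, 3, 1, 2, 5, 1, 3, 2, 3],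
   [4, 3, 2, 3, 1, 2, 5, 1, 3, 2, 3, 1, 2, 5, 1, 0, 4, 3, 2, 3, 1, 2, 5, 1],
   [4, 3, 2, 3, 1, 2, 5, 1, 3, 2, 3, 4, 5, 3, 2, 3, 1, 0, 1, 5, 0, 1],
   [4, 3, 2, 3, 1, 0, 1, 5, 0, 1, 0, 4, 1, 2, 5, 1, 3, 2, 3, 1, 2, 5, 1],
   [4, 3, 2, 3, 1, 2, 5, 1, 0, 3, 2, 3, 4, 1, 2, 5, 1, 3, 2, 3, 1, 0, 5, 1, 0, 1],
   [0, 4, 3, 2, 3, 4, 1, 0, 1, 5, 0, 1, 1, 2, 5, 1, 3, 2, 3, 1, 2, 5, 1, 0],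
   [4, 3, 2, 3, 2, 1, 0, 5, 1, 0, 1, 2],
   [4, 3, 2, 3, 1, 2, 5, 1, 3, 2, 3, 4, 1, 2, 5, 1, 3, 2, 3, 4, 1, 2, 5, 1],
   [4, 3, 2, 3, 4, 1, 2, 5, 1, 3, 2, 3, 1, 0, 1, 5, 0, 1, 0, 4, 1, 2, 5, 1],
   [4, 3, 2, 3, 4, 1, 0, 5, 1, 0, 1, 1, 2, 5, 1, 3, 2, 3, 1, 0, 1, 5, 0, 1, 0],
   [4, 3, 2, 3, 1, 0, 1, 5, 0, 1, 0, 2, 4, 1, 2, 5, 1, 3, 2, 3, 1, 2, 5, 1, 3, 2, 3],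
   [2, 4, 3, 2, 3, 1, 2, 5, 1, 0, 4, 3, 2, 3, 4, 1, 0, 1, 5, 0, 1, 1, 2, 5, 1],
   [4, 3, 2, 3, 2, 4, 5, 1, 2, 5, 1, 3, 2, 3, 1, 2, 5, 1],
   [2, 4, 3, 2, 3, 1, 0, 5, 1, 0, 1, 2, 0],
   [4, 3, 2, 3, 1, 0, 1, 5, 0, 1, 2, 4, 1, 2, 5, 1, 3, 2, 3],
   [4, 3, 2, 3, 1, 2, 5, 1, 3, 2, 3, 2, 4, 1, 2, 5, 1, 3, 2, 3, 4, 1, 2, 5, 1],
   [4, 3, 2, 3, 1, 2, 5, 1, 0, 4, 3, 2, 3, 1, 2, 5, 1, 1, 0, 5, 1, 0, 1, 1, 2, 5, 1],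
   [0, 4, 3, 2, 3, 4, 5, 1, 2, 5, 1, 1, 0, 5, 1, 0, 1, 3, 2, 3],
   [2, 4, 3, 2, 3, 1, 2, 5, 1, 3, 2, 3, 4, 1, 2, 5, 1, 3, 2, 3, 1, 2, 5, 1],
   [4, 3, 2, 3, 1, 2, 5, 1, 3, 2, 3, 1, 2, 5, 1, 0, 4, 3, 2, 3, 1, 0, 5, 1, 0, 1],
   [0, 4, 3, 2, 3, 1, 2, 5, 1, 0, 1, 0, 5, 1, 0, 1, 3, 2, 3],
   [4, 3, 2, 3, 2, 4, 5, 1, 2, 5, 1, 3, 2, 3, 4, 1, 0, 1, 5, 0, 1, 1, 2, 5, 1],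
   [0, 4, 5, 3, 2, 3, 1, 2, 5, 1, 1, 0, 5, 1, 0, 1, 3, 2, 3],
   [4, 3, 2, 3, 4, 1, 2, 5, 1, 3, 2, 3, 4, 1, 0, 5, 1, 0, 1],
   [2, 4, 3, 2, 3, 4, 5, 1, 2, 5, 1, 3, 2, 3, 4],
   [2, 4, 3, 2, 3, 1, 0, 1, 5, 0, 1, 2, 1, 2, 5, 1, 3, 2, 3],
   [4, 3, 2, 3, 2, 4, 1, 2, 5, 1, 3, 2, 3, 1, 0, 5, 1, 0, 1],
   [4, 3, 2, 3, 2, 1, 0, 1, 5, 0, 1, 2, 1, 2, 5, 1, 3, 2, 3],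
   [2, 4, 3, 2, 3, 4, 1, 2, 5, 1, 3, 2, 3, 1, 0, 1, 5, 0, 1],
   [2, 4, 3, 2, 3, 1, 2, 5, 1, 0, 4, 3, 2, 3],
   [4, 3, 2, 3, 4, 1, 2, 5, 1, 3, 2, 3, 1, 0, 5, 1, 0, 1, 2],
   [2, 4, 3, 2, 3, 1, 2, 5, 1, 3, 2, 3, 4, 3, 2, 3, 1, 0, 1, 5, 0, 1],
   [0, 4, 3, 2, 3, 4, 1, 2, 5, 1, 3, 2, 3, 4, 1, 0, 1, 5, 0, 1, 1, 2, 5, 1, 3, 2, 3, 4],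
   [4, 3, 2, 3, 1, 2, 5, 1, 3, 2, 3, 1, 2, 5, 1, 0, 4],
   [4, 5, 3, 2, 3, 1, 2, 5, 1, 3, 2, 3, 1, 2, 5, 1],
   [4, 3, 2, 3, 4, 5, 1, 2, 5, 1, 3, 2, 3, 4, 1, 0, 5, 1, 0, 1],
   [2, 4, 3, 2, 3, 4, 5, 1, 2, 5, 1, 1, 0, 5, 1, 0, 1, 3, 2, 3, 1, 2, 5, 1],
   [4, 3, 2, 3, 1, 2, 5, 1, 0, 4, 3, 2, 3, 4, 1, 2, 5, 1, 1, 0, 5, 1, 0, 1],
   [4, 3, 2, 3, 1, 2, 5, 1, 3, 2, 3, 2, 4, 1, 2, 5, 1, 3, 2, 3],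
   [4, 3, 2, 3, 4, 1, 2, 5, 1, 3, 2, 3, 4, 1, 0, 1, 5, 0, 1, 3, 2, 3],
   [4, 3, 2, 3, 2, 1, 0, 1, 5, 0, 1, 2, 4, 1, 2, 5, 1, 3, 2, 3, 1, 2, 5, 1],
   [4, 3, 2, 3, 1, 2, 5, 1, 3, 2, 3, 4, 1, 2, 5, 1, 3, 2, 3, 4],
   [4, 3, 2, 3, 1, 2, 5, 1, 0, 3, 2, 3, 4, 5, 1, 2, 5, 1, 3, 2, 3, 1, 2, 5, 1],
   [2, 4, 3, 2, 3, 4, 1, 0, 1, 5, 0, 1, 1, 2, 5, 1, 3, 2, 3, 4],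
   [4, 3, 2, 3, 1, 2, 5, 1, 3, 2, 3, 2, 4, 1, 2, 5, 1, 3, 2, 3, 1, 0, 5, 1, 0, 1]]

/-- Words. -/
def caseBTws10 : List (List ℕ) :=
  [[2, 4, 3, 2, 3, 4, 1, 2, 5, 1, 1, 0, 5, 1, 0, 1, 3, 2, 3, 1, 2, 5, 1],
   [2, 4, 3, 2, 3, 4, 1, 2, 5, 1, 3, 2, 3, 4, 1, 2, 5, 1, 1, 0, 5, 1, 0, 1],
   [4, 3, 2, 3, 1, 2, 5, 1, 3, 2, 3, 1, 2, 5, 1, 0, 4, 3, 2, 3],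
   [0, 4, 3, 2, 3, 1, 0, 5, 1, 0, 1, 2, 4, 1, 2, 5, 1, 3, 2, 3],
   [2, 4, 3, 2, 3, 4, 1, 2, 5, 1, 3, 2, 3, 1, 2, 5, 1],
   [0, 4, 3, 2, 3, 1, 2, 5, 1, 0, 4, 3, 2, 3, 1, 0, 1, 5, 0, 1, 1, 2, 5, 1],
   [4, 3, 2, 3, 2, 1, 0, 1, 5, 0, 1, 1, 2, 5, 1, 1, 0, 5, 1, 0, 1],
   [2, 4, 3, 2, 3, 1, 2, 5, 1, 3, 2, 3, 2, 4, 1, 2, 5, 1],
   [2, 4, 5, 3, 2, 3, 1, 2, 5, 1, 3, 2, 3, 4, 1, 2, 5, 1, 3, 2, 3, 4],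
   [4, 3, 2, 3, 2, 4, 1, 2, 5, 1, 3, 2, 3, 4, 3, 2, 3, 1, 0, 1, 5, 0, 1],
   [4, 3, 2, 3, 2, 1, 0, 1, 5, 0, 1, 1, 2, 5, 1, 3, 2, 3],
   [2, 4, 3, 2, 3, 4, 1, 2, 5, 1, 3, 2, 3, 1, 0, 5, 1, 0, 1],
   [4, 3, 2, 3, 2, 4, 5, 1, 0, 5, 1, 0, 1, 1, 2, 5, 1, 3, 2, 3, 4],
   [4, 3, 2, 3, 1, 2, 5, 1, 0, 4, 3, 2, 3, 4, 1, 2, 5, 1],
   [0, 4, 3, 2, 3, 4, 1, 2, 5, 1, 3, 2, 3, 2, 4, 1, 0, 1, 5, 0, 1, 1, 2, 5, 1],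
   [0, 4, 3, 2, 3, 4, 1, 2, 5, 1, 3, 2, 3, 2, 4, 1, 0, 5, 1, 0, 1],
   [0, 4, 3, 2, 3, 1, 2, 5, 1, 0, 3, 2, 3, 4, 1, 2, 5, 1],
   [4, 3, 2, 3, 4, 1, 2, 5, 1, 3, 2, 3, 1, 0, 5, 1, 0, 1, 5],
   [4, 3, 2, 3, 2, 5, 1, 2, 5, 1, 3, 2, 3, 1, 2, 5, 1],
   [4, 3, 2, 3, 4, 1, 2, 5, 1, 3, 2, 3, 4, 1, 2, 5, 1, 1, 0, 5, 1, 0, 1],
   [0, 4, 3, 2, 3, 4, 1, 2, 5, 1, 3, 2, 3, 1, 2, 5, 1],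
   [4, 3, 2, 3, 4, 5, 1, 2, 5, 1, 3, 2, 3, 4],
   [2, 4, 3, 2, 3, 4, 5, 1, 0, 5, 1, 0, 1, 1, 2, 5, 1],
   [4, 3, 2, 3, 2, 5, 1, 0, 5, 1, 0, 1, 1, 2, 5, 1],
   [4, 3, 2, 3, 1, 2, 5, 1, 3, 2, 3, 4, 1, 2, 5, 1, 3, 2, 3, 2, 1, 0, 5, 1, 0, 1],
   [2, 4, 3, 2, 3, 4, 1, 0, 1, 5, 0, 1, 1, 2, 5, 1, 1, 0, 5, 1, 0, 1],
   [4, 3, 2, 3, 4, 5, 1, 2, 5, 1, 3, 2, 3, 1, 2, 5, 1, 3, 2, 3],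
   [2, 4, 3, 2, 3, 1, 0, 1, 5, 0, 1, 2],
   [0, 4, 3, 2, 3, 4, 1, 0, 5, 1, 0, 1, 1, 2, 5, 1, 1, 0, 1, 5, 0, 1],
   [4, 3, 2, 3, 2, 4, 1, 2, 5, 1, 3, 2, 3, 2, 1, 0, 1, 5, 0, 1],
   [4, 3, 2, 3, 1, 0, 5, 1, 0, 1, 1, 2, 5, 1, 1, 0, 1, 5, 0, 1],
   [4, 3, 2, 3, 1, 0, 1, 5, 0, 1, 0, 4, 1, 2, 5, 1, 1, 0, 5, 1, 0, 1],
   [0, 4, 3, 2, 3, 1, 2, 5, 1, 3, 2, 3, 2, 4, 1, 2, 5, 1, 3, 2, 3, 1, 0, 5, 1, 0, 1],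
   [0, 4, 3, 2, 3, 1, 2, 5, 1, 0, 4, 1, 0, 5, 1, 0, 1, 1, 2, 5, 1],
   [2, 4, 3, 2, 3, 1, 0, 1, 5, 0, 1, 2, 1, 2, 5, 1],
   [0, 4, 3, 2, 3, 1, 2, 5, 1, 0, 4, 3, 2, 3, 4, 1, 2, 5, 1],
   [4, 3, 2, 3, 1, 2, 5, 1, 3, 2, 3, 4, 1, 2, 5, 1, 3, 2, 3, 4, 1, 0, 5, 1, 0, 1],
   [4, 3, 2, 3, 1, 2, 5, 1, 1, 0, 5, 1, 0, 1, 5, 4],
   [2, 4, 3, 2, 3, 4, 1, 0, 1, 5, 0, 1, 1, 2, 5, 1, 3, 2, 3, 1, 2, 5, 1],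
   [2, 4, 3, 2, 3, 4, 1, 0, 5, 1, 0, 1, 1, 2, 5, 1, 1, 0, 1, 5, 0, 1, 3, 2, 3],
   [0, 4, 3, 2, 3, 1, 2, 5, 1, 3, 2, 3, 4, 3, 2, 3, 1, 0, 5, 1, 0, 1],
   [4, 3, 2, 3, 4, 1, 2, 5, 1, 3, 2, 3, 1, 2, 5, 1, 1, 0, 5, 1, 0, 1],
   [0, 4, 3, 2, 3, 4, 1, 2, 5, 1, 3, 2, 3, 4, 1, 2, 5, 1],
   [2, 4, 3, 2, 3, 4, 5, 1, 2, 5, 1, 1, 0, 5, 1, 0, 1, 1, 2, 5, 1],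
   [4, 3, 2, 3, 4, 1, 0, 5, 1, 0, 1, 1, 2, 5, 1, 1, 0, 1, 5, 0, 1, 3, 2, 3, 4],
   [4, 3, 2, 3, 1, 2, 5, 1, 3, 2, 3, 2, 4, 3, 2, 3, 1, 0, 5, 1, 0, 1],
   [0, 4, 3, 2, 3, 4, 1, 0, 5, 1, 0, 1, 1, 2, 5, 1, 1, 0, 1, 5, 0, 1, 3, 2, 3],
   [4, 3, 2, 3, 4, 1, 2, 5, 1, 3, 2, 3, 1, 2, 5, 1, 3, 2, 3],
   [0, 4, 3, 2, 3, 1, 2, 5, 1, 3, 2, 3, 4, 1, 2, 5, 1, 3, 2, 3, 1, 0, 5, 1, 0, 1],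
   [4, 3, 2, 3, 1, 0, 1, 5, 0, 1, 1, 2, 5, 1, 1, 0, 5, 1, 0, 1, 2, 4],
   [0, 4, 3, 2, 3, 1, 2, 5, 1, 0, 4, 3, 2, 3],
   [0, 4, 3, 2, 3, 4, 1, 2, 5, 1, 3, 2, 3, 2, 1, 2, 5, 1, 3, 2, 3],
   [2, 4, 3, 2, 3, 1, 0, 5, 1, 0, 1, 2, 4, 1, 2, 5, 1, 1, 0, 1, 5, 0, 1, 3, 2, 3, 4],
   [4, 3, 2, 3, 4, 5, 1, 0, 5, 1, 0, 1, 1, 2, 5, 1, 1, 0, 1, 5, 0, 1, 3, 2, 3, 4],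
   [4, 3, 2, 3, 1, 0, 5, 1, 0, 1, 5, 4, 1, 2, 5, 1, 1, 0, 1, 5, 0, 1, 3, 2, 3],
   [0, 4, 3, 2, 3, 4, 1, 2, 5, 1, 3, 2, 3, 1, 2, 5, 1, 3, 2, 3, 4, 5],
   [4, 3, 2, 3, 1, 0, 5, 1, 0, 1, 5, 4, 1, 2, 5, 1, 1, 0, 1, 5, 0, 1, 3, 2, 3, 4, 5],
   [4, 3, 2, 3, 4, 1, 2, 5, 1, 3, 2, 3, 1, 0, 1, 5, 0, 1, 0, 4],
   [4, 3, 2, 3, 4, 1, 2, 5, 1, 3, 2, 3, 4, 1, 0, 1, 5, 0, 1, 3, 2, 3, 1, 2, 5, 1],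
   [4, 3, 2, 3, 4, 1, 2, 5, 1, 1, 0, 5, 1, 0, 1, 3, 2, 3, 1, 2, 5, 1, 0],
   [2, 4, 3, 2, 3, 4, 1, 0, 5, 1, 0, 1],
   [2, 4, 3, 2, 3, 4, 1, 0, 1, 5, 0, 1, 1, 2, 5, 1, 3, 2, 3, 4, 1, 2, 5, 1],
   [4, 3, 2, 3, 1, 2, 5, 1, 1, 0, 5, 1, 0, 1, 5],
   [4, 3, 2, 3, 1, 0, 5, 1, 0, 1, 5, 4, 1, 2, 5, 1, 1, 0, 1, 5, 0, 1, 3, 2, 3, 4]]

/-- Words. -/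
def caseBTws11 : List (List ℕ) :=
  [[4, 3, 2, 3, 1, 0, 1, 5, 0, 1, 2, 4, 1, 2, 5, 1, 1, 0, 5, 1, 0, 1],
   [0, 4, 3, 2, 3, 4, 1, 2, 5, 1, 3, 2, 3, 2],
   [4, 3, 2, 3, 1, 2, 5, 1, 3, 2, 3, 2, 4, 5, 1, 2, 5, 1, 3, 2, 3, 1, 0, 5, 1, 0, 1],
   [2, 4, 3, 2, 3, 4, 5, 1, 2, 5, 1, 3, 2, 3],
   [4, 3, 2, 3, 1, 0, 1, 5, 0, 1, 1, 2, 5, 1, 1, 0, 5, 1, 0, 1, 5, 4],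
   [0, 4, 5, 3, 2, 3, 1, 2, 5, 1, 3, 2, 3, 4, 1, 2, 5, 1, 3, 2, 3, 1, 0, 5, 1, 0, 1],
   [2, 4, 3, 2, 3, 1, 2, 5, 1, 3, 2, 3, 4, 1, 2, 5, 1, 3, 2, 3, 4, 1, 0, 5, 1, 0, 1],
   [4, 3, 2, 3, 4, 5, 1, 2, 5, 1, 1, 0, 5, 1, 0, 1, 3, 2, 3, 1, 2, 5, 1],
   [4, 3, 2, 3, 2, 1, 0, 1, 5, 0, 1],
   [2, 4, 3, 2, 3, 1, 0, 5, 1, 0, 1, 2, 4, 5],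
   [0, 4, 3, 2, 3, 4, 1, 2, 5, 1, 3, 2, 3, 1, 2, 5, 1, 3, 2, 3],
   [2, 4, 3, 2, 3, 1, 0, 5, 1, 0, 1, 2, 4, 1, 2, 5, 1, 3, 2, 3, 1, 0, 1, 5, 0, 1],
   [4, 3, 2, 3, 1, 2, 5, 1, 0, 4, 3, 2, 3, 4, 1, 0, 5, 1, 0, 1],
   [2, 4, 3, 2, 3, 1, 2, 5, 1, 0, 2, 4],
   [4, 3, 2, 3, 2, 4, 1, 0, 5, 1, 0, 1, 1, 2, 5, 1, 1, 0, 1, 5, 0, 1, 3, 2, 3, 4],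
   [4, 3, 2, 3, 2, 4, 1, 0, 1, 5, 0, 1],
   [0, 4, 3, 2, 3, 4, 1, 2, 5, 1, 3, 2, 3, 1, 2, 5, 1, 3, 2, 3, 4],
   [2, 4, 3, 2, 3, 1, 0, 5, 1, 0, 1, 2, 5],
   [2, 4, 3, 2, 3, 4, 5, 1, 0, 1, 5, 0, 1, 2],
   [2, 4, 5, 3, 2, 3, 1, 0, 1, 5, 0, 1],
   [4, 3, 2, 3, 2, 1, 0, 1, 5, 0, 1, 2],
   [4, 3, 2, 3, 1, 2, 5, 1, 0, 4, 3, 2, 3, 1, 2, 5, 1, 3, 2, 3],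
   [0, 4, 3, 2, 3, 4, 1, 2, 5, 1, 3, 2, 3, 2, 1, 0, 1, 5, 0, 1],
   [4, 3, 2, 3, 2, 4, 5, 1, 0, 5, 1, 0, 1],
   [4, 3, 2, 3, 1, 0, 5, 1, 0, 1, 2, 4, 1, 2, 5, 1, 3, 2, 3, 4],
   [2, 4, 3, 2, 3, 1, 2, 5, 1, 0],
   [4, 3, 2, 3, 2, 4, 5, 1, 0, 5, 1, 0, 1, 1, 2, 5, 1],
   [4, 3, 2, 3, 1, 0, 5, 1, 0, 1, 2, 4, 5, 1, 2, 5, 1, 3, 2, 3],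
   [2, 4, 3, 2, 3, 4, 1, 2, 5, 1, 1, 0, 5, 1, 0, 1],
   [2, 4, 3, 2, 3, 4, 1, 2, 5, 1, 3, 2, 3, 4, 1, 0, 1, 5, 0, 1, 1, 2, 5, 1],
   [4, 3, 2, 3, 2, 4, 5, 1, 0, 1, 5, 0, 1, 1, 2, 5, 1, 1, 0, 5, 1, 0, 1],
   [2, 4, 3, 2, 3, 1, 0, 1, 5, 0, 1, 2, 0, 4],
   [2, 4, 5, 3, 2, 3, 1, 0, 5, 1, 0, 1],
   [4, 3, 2, 3, 2, 4, 1, 2, 5, 1, 3, 2, 3, 1, 2, 5, 1, 1, 0, 5, 1, 0, 1],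
   [4, 3, 2, 3, 1, 0, 5, 1, 0, 1, 1, 2, 5, 1, 1, 0, 1, 5, 0, 1, 2],
   [4, 3, 2, 3, 1, 0, 5, 1, 0, 1, 2, 4, 1, 2, 5, 1, 1, 0, 1, 5, 0, 1, 3, 2, 3],
   [2, 4, 3, 2, 3, 4, 5, 1, 2, 5, 1, 3, 2, 3, 4, 1, 2, 5, 1],
   [2, 4, 3, 2, 3, 1, 0, 1, 5, 0, 1, 2, 0],
   [2, 4, 3, 2, 3, 4, 1, 2, 5, 1, 3, 2, 3, 2, 1, 2, 5, 1, 3, 2, 3],
   [0, 4, 3, 2, 3, 1, 2, 5, 1, 1, 0, 5, 1, 0, 1],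
   [4, 3, 2, 3, 2, 4, 1, 0, 5, 1, 0, 1, 1, 2, 5, 1, 3, 2, 3, 4],
   [0, 4, 3, 2, 3, 4, 1, 2, 5, 1, 3, 2, 3, 1, 0, 1, 5, 0, 1, 1, 2, 5, 1],
   [2, 4, 3, 2, 3, 1, 2, 5, 1, 0, 1, 0, 5, 1, 0, 1, 1, 2, 5, 1],
   [4, 3, 2, 3, 1, 0, 5, 1, 0, 1, 5, 4, 1, 2, 5, 1, 3, 2, 3, 4],
   [0, 4, 3, 2, 3, 1, 2, 5, 1, 0, 1, 0, 5, 1, 0, 1],
   [2, 4, 3, 2, 3, 1, 2, 5, 1, 0, 4, 3, 2, 3, 1, 0, 1, 5, 0, 1],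
   [4, 3, 2, 3, 4, 1, 0, 5, 1, 0, 1, 1, 2, 5, 1, 3, 2, 3, 2, 4],
   [2, 4, 3, 2, 3, 1, 2, 5, 1, 0, 1, 0, 5, 1, 0, 1],
   [0, 4, 3, 2, 3, 1, 2, 5, 1, 3, 2, 3, 2, 4, 1, 2, 5, 1, 3, 2, 3, 1, 2, 5, 1],
   [0, 4, 3, 2, 3, 1, 2, 5, 1, 0, 3, 2, 3],
   [2, 4, 5, 3, 2, 3, 1, 2, 5, 1, 1, 0, 5, 1, 0, 1, 1, 2, 5, 1],
   [4, 3, 2, 3, 2, 4, 1, 2, 5, 1, 3, 2, 3, 1, 2, 5, 1, 1, 0, 5, 1, 0, 1, 1, 2, 5, 1],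
   [4, 3, 2, 3, 2, 1, 0, 5, 1, 0, 1, 2, 4, 1, 2, 5, 1, 1, 0, 1, 5, 0, 1],
   [4, 3, 2, 3, 4, 1, 2, 5, 1, 3, 2, 3, 1, 0, 1, 5, 0, 1, 2, 4, 3, 2, 3, 1, 2, 5, 1],
   [0, 4, 3, 2, 3, 1, 2, 5, 1, 0, 1, 0, 5, 1, 0, 1, 1, 2, 5, 1],
   [4, 3, 2, 3, 1, 2, 5, 1, 3, 2, 3, 4, 1, 2, 5, 1, 3, 2, 3, 2, 4, 1, 0, 5, 1, 0, 1],
   [2, 4, 3, 2, 3, 1, 0, 1, 5, 0, 1, 1, 2, 5, 1, 1, 0, 5, 1, 0, 1],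
   [4, 3, 2, 3, 2, 1, 0, 5, 1, 0, 1, 2, 4, 1, 2, 5, 1, 1, 0, 1, 5, 0, 1, 3, 2, 3],
   [4, 3, 2, 3, 1, 2, 5, 1, 3, 2, 3, 4, 5, 1, 2, 5, 1, 3, 2, 3, 1, 0, 5, 1, 0, 1],
   [4, 3, 2, 3, 4, 5, 1, 2, 5, 1, 1, 0, 5, 1, 0, 1, 1, 2, 5, 1],
   [0, 4, 5, 3, 2, 3, 1, 2, 5, 1, 3, 2, 3, 4, 3, 2, 3],
   [4, 3, 2, 3, 1, 0, 1, 5, 0, 1, 0, 4, 1, 2, 5, 1, 3, 2, 3],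
   [4, 3, 2, 3, 4, 1, 2, 5, 1, 3, 2, 3, 2, 4, 1, 2, 5, 1],
   [0, 4, 3, 2, 3, 4, 1, 2, 5, 1, 3, 2, 3, 2, 1, 0, 5, 1, 0, 1]]

/-- Words. -/
def caseBTws12 : List (List ℕ) :=
  [[0, 4, 3, 2, 3, 1, 2, 5, 1, 0, 3, 2, 3, 1, 2, 5, 1],
   [4, 3, 2, 3, 1, 2, 5, 1, 3, 2, 3, 4, 5, 1, 2, 5, 1, 3, 2, 3],
   [4, 3, 2, 3, 4, 5, 1, 0, 1, 5, 0, 1, 1, 2, 5, 1, 1, 0, 5, 1, 0, 1],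
   [4, 3, 2, 3, 1, 2, 5, 1, 0, 4, 3, 2, 3, 1, 0, 5, 1, 0, 1, 3, 2, 3],
   [0, 4, 3, 2, 3, 1, 2, 5, 1, 3, 2, 3, 1, 2, 5, 1],
   [0, 4, 3, 2, 3, 1, 2, 5, 1, 3, 2, 3, 4, 3, 2, 3, 1, 0, 1, 5, 0, 1],
   [4, 3, 2, 3, 4, 1, 2, 5, 1, 3, 2, 3, 4, 1, 0, 1, 5, 0, 1, 1, 2, 5, 1, 3, 2, 3, 4],
   [4, 3, 2, 3, 4, 1, 2, 5, 1, 3, 2, 3, 4, 3, 2, 3, 1, 0, 1, 5, 0, 1],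
   [4, 3, 2, 3, 1, 2, 5, 1, 3, 2, 3, 2, 4, 3, 2, 3, 1, 0, 1, 5, 0, 1],
   [4, 3, 2, 3, 1, 2, 5, 1, 0, 4, 3, 2, 3, 4, 1, 0, 1, 5, 0, 1, 1, 2, 5, 1, 3, 2, 3, 4],
   [4, 3, 2, 3, 1, 2, 5, 1, 1, 0, 5, 1, 0, 1, 5, 4, 1, 2, 5, 1, 3, 2, 3],
   [4, 3, 2, 3, 2, 4, 1, 2, 5, 1, 3, 2, 3, 2, 4, 1, 0, 1, 5, 0, 1, 1, 2, 5, 1, 3, 2, 3],
   [4, 5, 3, 2, 3, 1, 2, 5, 1, 3, 2, 3, 4, 1, 2, 5, 1, 3, 2, 3, 1, 0, 5, 1, 0, 1],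
   [4, 3, 2, 3, 4, 1, 0, 5, 1, 0, 1, 1, 2, 5, 1, 3, 2, 3, 1, 0, 5, 1, 0, 1],
   [4, 3, 2, 3, 1, 2, 5, 1, 0, 4, 3, 2, 3, 4, 1, 0, 1, 5, 0, 1],
   [2, 4, 3, 2, 3, 4, 1, 2, 5, 1, 3, 2, 3, 2, 1, 0, 1, 5, 0, 1],
   [4, 3, 2, 3, 2, 4, 1, 0, 5, 1, 0, 1, 1, 2, 5, 1, 1, 0, 1, 5, 0, 1],
   [4, 3, 2, 3, 4, 5, 1, 0, 5, 1, 0, 1, 1, 2, 5, 1, 1, 0, 1, 5, 0, 1],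
   [4, 3, 2, 3, 2, 4, 1, 2, 5, 1, 3, 2, 3, 1, 0, 1, 5, 0, 1],
   [4, 3, 2, 3, 1, 0, 5, 1, 0, 1, 5, 1, 2, 5, 1, 1, 0, 1, 5, 0, 1],
   [4, 3, 2, 3, 1, 0, 5, 1, 0, 1, 2, 0, 4, 1, 2, 5, 1, 1, 0, 1, 5, 0, 1],
   [4, 3, 2, 3, 4, 1, 2, 5, 1, 3, 2, 3, 1, 0, 1, 5, 0, 1],
   [4, 3, 2, 3, 1, 0, 5, 1, 0, 1, 2, 5, 1, 2, 5, 1, 1, 0, 1, 5, 0, 1],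
   [2, 4, 3, 2, 3, 4, 5, 1, 2, 5, 1, 3, 2, 3, 4, 1, 0, 1, 5, 0, 1],
   [2, 4, 3, 2, 3, 1, 0, 5, 1, 0, 1, 2, 0, 4],
   [4, 3, 2, 3, 2, 5, 1, 0, 1, 5, 0, 1],
   [2, 4, 3, 2, 3, 4, 5, 1, 2, 5, 1, 1, 0, 5, 1, 0, 1, 3, 2, 3],
   [4, 3, 2, 3, 1, 2, 5, 1, 3, 2, 3, 2, 4, 1, 2, 5, 1, 3, 2, 3, 1, 2, 5, 1],
   [4, 3, 2, 3, 1, 2, 5, 1, 3, 2, 3, 4, 1, 2, 5, 1, 3, 2, 3, 1, 0, 5, 1, 0, 1, 5],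
   [4, 3, 2, 3, 2, 4, 5, 1, 2, 5, 1, 1, 0, 5, 1, 0, 1, 3, 2, 3, 1, 2, 5, 1],
   [4, 3, 2, 3, 4, 1, 2, 5, 1, 3, 2, 3, 4, 1, 0, 1, 5, 0, 1, 3, 2, 3, 4],
   [4, 3, 2, 3, 1, 2, 5, 1, 3, 2, 3, 4, 1, 2, 5, 1, 3, 2, 3],
   [4, 3, 2, 3, 1, 2, 5, 1, 0, 2, 1, 0, 5, 1, 0, 1, 3, 2, 3],
   [2, 4, 3, 2, 3, 1, 2, 5, 1, 0, 4, 3, 2, 3, 4, 1, 0, 5, 1, 0, 1],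
   [2, 4, 3, 2, 3, 4, 1, 2, 5, 1, 3, 2, 3, 4],
   [0, 4, 3, 2, 3, 1, 2, 5, 1, 0, 4, 3, 2, 3, 4, 1, 0, 1, 5, 0, 1],
   [4, 3, 2, 3, 2, 5, 1, 2, 5, 1, 1, 0, 5, 1, 0, 1, 3, 2, 3],
   [4, 3, 2, 3, 1, 2, 5, 1, 3, 2, 3, 4, 1, 2, 5, 1, 3, 2, 3, 2, 4],
   [4, 3, 2, 3, 4, 1, 2, 5, 1, 3, 2, 3, 1, 0, 5, 1, 0, 1, 3, 2, 3, 4, 5],
   [4, 3, 2, 3, 1, 2, 5, 1, 0, 3, 2, 3, 4, 5, 1, 2, 5, 1],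
   [4, 5, 3, 2, 3, 1, 0, 1, 5, 0, 1, 2, 1, 2, 5, 1, 1, 0, 5, 1, 0, 1],
   [2, 4, 3, 2, 3, 1, 2, 5, 1, 0, 4, 3, 2, 3, 4, 1, 0, 1, 5, 0, 1, 1, 2, 5, 1, 3, 2, 3],
   [4, 3, 2, 3, 2, 1, 2, 5, 1, 1, 0, 5, 1, 0, 1, 1, 2, 5, 1],
   [4, 3, 2, 3, 4, 1, 2, 5, 1, 3, 2, 3, 2, 1, 0, 1, 5, 0, 1, 1, 2, 5, 1],
   [4, 3, 2, 3, 4, 1, 2, 5, 1, 3, 2, 3, 1, 0, 5, 1, 0, 1, 5, 4],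
   [0, 4, 3, 2, 3, 4, 1, 2, 5, 1, 3, 2, 3, 1, 0, 5, 1, 0, 1],
   [0, 4, 3, 2, 3, 1, 0, 1, 5, 0, 1, 1, 2, 5, 1, 3, 2, 3],
   [0, 4, 3, 2, 3, 4, 1, 2, 5, 1, 3, 2, 3],
   [0, 4, 3, 2, 3, 1, 2, 5, 1, 0, 4, 3, 2, 3, 4],
   [4, 5, 3, 2, 3, 1, 2, 5, 1, 1, 0, 5, 1, 0, 1, 5, 3, 2, 3],
   [4, 3, 2, 3, 4, 1, 2, 5, 1, 3, 2, 3, 1, 2, 5, 1, 1, 0, 5, 1, 0, 1, 1, 2, 5, 1],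
   [4, 3, 2, 3, 1, 0, 1, 5, 0, 1, 0, 1, 2, 5, 1, 1, 0, 5, 1, 0, 1],
   [0, 4, 3, 2, 3, 4, 1, 2, 5, 1, 3, 2, 3, 4],
   [2, 4, 3, 2, 3, 1, 0, 5, 1, 0, 1, 2, 4, 1, 2, 5, 1, 1, 0, 1, 5, 0, 1, 3, 2, 3],
   [4, 3, 2, 3, 1, 0, 1, 5, 0, 1, 0, 4, 1, 2, 5, 1, 3, 2, 3, 1, 2, 5, 1, 3, 2, 3, 4],
   [4, 3, 2, 3, 4, 5, 1, 0, 1, 5, 0, 1, 1, 2, 5, 1, 3, 2, 3, 1, 2, 5, 1, 3, 2, 3],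
   [4, 5, 3, 2, 3, 1, 2, 5, 1, 3, 2, 3, 4, 3, 2, 3],
   [0, 4, 3, 2, 3, 4, 5, 1, 2, 5, 1, 3, 2, 3, 4, 3, 2, 3],
   [4, 3, 2, 3, 1, 2, 5, 1, 0, 1, 0, 5, 1, 0, 1, 1, 2, 5, 1],
   [4, 3, 2, 3, 4, 5, 1, 2, 5, 1, 3, 2, 3, 1, 0, 1, 5, 0, 1, 1, 2, 5, 1],
   [2, 4, 3, 2, 3, 4, 5, 1, 2, 5, 1, 3, 2, 3, 4, 1, 0, 1, 5, 0, 1, 1, 2, 5, 1, 3, 2, 3],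
   [2, 4, 3, 2, 3, 4, 1, 2, 5, 1, 3, 2, 3, 4, 1, 0, 5, 1, 0, 1],
   [4, 3, 2, 3, 2, 5, 1, 2, 5, 1, 3, 2, 3, 4, 3, 2, 3],
   [4, 3, 2, 3, 4, 1, 0, 1, 5, 0, 1, 1, 2, 5, 1, 3, 2, 3, 1, 2, 5, 1, 3, 2, 3, 2]]

/-- Words. -/
def caseBTws13 : List (List ℕ) :=
  [[0, 4, 3, 2, 3, 4, 1, 0, 1, 5, 0, 1, 1, 2, 5, 1, 3, 2, 3, 1, 2, 5, 1, 3, 2, 3, 4, 2],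
   [2, 4, 3, 2, 3, 4, 5, 1, 2, 5, 1, 3, 2, 3, 4, 3, 2, 3],
   [4, 3, 2, 3, 1, 0, 1, 5, 0, 1, 2, 4, 1, 2, 5, 1, 3, 2, 3, 1, 2, 5, 1, 3, 2, 3],
   [0, 4, 3, 2, 3, 1, 0, 1, 5, 0, 1, 2, 4, 1, 2, 5, 1, 3, 2, 3, 1, 2, 5, 1, 3, 2, 3, 4],
   [4, 3, 2, 3, 1, 2, 5, 1, 3, 2, 3, 2, 4, 5, 3, 2, 3],
   [2, 4, 3, 2, 3, 4, 1, 2, 5, 1, 3, 2, 3, 2, 4, 3, 2, 3],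
   [4, 3, 2, 3, 1, 2, 5, 1, 0, 1, 0, 5, 1, 0, 1],
   [4, 3, 2, 3, 1, 2, 5, 1, 1, 0, 5, 1, 0, 1, 5, 4, 3, 2, 3, 1, 2, 5, 1],
   [2, 4, 3, 2, 3, 1, 2, 5, 1, 3, 2, 3, 4],
   [4, 3, 2, 3, 1, 2, 5, 1, 3, 2, 3, 4, 3, 2, 3, 4, 5, 1, 0, 1, 5, 0, 1],
   [4, 3, 2, 3, 4, 1, 0, 5, 1, 0, 1, 1, 2, 5, 1, 3, 2, 3, 2, 1, 0, 1, 5, 0, 1],
   [2, 4, 3, 2, 3, 1, 0, 5, 1, 0, 1, 2, 1, 2, 5, 1, 1, 0, 1, 5, 0, 1],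
   [4, 3, 2, 3, 1, 2, 5, 1, 1, 0, 5, 1, 0, 1],
   [0, 4, 3, 2, 3, 1, 2, 5, 1, 3, 2, 3, 4, 1, 2, 5, 1],
   [4, 3, 2, 3, 4, 5, 1, 2, 5, 1, 1, 0, 5, 1, 0, 1, 5, 3, 2, 3, 1, 2, 5, 1],
   [2, 4, 3, 2, 3, 4, 5, 1, 2, 5, 1, 3, 2, 3, 4, 1, 0, 5, 1, 0, 1],
   [0, 4, 5, 3, 2, 3, 1, 2, 5, 1, 3, 2, 3, 4, 1, 2, 5, 1],
   [4, 3, 2, 3, 1, 2, 5, 1, 0, 5, 3, 2, 3, 1, 2, 5, 1],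
   [4, 3, 2, 3, 4, 1, 2, 5, 1, 3, 2, 3, 1, 0, 5, 1, 0, 1],
   [4, 3, 2, 3, 4, 1, 0, 1, 5, 0, 1, 1, 2, 5, 1, 3, 2, 3, 1, 2, 5, 1, 0, 3, 2, 3, 4],
   [0, 4, 3, 2, 3, 4, 1, 0, 1, 5, 0, 1, 1, 2, 5, 1, 3, 2, 3, 1, 2, 5, 1, 0, 3, 2, 3],
   [2, 4, 3, 2, 3, 1, 2, 5, 1, 3, 2, 3, 4, 3, 2, 3],
   [4, 3, 2, 3, 2, 4, 1, 2, 5, 1, 3, 2, 3, 4, 3, 2, 3],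
   [4, 3, 2, 3, 1, 2, 5, 1, 3, 2, 3, 4, 5, 1, 2, 5, 1],
   [2, 4, 3, 2, 3, 4, 1, 2, 5, 1, 3, 2, 3, 2, 4, 1, 0, 5, 1, 0, 1],
   [4, 3, 2, 3, 1, 2, 5, 1, 0, 4, 3, 2, 3, 1, 0, 5, 1, 0, 1],
   [4, 3, 2, 3, 2, 4, 1, 2, 5, 1, 1, 0, 5, 1, 0, 1, 1, 2, 5, 1, 3, 2, 3],
   [4, 3, 2, 3, 4, 1, 2, 5, 1, 3, 2, 3, 2, 4, 1, 0, 1, 5, 0, 1, 1, 2, 5, 1, 3, 2, 3],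
   [4, 3, 2, 3, 4, 1, 2, 5, 1, 3, 2, 3, 1, 0, 5, 1, 0, 1, 5, 3, 2, 3],
   [4, 3, 2, 3, 4, 1, 2, 5, 1, 3, 2, 3, 1, 0, 1, 5, 0, 1, 0, 4, 1, 2, 5, 1, 3, 2, 3, 4],
   [2, 4, 3, 2, 3, 1, 0, 1, 5, 0, 1, 2, 4],
   [4, 3, 2, 3, 4, 5, 1, 2, 5, 1, 3, 2, 3, 1, 2, 5, 1, 3, 2, 3, 4],
   [2, 4, 3, 2, 3, 1, 0, 5, 1, 0, 1],
   [4, 3, 2, 3, 4, 1, 2, 5, 1, 3, 2, 3, 1, 0, 1, 5, 0, 1, 2, 4],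
   [0, 4, 3, 2, 3, 1, 2, 5, 1, 0, 3, 2, 3, 4],
   [4, 3, 2, 3, 2, 4, 1, 0, 5, 1, 0, 1, 1, 2, 5, 1, 3, 2, 3, 1, 0, 1, 5, 0, 1],
   [2, 4, 3, 2, 3, 1, 0, 5, 1, 0, 1, 1, 2, 5, 1, 1, 0, 1, 5, 0, 1],
   [0, 4, 3, 2, 3, 1, 0, 1, 5, 0, 1, 2, 4, 1, 2, 5, 1, 3, 2, 3, 1, 2, 5, 1, 3, 2, 3],
   [4, 3, 2, 3, 1, 0, 1, 5, 0, 1, 2, 4, 1, 2, 5, 1, 3, 2, 3, 1, 2, 5, 1, 3, 2, 3, 4],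
   [4, 3, 2, 3, 2, 4, 5, 1, 2, 5, 1, 3, 2, 3, 4, 3, 2, 3],
   [2, 4, 5, 3, 2, 3, 1, 2, 5, 1, 3, 2, 3, 4, 3, 2, 3],
   [4, 3, 2, 3, 4, 5, 1, 0, 1, 5, 0, 1, 1, 2, 5, 1, 3, 2, 3, 1, 2, 5, 1, 3, 2, 3, 4],
   [4, 3, 2, 3, 1, 0, 1, 5, 0, 1, 0, 4, 1, 2, 5, 1, 3, 2, 3, 1, 2, 5, 1, 3, 2, 3],
   [4, 3, 2, 3, 4, 1, 2, 5, 1, 3, 2, 3, 2, 4, 3, 2, 3],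
   [0, 4, 3, 2, 3, 1, 2, 5, 1, 3, 2, 3, 2, 4, 3, 2, 3],
   [4, 3, 2, 3, 4, 1, 2, 5, 1, 3, 2, 3, 1, 0, 1, 5, 0, 1, 2, 4, 1, 2, 5, 1, 3, 2, 3, 4],
   [0, 4, 3, 2, 3, 1, 2, 5, 1, 0, 3, 2, 3, 4, 3, 2, 3, 1, 0, 1, 5, 0, 1],
   [4, 3, 2, 3, 1, 2, 5, 1, 3, 2, 3, 4, 3, 2, 3, 4, 1, 0, 1, 5, 0, 1],
   [4, 3, 2, 3, 4, 1, 0, 1, 5, 0, 1, 1, 2, 5, 1, 3, 2, 3, 1, 2, 5, 1, 3, 2, 3, 4],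
   [2, 4, 3, 2, 3, 1, 2, 5, 1, 0, 3, 2, 3, 4, 3, 2, 3],
   [4, 3, 2, 3, 1, 2, 5, 1, 3, 2, 3, 4, 3, 2, 3, 4, 5],
   [0, 4, 3, 2, 3, 4, 1, 0, 1, 5, 0, 1, 1, 2, 5, 1, 3, 2, 3, 1, 2, 5, 1, 3, 2, 3],
   [2, 4, 3, 2, 3, 1, 0, 5, 1, 0, 1, 1, 2, 5, 1],
   [4, 3, 2, 3, 1, 2, 5, 1, 0, 4, 3, 2, 3, 4],
   [4, 3, 2, 3, 2, 4, 1, 0, 5, 1, 0, 1, 1, 2, 5, 1],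
   [2, 4, 3, 2, 3, 4, 1, 2, 5, 1, 3, 2, 3, 2],
   [4, 3, 2, 3, 2, 1, 0, 1, 5, 0, 1, 2, 4],
   [4, 3, 2, 3, 1, 2, 5, 1, 3, 2, 3, 4, 3, 2, 3, 1, 0, 5, 1, 0, 1],
   [4, 3, 2, 3, 2, 4, 1, 2, 5, 1, 3, 2, 3, 4, 1, 0, 1, 5, 0, 1],
   [4, 5, 3, 2, 3, 1, 0, 5, 1, 0, 1, 1, 2, 5, 1, 1, 0, 1, 5, 0, 1],
   [4, 3, 2, 3, 1, 0, 5, 1, 0, 1, 5, 4, 1, 2, 5, 1, 1, 0, 1, 5, 0, 1],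
   [4, 3, 2, 3, 4, 1, 2, 5, 1, 3, 2, 3, 1, 0, 1, 5, 0, 1, 2],
   [4, 3, 2, 3, 1, 2, 5, 1, 0, 1, 0, 5, 1, 0, 1, 1, 2, 5, 1, 3, 2, 3],
   [4, 3, 2, 3, 1, 2, 5, 1, 3, 2, 3, 2, 4, 5, 1, 2, 5, 1, 3, 2, 3, 4]]

/-- Words. -/
def caseBTws14 : List (List ℕ) :=
  [[4, 3, 2, 3, 2, 4, 1, 2, 5, 1, 3, 2, 3, 1, 0, 5, 1, 0, 1, 3, 2, 3, 4],
   [0, 4, 3, 2, 3, 1, 2, 5, 1, 3, 2, 3, 2, 4, 1, 2, 5, 1],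
   [0, 4, 5, 3, 2, 3, 1, 2, 5, 1, 1, 0, 5, 1, 0, 1, 1, 2, 5, 1],
   [4, 3, 2, 3, 4, 1, 2, 5, 1, 3, 2, 3, 1, 0, 1, 5, 0, 1, 1, 2, 5, 1],
   [0, 4, 3, 2, 3, 4, 1, 2, 5, 1, 3, 2, 3, 4, 1, 0, 5, 1, 0, 1],
   [2, 4, 3, 2, 3, 4, 1, 2, 5, 1, 3, 2, 3, 4, 1, 0, 1, 5, 0, 1, 1, 2, 5, 1, 3, 2, 3],
   [4, 3, 2, 3, 2, 4, 1, 0, 1, 5, 0, 1, 1, 2, 5, 1, 3, 2, 3, 1, 2, 5, 1, 3, 2, 3, 4],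
   [4, 3, 2, 3, 1, 2, 5, 1, 3, 2, 3, 4, 3, 2, 3, 4],
   [0, 4, 3, 2, 3, 1, 2, 5, 1, 0, 3, 2, 3, 4, 3, 2, 3],
   [2, 4, 3, 2, 3, 4, 1, 0, 1, 5, 0, 1, 1, 2, 5, 1, 3, 2, 3, 1, 2, 5, 1, 3, 2, 3],
   [4, 3, 2, 3, 1, 0, 5, 1, 0, 1, 2, 1, 2, 5, 1, 1, 0, 1, 5, 0, 1],
   [4, 3, 2, 3, 1, 0, 5, 1, 0, 1, 1, 2, 5, 1, 1, 0, 1, 5, 0, 1, 2, 4],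
   [4, 3, 2, 3, 4, 1, 2, 5, 1, 3, 2, 3, 2, 1, 0, 1, 5, 0, 1],
   [2, 4, 3, 2, 3, 1, 2, 5, 1, 0, 4, 3, 2, 3, 4, 1, 0, 1, 5, 0, 1],
   [0, 4, 3, 2, 3, 1, 0, 5, 1, 0, 1, 1, 2, 5, 1, 0, 1, 0, 1, 5, 0, 1],
   [4, 3, 2, 3, 1, 0, 5, 1, 0, 1, 1, 2, 5, 1, 0, 4, 1, 0, 1, 5, 0, 1],
   [4, 3, 2, 3, 2, 4, 5, 1, 2, 5, 1, 3, 2, 3, 4, 1, 0, 1, 5, 0, 1],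
   [0, 4, 3, 2, 3, 4, 1, 2, 5, 1, 3, 2, 3, 1, 0, 1, 5, 0, 1],
   [4, 3, 2, 3, 4, 1, 0, 5, 1, 0, 1, 1, 2, 5, 1, 1, 0, 1, 5, 0, 1, 3, 2, 3, 2, 4],
   [4, 3, 2, 3, 1, 0, 5, 1, 0, 1, 1, 2, 5, 1, 0, 4, 1, 0, 1, 5, 0, 1, 3, 2, 3],
   [4, 3, 2, 3, 4, 1, 2, 5, 1, 3, 2, 3, 1, 2, 5, 1, 3, 2, 3, 2],
   [4, 3, 2, 3, 4, 1, 2, 5, 1, 3, 2, 3, 1, 2, 5, 1, 3, 2, 3, 4, 5],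
   [4, 3, 2, 3, 1, 2, 5, 1, 0, 3, 2, 3, 4, 1, 2, 5, 1, 3, 2, 3, 4, 1, 0, 5, 1, 0, 1],
   [4, 3, 2, 3, 4, 1, 2, 5, 1, 1, 0, 5, 1, 0, 1, 3, 2, 3, 1, 2, 5, 1],
   [2, 4, 3, 2, 3, 4, 1, 2, 5, 1, 3, 2, 3, 4, 1, 0, 1, 5, 0, 1, 1, 2, 5, 1, 3, 2, 3, 4, 0],
   [2, 4, 3, 2, 3, 4, 5, 1, 0, 5, 1, 0, 1],
   [4, 3, 2, 3, 2, 4, 1, 2, 5, 1, 3, 2, 3, 1, 2, 5, 1, 3, 2, 3, 4, 5],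
   [4, 3, 2, 3, 1, 0, 5, 1, 0, 1, 1, 2, 5, 1, 1, 0, 1, 5, 0, 1, 0, 4, 3, 2, 3, 4],
   [4, 3, 2, 3, 2, 4, 5, 1, 0, 5, 1, 0, 1, 1, 2, 5, 1, 1, 0, 1, 5, 0, 1, 3, 2, 3],
   [4, 3, 2, 3, 4, 1, 2, 5, 1, 3, 2, 3, 1, 2, 5, 1, 0, 3, 2, 3],
   [2, 4, 3, 2, 3, 4, 5, 1, 2, 5, 1, 3, 2, 3, 1, 2, 5, 1, 3, 2, 3],
   [4, 3, 2, 3, 1, 0, 5, 1, 0, 1, 1, 2, 5, 1, 1, 0, 1, 5, 0, 1, 2, 4, 3, 2, 3],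
   [4, 3, 2, 3, 2, 4, 1, 2, 5, 1, 3, 2, 3, 1, 2, 5, 1, 3, 2, 3, 4],
   [4, 3, 2, 3, 1, 0, 5, 1, 0, 1, 2, 4, 1, 2, 5, 1, 1, 0, 1, 5, 0, 1, 3, 2, 3, 4],
   [0, 4, 3, 2, 3, 4, 5, 1, 2, 5, 1, 3, 2, 3, 1, 2, 5, 1, 3, 2, 3],
   [4, 3, 2, 3, 4, 1, 0, 5, 1, 0, 1, 1, 2, 5, 1, 1, 0, 1, 5, 0, 1, 3, 2, 3],
   [0, 4, 3, 2, 3, 4, 1, 0, 5, 1, 0, 1, 1, 2, 5, 1, 1, 0, 1, 5, 0, 1, 3, 2, 3, 4],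
   [4, 3, 2, 3, 4, 1, 2, 5, 1, 3, 2, 3, 1, 2, 5, 1, 3, 2, 3, 4],
   [4, 3, 2, 3, 2, 4, 1, 2, 5, 1, 3, 2, 3, 2, 1, 2, 5, 1, 3, 2, 3],
   [0, 4, 3, 2, 3, 4, 1, 0, 5, 1, 0, 1, 1, 2, 5, 1, 1, 0, 1, 5, 0, 1, 3, 2, 3, 4, 0],
   [4, 3, 2, 3, 1, 0, 5, 1, 0, 1, 1, 2, 5, 1, 1, 0, 1, 5, 0, 1, 0, 4, 3, 2, 3],
   [4, 3, 2, 3, 4, 1, 2, 5, 1, 3, 2, 3, 1, 2, 5, 1, 0, 3, 2, 3, 4],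
   [2, 4, 3, 2, 3, 4, 5, 1, 0, 1, 5, 0, 1, 1, 2, 5, 1, 3, 2, 3, 1, 2, 5, 1, 3, 2, 3],
   [4, 3, 2, 3, 2, 4, 1, 2, 5, 1, 3, 2, 3, 2, 4, 3, 2, 3],
   [4, 3, 2, 3, 4, 1, 0, 1, 5, 0, 1, 1, 2, 5, 1, 3, 2, 3, 1, 2, 5, 1, 3, 2, 3, 2, 4],
   [2, 4, 3, 2, 3, 1, 2, 5, 1, 3, 2, 3, 2, 4, 3, 2, 3],
   [0, 4, 3, 2, 3, 1, 0, 1, 5, 0, 1, 2, 4, 1, 2, 5, 1, 3, 2, 3, 1, 2, 5, 1],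
   [2, 4, 3, 2, 3, 1, 2, 5, 1, 3, 2, 3, 4, 1, 2, 5, 1, 3, 2, 3, 1, 0, 5, 1, 0, 1],
   [4, 3, 2, 3, 2, 4, 5, 1, 2, 5, 1, 3, 2, 3, 4, 1, 0, 1, 5, 0, 1, 1, 2, 5, 1, 3, 2, 3],
   [4, 3, 2, 3, 2, 5, 1, 0, 5, 1, 0, 1],
   [0, 4, 5, 3, 2, 3, 1, 2, 5, 1, 3, 2, 3, 4, 1, 2, 5, 1, 3, 2, 3, 4],
   [4, 3, 2, 3, 4, 1, 2, 5, 1, 3, 2, 3, 1, 0, 5, 1, 0, 1, 3, 2, 3, 4],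
   [2, 4, 5, 3, 2, 3, 1, 0, 1, 5, 0, 1, 1, 2, 5, 1, 1, 0, 5, 1, 0, 1],
   [4, 3, 2, 3, 2, 5, 1, 2, 5, 1, 3, 2, 3, 4, 1, 2, 5, 1],
   [4, 3, 2, 3, 1, 2, 5, 1, 0, 1, 0, 5, 1, 0, 1, 1, 2, 5, 1, 3, 2, 3, 4],
   [4, 3, 2, 3, 1, 2, 5, 1, 3, 2, 3, 2, 4, 5, 1, 2, 5, 1, 3, 2, 3],
   [4, 3, 2, 3, 2, 4, 1, 2, 5, 1, 3, 2, 3, 1, 0, 5, 1, 0, 1, 3, 2, 3],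
   [0, 4, 3, 2, 3, 1, 2, 5, 1, 3, 2, 3, 2, 1, 2, 5, 1],
   [2, 4, 3, 2, 3, 4, 1, 0, 5, 1, 0, 1, 1, 2, 5, 1],
   [4, 3, 2, 3, 1, 2, 5, 1, 0, 4, 3, 2, 3],
   [4, 3, 2, 3, 2, 1, 0, 5, 1, 0, 1, 1, 2, 5, 1],
   [2, 4, 3, 2, 3, 4, 1, 2, 5, 1, 3, 2, 3, 2, 4],
   [4, 3, 2, 3, 1, 2, 5, 1, 3, 2, 3, 4, 5, 3, 2, 3],
   [4, 3, 2, 3, 4, 1, 0, 1, 5, 0, 1, 1, 2, 5, 1, 3, 2, 3, 1, 2, 5, 1, 3, 2, 3]]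

/-- Words. -/
def caseBTws15 : List (List ℕ) :=
  [[2, 4, 3, 2, 3, 4, 1, 2, 5, 1, 3, 2, 3, 4, 3, 2, 3],
   [0, 4, 3, 2, 3, 4, 1, 0, 1, 5, 0, 1, 1, 2, 5, 1, 3, 2, 3, 1, 2, 5, 1, 3, 2, 3, 4],
   [0, 4, 3, 2, 3, 4, 1, 2, 5, 1, 3, 2, 3, 4, 3, 2, 3, 1, 0, 1, 5, 0, 1],
   [4, 3, 2, 3, 4, 1, 2, 5, 1, 3, 2, 3, 1, 0, 1, 5, 0, 1, 2, 4, 1, 2, 5, 1, 3, 2, 3],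
   [2, 4, 3, 2, 3, 4, 1, 2, 5, 1, 3, 2, 3, 4, 1, 0, 1, 5, 0, 1, 1, 2, 5, 1, 3, 2, 3, 4],
   [4, 3, 2, 3, 1, 2, 5, 1, 3, 2, 3, 4, 3, 2, 3, 1, 0, 1, 5, 0, 1],
   [4, 3, 2, 3, 4, 1, 2, 5, 1, 3, 2, 3, 4, 1, 0, 1, 5, 0, 1, 1, 2, 5, 1, 3, 2, 3],
   [4, 3, 2, 3, 1, 2, 5, 1, 0, 3, 2, 3, 4, 3, 2, 3, 1, 0, 1, 5, 0, 1],
   [0, 4, 3, 2, 3, 1, 2, 5, 1, 3, 2, 3, 4, 3, 2, 3, 4, 1, 0, 1, 5, 0, 1],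
   [2, 4, 3, 2, 3, 4, 1, 2, 5, 1, 3, 2, 3, 4, 1, 0, 1, 5, 0, 1, 1, 2, 5, 1, 3, 2, 3, 4, 5],
   [4, 3, 2, 3, 2, 4, 1, 0, 1, 5, 0, 1, 1, 2, 5, 1, 3, 2, 3, 1, 2, 5, 1, 3, 2, 3],
   [4, 3, 2, 3, 1, 2, 5, 1, 3, 2, 3, 4, 3, 2, 3],
   [0, 4, 3, 2, 3, 4, 1, 2, 5, 1, 3, 2, 3, 4, 3, 2, 3],
   [2, 4, 3, 2, 3, 4, 1, 0, 1, 5, 0, 1, 1, 2, 5, 1, 3, 2, 3, 1, 2, 5, 1, 3, 2, 3, 4],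
   [4, 3, 2, 3, 1, 2, 5, 1, 0, 3, 2, 3, 4, 5, 3, 2, 3],
   [4, 3, 2, 3, 4, 1, 0, 1, 5, 0, 1, 1, 2, 5, 1, 3, 2, 3, 1, 2, 5, 1, 0, 3, 2, 3],
   [2, 4, 3, 2, 3, 1, 2, 5, 1, 3, 2, 3, 4, 3, 2, 3, 4],
   [0, 4, 3, 2, 3, 4, 1, 0, 1, 5, 0, 1, 1, 2, 5, 1, 3, 2, 3, 1, 2, 5, 1, 0, 3, 2, 3, 4],
   [4, 3, 2, 3, 1, 2, 5, 1, 3, 2, 3, 2, 4, 1, 2, 5, 1, 3, 2, 3, 4, 1, 0, 5, 1, 0, 1],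
   [2, 4, 3, 2, 3, 1, 2, 5, 1, 0, 4, 1, 0, 5, 1, 0, 1, 3, 2, 3, 1, 2, 5, 1],
   [4, 3, 2, 3, 2, 4, 1, 2, 5, 1, 3, 2, 3, 2, 4, 1, 0, 1, 5, 0, 1, 1, 2, 5, 1, 3, 2, 3, 4],
   [4, 3, 2, 3, 2, 1, 0, 5, 1, 0, 1, 2, 4],
   [2, 4, 3, 2, 3, 4, 5, 1, 0, 1, 5, 0, 1, 1, 2, 5, 1, 3, 2, 3, 1, 2, 5, 1],
   [2, 4, 3, 2, 3, 1, 2, 5, 1, 3, 2, 3, 2, 4, 1, 2, 5, 1, 3, 2, 3, 1, 0, 5, 1, 0, 1],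
   [4, 3, 2, 3, 2, 1, 0, 5, 1, 0, 1],
   [4, 3, 2, 3, 2, 4, 1, 2, 5, 1, 3, 2, 3, 4, 1, 0, 1, 5, 0, 1, 1, 2, 5, 1, 3, 2, 3],
   [2, 4, 5, 3, 2, 3, 1, 0, 1, 5, 0, 1, 2],
   [2, 4, 3, 2, 3, 4, 5, 1, 2, 5, 1, 3, 2, 3, 1, 0, 1, 5, 0, 1],
   [2, 4, 3, 2, 3, 1, 2, 5, 1, 0, 4, 3, 2, 3, 4],
   [4, 5, 3, 2, 3, 1, 2, 5, 1, 1, 0, 5, 1, 0, 1, 3, 2, 3],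
   [2, 4, 3, 2, 3, 4, 1, 2, 5, 1, 3, 2, 3, 4, 1, 0, 1, 5, 0, 1],
   [4, 3, 2, 3, 4, 1, 2, 5, 1, 3, 2, 3, 1, 0, 5, 1, 0, 1, 2, 4],
   [2, 4, 3, 2, 3, 1, 2, 5, 1, 0, 4, 3, 2, 3, 1, 0, 5, 1, 0, 1],
   [0, 4, 3, 2, 3, 1, 0, 1, 5, 0, 1, 2, 1, 2, 5, 1, 3, 2, 3],
   [2, 4, 3, 2, 3, 4, 1, 2, 5, 1, 3, 2, 3],
   [0, 4, 3, 2, 3, 1, 2, 5, 1, 0, 4, 3, 2, 3, 1, 0, 1, 5, 0, 1],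
   [4, 3, 2, 3, 1, 0, 5, 1, 0, 1, 1, 2, 5, 1, 0, 4, 1, 0, 1, 5, 0, 1, 3, 2, 3, 4],
   [4, 3, 2, 3, 4, 1, 2, 5, 1, 3, 2, 3, 1, 2, 5, 1, 3, 2, 3, 2, 4],
   [4, 3, 2, 3, 4, 1, 0, 5, 1, 0, 1, 1, 2, 5, 1, 1, 0, 1, 5, 0, 1, 3, 2, 3, 2],
   [4, 3, 2, 3, 4, 1, 2, 5, 1, 3, 2, 3, 2, 1, 2, 5, 1, 3, 2, 3],
   [4, 3, 2, 3, 1, 0, 5, 1, 0, 1, 2, 4, 5, 1, 2, 5, 1, 1, 0, 1, 5, 0, 1, 3, 2, 3],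
   [2, 4, 3, 2, 3, 4, 1, 0, 5, 1, 0, 1, 1, 2, 5, 1, 1, 0, 1, 5, 0, 1, 3, 2, 3, 4, 5],
   [2, 4, 3, 2, 3, 4, 1, 2, 5, 1, 3, 2, 3, 1, 2, 5, 1, 3, 2, 3, 4],
   [4, 3, 2, 3, 2, 4, 5, 1, 2, 5, 1, 3, 2, 3, 1, 2, 5, 1, 3, 2, 3],
   [4, 3, 2, 3, 2, 4, 1, 0, 5, 1, 0, 1, 1, 2, 5, 1, 1, 0, 1, 5, 0, 1, 3, 2, 3],
   [2, 4, 3, 2, 3, 4, 1, 0, 5, 1, 0, 1, 1, 2, 5, 1, 1, 0, 1, 5, 0, 1, 3, 2, 3, 4],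
   [4, 3, 2, 3, 1, 2, 5, 1, 0, 4, 5, 3, 2, 3, 1, 2, 5, 1, 3, 2, 3],
   [4, 3, 2, 3, 1, 2, 5, 1, 0, 3, 2, 3, 4, 3, 2, 3, 1, 0, 5, 1, 0, 1],
   [4, 3, 2, 3, 2, 4, 5, 1, 2, 5, 1, 3, 2, 3, 1, 2, 5, 1, 3, 2, 3, 4],
   [4, 3, 2, 3, 1, 0, 5, 1, 0, 1, 2, 0, 4, 1, 2, 5, 1, 1, 0, 1, 5, 0, 1, 3, 2, 3],
   [2, 4, 3, 2, 3, 4, 1, 0, 5, 1, 0, 1, 1, 2, 5, 1, 1, 0, 1, 5, 0, 1, 3, 2, 3, 4, 2],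
   [2, 4, 3, 2, 3, 4, 1, 2, 5, 1, 3, 2, 3, 1, 2, 5, 1, 3, 2, 3],
   [4, 3, 2, 3, 2, 1, 0, 5, 1, 0, 1, 1, 2, 5, 1, 1, 0, 1, 5, 0, 1],
   [4, 3, 2, 3, 1, 2, 5, 1, 0, 4, 3, 2, 3, 1, 0, 1, 5, 0, 1],
   [2, 4, 3, 2, 3, 4, 1, 2, 5, 1, 3, 2, 3, 2, 4, 1, 0, 1, 5, 0, 1],
   [2, 4, 3, 2, 3, 4, 1, 0, 5, 1, 0, 1, 1, 2, 5, 1, 1, 0, 1, 5, 0, 1],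
   [2, 4, 3, 2, 3, 1, 0, 5, 1, 0, 1, 2, 4, 1, 2, 5, 1, 1, 0, 1, 5, 0, 1],
   [4, 3, 2, 3, 2, 1, 0, 5, 1, 0, 1, 2, 1, 2, 5, 1, 1, 0, 1, 5, 0, 1],
   [4, 3, 2, 3, 4, 1, 2, 5, 1, 3, 2, 3, 1, 0, 1, 5, 0, 1, 0],
   [0, 4, 3, 2, 3, 4, 1, 2, 5, 1, 3, 2, 3, 2, 4, 1, 0, 1, 5, 0, 1],
   [2, 4, 3, 2, 3, 1, 2, 5, 1, 3, 2, 3, 2, 4, 1, 2, 5, 1, 3, 2, 3, 4, 1, 0, 5, 1, 0, 1],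
   [0, 4, 3, 2, 3, 4, 1, 2, 5, 1, 1, 0, 5, 1, 0, 1, 3, 2, 3, 1, 2, 5, 1],
   [4, 3, 2, 3, 2, 4, 1, 2, 5, 1, 3, 2, 3, 4, 1, 0, 1, 5, 0, 1, 1, 2, 5, 1, 3, 2, 3, 4],
   [4, 3, 2, 3, 2, 4, 1, 0, 5, 1, 0, 1]]

/-- Words. -/
def caseBTws : List (List ℕ) :=
  caseBTws0 ++
  caseBTws1 ++
  caseBTws2 ++
  caseBTws3 ++
  caseBTws4 ++
  caseBTws5 ++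
  caseBTws6 ++
  caseBTws7 ++
  caseBTws8 ++
  caseBTws9 ++
  caseBTws10 ++
  caseBTws11 ++
  caseBTws12 ++
  caseBTws13 ++
  caseBTws14 ++
  caseBTws15

/-- The case. -/
def caseB : Case where
  pts := [1, 16, 30, 68, 260]
  bw := [1, 3]
  w1 := [3, 2, 3, 5]
  w2 := [3, 2, 3, 5, 1, 2, 5, 1, 1, 0, 1, 5, 0, 1, 0]
  xw := [4]
  r1 := 0xb2b39ca1a6959499a99faba384af8382a89db07daa7aa2b17776ac8d8a70aead6e726f6c886b98796897668f658063a7a5a46086615ea0745c9e8c599b9a567c55925396919350908e514c8b4a89874785467f81437e417b443f784e3d75733a71396a6d365835693367373164622f5b5f2d5d2c5a2a572e28545226494f4d234b224820453c42401c3e1b3b19381e17343215301425122b2910270f240d211f0b1d0a1a180816071311050e0c03090206040001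
  r2 := 0xa09bb3b2a490a77b7873715f45ad7e968e8b8940873e85754db16d4bb038afaeacab6957aa3454a9325230a89e429a93a6a5a3a25a67a19f2b649d299c622799984f9781959492918f488d8c218a881f86848382807f7d7c3b7a79771a76741872706f6e166c6b6a685d1d666563136160115e5c5b5958245655530e51504e0c4c4a494746444341093f3d3c3a393736353306312f2e2d2c2a04282625232220001e1c1b190117151412100f0d0b0a0807050302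
  lws := caseBLws
  ews := caseBEws
  keys := [829901515367088, 4125884735417315, 4886997106606769, 4911752085285337, 5553034361194912,
   11344375242488036, 10829718802829514, 5546634893717943, 2292734661702103, 11340776017660132,
   10833072258613329, 6108038658628054, 4876535544424922, 2290989872820306, 7309015416090803,
   7310190446069940, 10829774159632465, 4920773799413983, 6116966524696843, 6108014336456971,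
   836413299824841, 11335262672965708, 7306024021696661, 7303784624074931, 2288970658636093,
   4118927701856728, 4918800181801183, 6115989013233931, 5546971385766304, 6118381074094550,
   830761922306736, 4128985174082008, 4878777369676390, 11332058174306537, 10824720673038612,
   4124288035950910, 2291397488226775, 4117254350957539, 7315878002073749, 837656784062665,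
   4912086200004831, 6118451275831766, 832582360337072, 4884231885365937, 2300963813755351,
   832085231081673, 4876595043943089, 4914922795665631, 5549740066754838, 11343296308558057,
   4913745659120054, 6105528753758898, 830373560161157, 4909917385009590, 7301851683178676,
   4919658780338649, 2298306722902098, 4130573766725950, 4875401936353894, 10823062581172305,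
   5549270891907488, 841843244714185, 4124831638160355, 4882471095575217, 7313216783186099,
   7312287099017396, 4118268844802520, 4876112749316710, 11340194339289316, 10830423224287313,
   5545220356120992, 2295371515474237, 11338992118059084, 10830710600536266, 5542581794918678,
   6108397750301362, 832627457495941, 10824446596739348, 5554094623084822, 2290664389894461,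
   4125009333604824, 5552407463981495, 835219776443269, 4920636612553142, 5545536728781078,
   11340454062887145, 6112220795994379, 4127982767985112, 4886911223970406, 4917538270919129,
   5543527128179104, 11331723644274916, 4122254716503011, 2292775291629885, 4130455378297304,
   5548081676701974, 11343948585744617, 10821559904960593, 4874130185200305, 2292255939529175,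
   7314762514323636, 7308232934967445, 10834307388170516, 4876947235457638, 829526926472069,
   4128103225200958, 4881648031902170, 6107566497968818, 2292414303854909, 835356619360457,
   4912675008983263, 2299443626750034, 4880509521635802, 10828776007659796, 5548244902793494,
   11344454283995212, 10824952223996106, 6108047665469910, 831244075371184, 11341845711982825,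
   10822267898796234, 5545073140146615, 2302108619672023, 830752301615792, 4918848206584281,
   7309366848276629, 836471655176393, 4912214864922847, 2290524439359805, 11340131861450828,
   10834332746944714, 6115570316392715, 11337805871614180, 7304763062810803, 7308472249505972,
   2292166576488530, 4127340239204670, 4923330948188598, 6112686564221618, 4122470295744830,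
   4883565326756314, 4922105185184182, 6111029503763122, 841415400141701, 7311951093254324,
   7314738124464277, 4884267851954790, 10823649540462673, 5554124376918432, 7306437173227699,
   5546720751120823, 6110228824044210, 10828835990401300, 6115919849789910, 4119600506405859,
   11343262430570572, 10823124174346442, 2292081901879378, 7312084014921907, 5555512515338679,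
   2297851175419986, 4126193084477758, 7304257112262805, 10834443254259988, 4922190005053913,
   6119574898842070, 832588860465840, 11337893033736420, 4923468559108534, 11332918404491340,
   4888177731561946, 11332894861725929, 6117079544856843, 4884461851165361, 2290907329278423,
   4127200937372643, 840759721374597, 4908902668745177, 4884547343346138, 5552974680400311]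
  bp := (24, 9)
  imgs := caseBImgs
  tws := caseBTws
  rels := [[0, 0], [1, 1, 1, 1, 1, 1, 1, 1, 1, 1, 1, 1, 1, 1, 1], [1, 0, 1, 0, 1, 0]]
  rels0 := [[0, 0]]
  rels1 := [[1, 1, 1, 1, 1, 1, 1, 1, 1, 1, 1, 1, 1, 1, 1]]
  nonrels := [[1, 1, 1], [1, 1, 1, 1, 1]]
  surv := [(1, 2, 0, 1, 2), (1, 6, 1, 1, 2), (1, 8, 0, 1, 8), (1, 18, 140, 1, 2), (1, 19, 1, 1, 8),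
   (1, 34, 0, 1, 34), (1, 36, 121, 1, 2), (1, 41, 1, 1, 34), (1, 71, 0, 1, 71), (1, 84, 1, 1, 71),
   (1, 114, 140, 1, 34), (1, 128, 121, 1, 34), (1, 130, 140, 1, 8), (1, 153, 140, 1, 71),
   (1, 163, 121, 1, 71), (1, 173, 121, 1, 8), (20, 2, 18, 1, 2), (20, 7, 18, 1, 8),
   (20, 12, 11, 1, 71), (20, 18, 115, 1, 2), (20, 19, 11, 1, 8), (20, 38, 11, 1, 34),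
   (20, 47, 11, 1, 2), (20, 81, 85, 1, 2), (20, 106, 115, 1, 34), (20, 124, 85, 1, 34),
   (20, 127, 115, 1, 8), (20, 136, 18, 1, 34), (20, 145, 115, 1, 71), (20, 161, 85, 1, 71),
   (20, 173, 85, 1, 8), (20, 177, 18, 1, 71), (21, 5, 3, 1, 71), (21, 6, 3, 1, 2), (21, 7, 3, 1, 8),
   (21, 8, 6, 1, 8), (21, 36, 89, 1, 2), (21, 47, 6, 1, 2), (21, 68, 116, 1, 34),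
   (21, 69, 3, 1, 34), (21, 81, 116, 1, 2), (21, 97, 116, 1, 71), (21, 119, 6, 1, 34),
   (21, 127, 89, 1, 8), (21, 130, 116, 1, 8), (21, 157, 6, 1, 71), (21, 160, 89, 1, 34),
   (21, 171, 89, 1, 71), (24, 5, 8, 1, 71), (24, 6, 14, 1, 2), (24, 8, 8, 1, 8), (24, 9, 14, 1, 8),
   (24, 36, 135, 1, 2), (24, 56, 8, 1, 2), (24, 68, 135, 1, 34), (24, 69, 8, 1, 34),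
   (24, 91, 101, 1, 2), (24, 97, 135, 1, 71), (24, 111, 135, 1, 8), (24, 124, 14, 1, 34),
   (24, 130, 101, 1, 8), (24, 136, 101, 1, 34), (24, 161, 14, 1, 71), (24, 177, 101, 1, 71),
   (26, 2, 2, 1, 2), (26, 9, 2, 1, 8), (26, 12, 2, 1, 71), (26, 18, 104, 1, 2), (26, 19, 4, 1, 8),
   (26, 38, 2, 1, 34), (26, 56, 4, 1, 2), (26, 91, 136, 1, 2), (26, 106, 136, 1, 34),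
   (26, 111, 104, 1, 8), (26, 119, 104, 1, 34), (26, 145, 136, 1, 71), (26, 157, 104, 1, 71),
   (26, 160, 4, 1, 34), (26, 171, 4, 1, 71), (26, 173, 136, 1, 8), (99, 2, 10, 1, 2),
   (99, 18, 77, 1, 2), (99, 19, 17, 1, 8), (99, 34, 17, 1, 34), (99, 49, 10, 1, 8),
   (99, 59, 77, 1, 8), (99, 71, 17, 1, 71), (99, 96, 53, 1, 2), (99, 119, 53, 1, 34),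
   (99, 128, 77, 1, 34), (99, 147, 17, 1, 2), (99, 157, 53, 1, 71), (99, 160, 10, 1, 34),
   (99, 163, 77, 1, 71), (99, 171, 10, 1, 71), (99, 173, 53, 1, 8), (101, 5, 20, 1, 71),
   (101, 7, 31, 1, 8), (101, 41, 58, 1, 34), (101, 47, 20, 1, 2), (101, 49, 20, 1, 8),
   (101, 59, 58, 1, 8), (101, 68, 78, 1, 34), (101, 69, 20, 1, 34), (101, 81, 58, 1, 2),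
   (101, 84, 58, 1, 71), (101, 96, 78, 1, 2), (101, 97, 78, 1, 71), (101, 114, 31, 1, 34),
   (101, 127, 78, 1, 8), (101, 147, 31, 1, 2), (101, 153, 31, 1, 71), (104, 7, 21, 1, 8),
   (104, 12, 21, 1, 71), (104, 38, 21, 1, 34), (104, 41, 27, 1, 34), (104, 47, 33, 1, 2),
   (104, 54, 33, 1, 8), (104, 66, 41, 1, 8), (104, 81, 41, 1, 2), (104, 84, 27, 1, 71),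
   (104, 94, 21, 1, 2), (104, 106, 41, 1, 34), (104, 114, 33, 1, 34), (104, 127, 27, 1, 8),
   (104, 144, 27, 1, 2), (104, 145, 41, 1, 71), (104, 153, 33, 1, 71), (107, 6, 7, 1, 2),
   (107, 8, 12, 1, 8), (107, 34, 7, 1, 34), (107, 36, 62, 1, 2), (107, 54, 7, 1, 8),
   (107, 66, 62, 1, 8), (107, 71, 7, 1, 71), (107, 94, 12, 1, 2), (107, 124, 12, 1, 34),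
   (107, 128, 42, 1, 34), (107, 130, 42, 1, 8), (107, 136, 62, 1, 34), (107, 144, 42, 1, 2),
   (107, 161, 12, 1, 71), (107, 163, 42, 1, 71), (107, 177, 62, 1, 71), (113, 6, 13, 1, 2),
   (113, 8, 22, 1, 8), (113, 36, 64, 1, 2), (113, 41, 22, 1, 34), (113, 49, 64, 1, 8),
   (113, 59, 13, 1, 8), (113, 84, 22, 1, 71), (113, 96, 22, 1, 2), (113, 114, 64, 1, 34),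
   (113, 119, 13, 1, 34), (113, 130, 44, 1, 8), (113, 147, 44, 1, 2), (113, 153, 64, 1, 71),
   (113, 157, 13, 1, 71), (113, 160, 44, 1, 34), (113, 171, 44, 1, 71), (115, 9, 24, 1, 8),
   (115, 12, 15, 1, 71), (115, 34, 71, 1, 34), (115, 38, 15, 1, 34), (115, 49, 71, 1, 8),
   (115, 56, 15, 1, 2), (115, 59, 15, 1, 8), (115, 71, 71, 1, 71), (115, 91, 71, 1, 2),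
   (115, 96, 24, 1, 2), (115, 106, 65, 1, 34), (115, 111, 65, 1, 8), (115, 128, 24, 1, 34),
   (115, 145, 65, 1, 71), (115, 147, 65, 1, 2), (115, 163, 24, 1, 71), (120, 5, 16, 1, 71),
   (120, 9, 16, 1, 8), (120, 34, 34, 1, 34), (120, 54, 50, 1, 8), (120, 56, 26, 1, 2),
   (120, 66, 26, 1, 8), (120, 68, 50, 1, 34), (120, 69, 16, 1, 34), (120, 71, 34, 1, 71),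
   (120, 91, 50, 1, 2), (120, 94, 34, 1, 2), (120, 97, 50, 1, 71), (120, 111, 34, 1, 8),
   (120, 128, 26, 1, 34), (120, 144, 16, 1, 2), (120, 163, 26, 1, 71), (123, 2, 5, 1, 2),
   (123, 18, 75, 1, 2), (123, 19, 9, 1, 8), (123, 41, 5, 1, 34), (123, 54, 75, 1, 8),
   (123, 66, 5, 1, 8), (123, 84, 5, 1, 71), (123, 94, 51, 1, 2), (123, 114, 51, 1, 34),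
   (123, 124, 75, 1, 34), (123, 136, 9, 1, 34), (123, 144, 9, 1, 2), (123, 153, 51, 1, 71),
   (123, 161, 75, 1, 71), (123, 173, 51, 1, 8), (123, 177, 9, 1, 71), (178, 7, 48, 1, 8),
   (178, 9, 39, 1, 8), (178, 47, 32, 1, 2), (178, 56, 25, 1, 2), (178, 81, 39, 1, 2),
   (178, 91, 48, 1, 2), (178, 111, 32, 1, 8), (178, 119, 48, 1, 34), (178, 124, 25, 1, 34),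
   (178, 127, 25, 1, 8), (178, 136, 32, 1, 34), (178, 157, 48, 1, 71), (178, 160, 39, 1, 34),
   (178, 161, 25, 1, 71), (178, 171, 39, 1, 71), (178, 177, 32, 1, 71), (179, 5, 28, 1, 71),
   (179, 12, 35, 1, 71), (179, 38, 35, 1, 34), (179, 49, 43, 1, 8), (179, 54, 35, 1, 8),
   (179, 59, 52, 1, 8), (179, 66, 28, 1, 8), (179, 68, 52, 1, 34), (179, 69, 28, 1, 34),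
   (179, 94, 52, 1, 2), (179, 96, 35, 1, 2), (179, 97, 52, 1, 71), (179, 106, 43, 1, 34),
   (179, 144, 43, 1, 2), (179, 145, 43, 1, 71), (179, 147, 28, 1, 2)]
  reps := [(1, 2), (1, 8), (1, 34), (1, 71)]
  good := (1, 8)
  cs := (3, 104)
  sg := (11, 101)
  fixed := [(14, 11, 101)]
  xrels := []
  allowed := []
  cen := [0, 30, 166]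

end CfsgLib.SuzR3
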