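import Cfsg.Agent.Lib.SuzRank3.DataA
import Cfsg.Agent.Lib.SuzRank3.DataB
import Cfsg.Agent.Lib.SuzRank3.DataEdge

/-!
# Kernel checks for the orbits of the stabiliser of an edge
-/

set_option autoImplicit false
set_option maxRecDepth 100000
set_option maxHeartbeats 0

namespace CfsgLib.SuzR3

open CfsgLib.PresCert CfsgLib.Suz

/-- The generators keep the edge. -/
def edgeGensOk : Bool :=
  edgeGens.all fun w => ltSix w && Nat.beq (tab.walk 1 w) 1

/-- The labels inside and their numbers. -/
def edgeLabOk : Bool :=
  (List.range 1782).all (fun q => !(Nat.beq (Suz.forest.lab q) 2) ||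
    Nat.blt 0 (edgeForest.lab q) && Nat.blt (edgeForest.lab q) 5) &&
  decide ((List.range 4).map (fun k =>
    ((List.range 1782).filter fun q => Nat.beq (edgeForest.lab q) (k + 1)).length) =
      [1, 20, 320, 1024])

/-- The translating elements are products of the generators. -/
def edgeTwsOk : Bool :=
  decide (edgeTwi.length = 1024) &&
    (List.range 1024).all (fun i =>
      decide (expand edgeGens (edgeTwi.getD i []) = caseA.tws.getD i [])) &&
    same (expand edgeGens (edgeWi.getD 0 [])) caseA.w1 &&
    same (expand edgeGens (edgeWi.getD 1 [])) caseA.w2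

/-- The word carrying the first point to the root of the twenty neighbours. -/
def nearWord : List ℕ := [1, 2, 5, 1]

/-- A line lies in two such sets of neighbours only through its own points. -/
def lineOk : Bool :=
  ltSix nearWord && Nat.beq (tab.walk 1 nearWord) 16 && Nat.beq (Suz.forest.lab 1) 2 &&
    Nat.beq (edgeForest.lab 16) 2 &&
    decide (edgeForest.roots.getD 2 0 = 16) && decide (edgeForest.roots.getD 1 0 = 1) &&
    (List.range 1782).all (fun q => !(Nat.beq (edgeForest.lab q) 2 &&
      Nat.beq (edgeForest.lab (tab.walk q nearWord.reverse)) 2) ||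
        caseB.pts.any fun x => Nat.beq x q) &&
    decide (caseA.pts = [1]) && decide (caseB.pts = [1, 16, 30, 68, 260])

theorem edgeGens_ok : edgeGensOk = true := by decide +kernel

theorem edgeForest_blocks : twoBlocks (forestBlock tab edgeForest) = true := by decide +kernel

theorem edgeForest_shape : forestShape tab edgeForest = true := by decide +kernel

theorem edgeLab_ok : edgeLabOk = true := by decide +kernel

theorem edgeTws_ok : edgeTwsOk = true := by decide +kernel

theorem line_ok : lineOk = true := by decide +kernel

end CfsgLib.SuzR3
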