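import Mathlib

/-!
# Elements of the edge stabiliser with their images under the flag (generated)
-/

set_option autoImplicit false

namespace CfsgLib.SuzR3

/-- A word, the word of its image and an expression in the generators of the edge stabiliser. -/
def conjFacts : List (List ℕ × List ℕ × List ℕ) := [
  ([0], [0], [0, 2, 0, 2, 0, 2, 0, 2]),
  ([2], [2], [2]),
  ([3], [3], [0]),
  ([4], [4], [0, 3, 3, 0, 1, 1, 0]),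
  ([5], [0, 5], [2, 3, 2, 1, 2, 3, 2, 1]),
  ([4, 1, 2, 3, 2, 5, 1, 0, 2, 3, 1, 2, 0, 1, 2, 3, 5, 2], [4, 2, 5, 3, 2, 1, 0, 2, 1, 3, 2, 0, 1, 5, 2, 3, 2, 1], [1]),
  ([1, 0, 1, 5, 0, 1, 0], [0, 1, 0, 5, 1, 0, 1], [1, 1, 1, 1, 1]),
  ([1, 0, 1, 5, 0, 1, 0, 3], [0, 1, 0, 5, 1, 0, 1, 3], [0, 1, 1, 1, 1, 1]),
  ([1, 0, 1, 5, 0, 1, 0, 4], [0, 1, 0, 5, 1, 0, 1, 4], [0, 1, 1, 0, 3, 0, 1, 0])]

end CfsgLib.SuzR3
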