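import Cfsg.Agent.Lib.PresCert.Check

/-!
# Certificates for the triangle relations (generated)
-/

set_option autoImplicit false
set_option maxRecDepth 100000

namespace CfsgLib.SuzR3

open CfsgLib.PresCert

/-- Words. -/
def triGoalWords0 : List (List ℕ × ℕ × List ℕ) :=
  [([], 0, [6, 0, 6]),
   ([], 2, [6, 2, 6]),
   ([], 3, [6, 3, 6]),
   ([], 4, [6, 4, 6]),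
   ([], 5, [6, 5, 6, 5, 6, 5, 6]),
   ([], 7, [0, 6, 5, 6, 5]),
   ([], 6, [1, 6, 1, 6, 1]),
   ([], 0, [1, 2, 3, 5, 2, 6, 1, 2, 3, 2, 5, 1, 0, 2, 3, 1, 2, 0, 1, 2, 3, 5, 2, 4, 6, 4, 1, 2, 3, 2, 5, 1, 0, 2, 3, 1, 2]),
   ([], 5, [0, 1, 0, 6, 1, 0, 1, 5, 0, 1, 0, 6, 1, 0, 1]),
   ([], 1, [0, 1, 0, 1, 0, 1, 0, 1, 0]),
   ([], 1, [2, 1, 2, 1, 2]),
   ([], 3, [1, 3, 1]),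
   ([], 4, [1, 4, 1]),
   ([], 1, [5, 1, 5, 1, 5]),
   ([], 2, [5, 0, 1, 2, 5, 0, 1, 2, 5, 0, 1, 2, 5, 0, 1, 2, 5, 0, 1]),
   ([], 1, [2, 3, 2, 3, 1, 2, 3, 2, 3, 4, 1, 2, 3, 2, 3, 1, 2, 3, 2, 3, 1, 2, 3, 2, 3, 1, 2, 3, 2, 3, 1, 2, 3, 2, 3, 4, 1, 2, 3, 2, 3, 1, 2, 3, 2, 3, 1, 2, 3, 2, 3, 1, 2, 3, 2, 3, 1, 2, 3, 2, 3, 4, 1, 2, 3, 2, 3, 1, 2, 3, 2, 3, 1, 2, 3, 2, 3])]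

/-- Words. -/
def triGoalWords1 : List (List ℕ × ℕ × List ℕ) :=
  [([], 0, [2, 0, 2]),
   ([], 3, [0, 3, 0]),
   ([], 4, [0, 4, 0]),
   ([], 7, [0, 5, 0, 5]),
   ([], 6, [0, 6, 0]),
   ([], 3, [2, 3, 2, 3, 2, 3, 2, 3, 2, 3, 2, 3, 2, 3, 2]),
   ([], 4, [2, 4, 2]),
   ([], 2, [5, 2, 5]),
   ([], 6, [2, 6, 2]),
   ([], 3, [5, 3, 5]),
   ([], 4, [5, 4, 5]),
   ([], 6, [5, 6, 5, 6, 5, 6, 5]),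
   ([], 7, [2, 3, 0, 2, 3, 2, 3, 2, 3]),
   ([], 7, [5, 6, 0, 5, 6]),
   ([], 1, [2, 5, 0, 1, 2, 5, 0, 1, 2, 5, 0, 1, 2, 5, 0, 1, 2, 5, 0]),
   ([], 3, [1, 2, 3, 2, 3, 1, 2, 3, 2, 3, 1, 2, 3, 2, 3, 1, 2, 3, 2, 3, 4, 1, 2, 3, 2, 3, 1, 2, 3, 2, 3, 1, 2, 3, 2, 3, 1, 2, 3, 2, 3, 1, 2, 3, 2, 3, 4, 1, 2, 3, 2, 3, 1, 2, 3, 2, 3, 1, 2, 3, 2, 3, 1, 2, 3, 2, 3, 1, 2, 3, 2, 3, 4, 1, 2, 3, 2])]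

/-- Words. -/
def triGoalWords2 : List (List ℕ × ℕ × List ℕ) :=
  [([], 3, [5, 2, 4, 6, 4, 1, 2, 3, 2, 5, 1, 0, 2, 3, 1, 2, 0, 1, 2, 3, 5, 2, 6, 1, 2, 3, 2, 5, 1, 0, 2, 3, 1, 2, 0, 1, 2]),
   ([], 0, [1, 0, 1, 0, 1, 0, 1, 0, 1]),
   ([], 0, [3, 0, 3]),
   ([], 5, [0, 5, 0]),
   ([], 1, [3, 1, 3]),
   ([], 5, [1, 5, 1, 5, 1]),
   ([], 3, [4, 3, 4, 3, 4]),
   ([], 5, [3, 5, 3]),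
   ([], 6, [3, 6, 3]),
   ([], 5, [0, 1, 2, 5, 0, 1, 2, 5, 0, 1, 2, 5, 0, 1, 2, 5, 0, 1, 2]),
   ([], 3, [1, 2, 3, 2, 3, 4, 1, 2, 3, 2, 3, 1, 2, 3, 2, 3, 1, 2, 3, 2, 3, 1, 2, 3, 2, 3, 1, 2, 3, 2, 3, 4, 1, 2, 3, 2, 3, 1, 2, 3, 2, 3, 1, 2, 3, 2, 3, 1, 2, 3, 2, 3, 1, 2, 3, 2, 3, 4, 1, 2, 3, 2, 3, 1, 2, 3, 2, 3, 1, 2, 3, 2, 3, 1, 2, 3, 2]),
   ([], 1, [2, 0, 1, 2, 3, 5, 2, 4, 6, 4, 1, 2, 3, 2, 5, 1, 0, 2, 3, 1, 2, 0, 1, 2, 3, 5, 2, 6, 1, 2, 3, 2, 5, 1, 0, 2, 3]),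
   ([], 1, [5, 0, 1, 0, 6, 1, 0, 1, 5, 0, 1, 0, 6, 1, 0]),
   ([], 3, [1, 0, 1, 5, 0, 1, 0, 6, 1, 0, 1, 5, 0, 1, 0, 3, 6]),
   ([], 4, [1, 0, 1, 5, 0, 1, 0, 6, 1, 0, 1, 5, 0, 1, 0, 4, 6]),
   ([], 0, [4, 0, 4])]

/-- Words. -/
def triGoalWords3 : List (List ℕ × ℕ × List ℕ) :=
  [([], 0, [5, 0, 5]),
   ([], 2, [1, 2, 1, 2, 1]),
   ([], 1, [4, 1, 4]),
   ([], 2, [4, 2, 4]),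
   ([], 7, [5, 2, 5, 2]),
   ([], 6, [4, 6, 4]),
   ([], 3, [2, 3, 4, 1, 2, 3, 2, 3, 1, 2, 3, 2, 3, 1, 2, 3, 2, 3, 1, 2, 3, 2, 3, 1, 2, 3, 2, 3, 4, 1, 2, 3, 2, 3, 1, 2, 3, 2, 3, 1, 2, 3, 2, 3, 1, 2, 3, 2, 3, 1, 2, 3, 2, 3, 4, 1, 2, 3, 2, 3, 1, 2, 3, 2, 3, 1, 2, 3, 2, 3, 1, 2, 3, 2, 3, 1, 2]),
   ([], 5, [2, 4, 6, 4, 1, 2, 3, 2, 5, 1, 0, 2, 3, 1, 2, 0, 1, 2, 3, 5, 2, 6, 1, 2, 3, 2, 5, 1, 0, 2, 3, 1, 2, 0, 1, 2, 3]),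
   ([], 7, [1, 3, 1, 3]),
   ([], 4, [3, 4, 3, 4, 3]),
   ([], 0, [1, 2, 5, 0, 1, 2, 5, 0, 1, 2, 5, 0, 1, 2, 5, 0, 1, 2, 5]),
   ([], 1, [6, 1, 6, 1, 6]),
   ([], 2, [0, 2, 0]),
   ([], 0, [1, 2, 3, 5, 2, 4, 6, 4, 1, 2, 3, 2, 5, 1, 0, 2, 3, 1, 2, 0, 1, 2, 3, 5, 2, 6, 1, 2, 3, 2, 5, 1, 0, 2, 3, 1, 2]),
   ([], 5, [1, 0, 1, 6, 0, 1, 0, 5, 1, 0, 1, 6, 0, 1, 0]),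
   ([], 7, [3, 0, 2, 3, 2, 3, 2, 3, 2])]

/-- Words. -/
def triGoalWords4 : List (List ℕ × ℕ × List ℕ) :=
  [([], 7, [6, 0, 5, 6, 5]),
   ([], 2, [3, 4, 1, 2, 3, 2, 3, 1, 2, 3, 2, 3, 1, 2, 3, 2, 3, 1, 2, 3, 2, 3, 1, 2, 3, 2, 3, 4, 1, 2, 3, 2, 3, 1, 2, 3, 2, 3, 1, 2, 3, 2, 3, 1, 2, 3, 2, 3, 1, 2, 3, 2, 3, 4, 1, 2, 3, 2, 3, 1, 2, 3, 2, 3, 1, 2, 3, 2, 3, 1, 2, 3, 2, 3, 1, 2, 3]),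
   ([], 0, [5, 1, 0, 1, 6, 0, 1, 0, 5, 1, 0, 1, 6, 0, 1]),
   ([], 5, [2, 5, 2]),
   ([], 6, [1, 0, 1, 5, 0, 1, 0, 6, 1, 0, 1, 5, 0, 1, 0]),
   ([], 7, [0, 3, 0, 3]),
   ([], 0, [1, 0, 5, 1, 0, 1, 6, 0, 1, 0, 5, 1, 0, 1, 6]),
   ([], 7, [5, 0, 5, 0]),
   ([], 7, [1, 2, 1, 2, 1, 2]),
   ([], 7, [1, 4, 1, 4]),
   ([], 1, [2, 3, 2, 3, 4, 1, 2, 3, 2, 3, 1, 2, 3, 2, 3, 1, 2, 3, 2, 3, 1, 2, 3, 2, 3, 1, 2, 3, 2, 3, 4, 1, 2, 3, 2, 3, 1, 2, 3, 2, 3, 1, 2, 3, 2, 3, 1, 2, 3, 2, 3, 1, 2, 3, 2, 3, 4, 1, 2, 3, 2, 3, 1, 2, 3, 2, 3, 1, 2, 3, 2, 3, 1, 2, 3, 2, 3]),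
   ([], 7, [2, 5, 2, 5]),
   ([], 7, [5, 3, 5, 3]),
   ([], 4, [1, 2, 3, 2, 3, 1, 2, 3, 2, 3, 1, 2, 3, 2, 3, 1, 2, 3, 2, 3, 1, 2, 3, 2, 3, 4, 1, 2, 3, 2, 3, 1, 2, 3, 2, 3, 1, 2, 3, 2, 3, 1, 2, 3, 2, 3, 1, 2, 3, 2, 3, 4, 1, 2, 3, 2, 3, 1, 2, 3, 2, 3, 1, 2, 3, 2, 3, 1, 2, 3, 2, 3, 1, 2, 3, 2, 3]),
   ([], 3, [1, 2, 0, 1, 2, 3, 5, 2, 4, 6, 4, 1, 2, 3, 2, 5, 1, 0, 2, 3, 1, 2, 0, 1, 2, 3, 5, 2, 6, 1, 2, 3, 2, 5, 1, 0, 2]),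
   ([], 3, [1, 2, 3, 2, 3, 1, 2, 3, 2, 3, 1, 2, 3, 2, 3, 4, 1, 2, 3, 2, 3, 1, 2, 3, 2, 3, 1, 2, 3, 2, 3, 1, 2, 3, 2, 3, 1, 2, 3, 2, 3, 4, 1, 2, 3, 2, 3, 1, 2, 3, 2, 3, 1, 2, 3, 2, 3, 1, 2, 3, 2, 3, 1, 2, 3, 2, 3, 4, 1, 2, 3, 2, 3, 1, 2, 3, 2])]

/-- Words. -/
def triGoalWords5 : List (List ℕ × ℕ × List ℕ) :=
  [([], 0, [2, 3, 1, 2, 0, 1, 2, 3, 5, 2, 4, 6, 4, 1, 2, 3, 2, 5, 1, 0, 2, 3, 1, 2, 0, 1, 2, 3, 5, 2, 6, 1, 2, 3, 2, 5, 1]),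
   ([], 2, [3, 1, 2, 3, 2, 3, 1, 2, 3, 2, 3, 4, 1, 2, 3, 2, 3, 1, 2, 3, 2, 3, 1, 2, 3, 2, 3, 1, 2, 3, 2, 3, 1, 2, 3, 2, 3, 4, 1, 2, 3, 2, 3, 1, 2, 3, 2, 3, 1, 2, 3, 2, 3, 1, 2, 3, 2, 3, 1, 2, 3, 2, 3, 4, 1, 2, 3, 2, 3, 1, 2, 3, 2, 3, 1, 2, 3]),
   ([], 7, [1, 0, 1, 0, 1, 0, 1, 0, 1, 0]),
   ([], 7, [3, 1, 3, 1]),
   ([], 7, [4, 3, 4, 3, 4, 3]),
   ([], 3, [5, 2, 6, 1, 2, 3, 2, 5, 1, 0, 2, 3, 1, 2, 0, 1, 2, 3, 5, 2, 4, 6, 4, 1, 2, 3, 2, 5, 1, 0, 2, 3, 1, 2, 0, 1, 2]),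
   ([], 7, [0, 1, 0, 5, 1, 0, 1, 6, 0, 1, 0, 5, 1, 0, 1, 6]),
   ([], 5, [1, 0, 2, 3, 1, 2, 0, 1, 2, 3, 5, 2, 4, 6, 4, 1, 2, 3, 2, 5, 1, 0, 2, 3, 1, 2, 0, 1, 2, 3, 5, 2, 6, 1, 2, 3, 2]),
   ([], 7, [3, 1, 0, 1, 5, 0, 1, 0, 6, 1, 0, 1, 5, 0, 1, 0, 3, 6]),
   ([], 7, [5, 0, 1, 0, 6, 1, 0, 1, 5, 0, 1, 0, 6, 1, 0, 1]),
   ([], 7, [0, 4, 0, 4]),
   ([], 7, [3, 4, 3, 4, 3, 4]),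
   ([], 7, [2, 3, 2, 3, 2, 3, 0, 2, 3]),
   ([], 7, [2, 1, 2, 1, 2, 1]),
   ([], 2, [0, 1, 2, 3, 5, 2, 4, 6, 4, 1, 2, 3, 2, 5, 1, 0, 2, 3, 1, 2, 0, 1, 2, 3, 5, 2, 6, 1, 2, 3, 2, 5, 1, 0, 2, 3, 1]),
   ([], 1, [2, 3, 2, 5, 1, 0, 2, 3, 1, 2, 0, 1, 2, 3, 5, 2, 4, 6, 4, 1, 2, 3, 2, 5, 1, 0, 2, 3, 1, 2, 0, 1, 2, 3, 5, 2, 6])]

/-- Words. -/
def triGoalWords6 : List (List ℕ × ℕ × List ℕ) :=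
  [([], 7, [5, 1, 5, 1, 5, 1]),
   ([], 7, [4, 2, 4, 2]),
   ([], 5, [4, 5, 4]),
   ([], 2, [3, 2, 3, 4, 1, 2, 3, 2, 3, 1, 2, 3, 2, 3, 1, 2, 3, 2, 3, 1, 2, 3, 2, 3, 1, 2, 3, 2, 3, 4, 1, 2, 3, 2, 3, 1, 2, 3, 2, 3, 1, 2, 3, 2, 3, 1, 2, 3, 2, 3, 1, 2, 3, 2, 3, 4, 1, 2, 3, 2, 3, 1, 2, 3, 2, 3, 1, 2, 3, 2, 3, 1, 2, 3, 2, 3, 1]),
   ([], 7, [0, 2, 0, 2]),
   ([], 2, [3, 2, 3, 2, 3, 2, 3, 2, 3, 2, 3, 2, 3, 2, 3]),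
   ([], 7, [2, 4, 2, 4]),
   ([], 7, [3, 2, 3, 0, 2, 3, 2, 3, 2]),
   ([], 7, [3, 0, 3, 0]),
   ([], 1, [0, 1, 6, 0, 1, 0, 5, 1, 0, 1, 6, 0, 1, 0, 5]),
   ([], 7, [1, 6, 1, 6, 1, 6]),
   ([], 1, [0, 1, 5, 0, 1, 0, 6, 1, 0, 1, 5, 0, 1, 0, 6]),
   ([], 6, [0, 1, 0, 5, 1, 0, 1, 6, 0, 1, 0, 5, 1, 0, 1]),
   ([], 7, [6, 0, 6, 0]),
   ([], 7, [4, 5, 4, 5]),
   ([], 2, [3, 5, 2, 4, 6, 4, 1, 2, 3, 2, 5, 1, 0, 2, 3, 1, 2, 0, 1, 2, 3, 5, 2, 6, 1, 2, 3, 2, 5, 1, 0, 2, 3, 1, 2, 0, 1])]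

/-- Words. -/
def triGoalWords7 : List (List ℕ × ℕ × List ℕ) :=
  [([], 7, [0, 3, 2, 3, 2, 3, 2, 3, 2]),
   ([], 6, [1, 2, 3, 2, 5, 1, 0, 2, 3, 1, 2, 0, 1, 2, 3, 5, 2, 4, 6, 4, 1, 2, 3, 2, 5, 1, 0, 2, 3, 1, 2, 0, 1, 2, 3, 5, 2]),
   ([], 0, [1, 5, 0, 1, 0, 6, 1, 0, 1, 5, 0, 1, 0, 6, 1]),
   ([], 6, [4, 1, 0, 1, 5, 0, 1, 0, 6, 1, 0, 1, 5, 0, 1, 0, 4]),
   ([], 7, [3, 2, 0, 3, 2, 3, 2, 3, 2]),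
   ([], 3, [1, 2, 3, 2, 3, 1, 2, 3, 2, 3, 4, 1, 2, 3, 2, 3, 1, 2, 3, 2, 3, 1, 2, 3, 2, 3, 1, 2, 3, 2, 3, 1, 2, 3, 2, 3, 4, 1, 2, 3, 2, 3, 1, 2, 3, 2, 3, 1, 2, 3, 2, 3, 1, 2, 3, 2, 3, 1, 2, 3, 2, 3, 4, 1, 2, 3, 2, 3, 1, 2, 3, 2, 3, 1, 2, 3, 2]),
   ([], 1, [2, 3, 5, 2, 4, 6, 4, 1, 2, 3, 2, 5, 1, 0, 2, 3, 1, 2, 0, 1, 2, 3, 5, 2, 6, 1, 2, 3, 2, 5, 1, 0, 2, 3, 1, 2, 0]),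
   ([], 7, [4, 1, 4, 1]),
   ([], 7, [1, 5, 1, 5, 1, 5]),
   ([], 6, [3, 1, 0, 1, 5, 0, 1, 0, 6, 1, 0, 1, 5, 0, 1, 0, 3]),
   ([], 7, [4, 0, 4, 0]),
   ([], 7, [0, 1, 0, 1, 0, 1, 0, 1, 0, 1]),
   ([], 7, [0, 1, 0, 6, 1, 0, 1, 5, 0, 1, 0, 6, 1, 0, 1, 5]),
   ([], 7, [5, 4, 5, 4]),
   ([], 7, [6, 1, 6, 1, 6, 1]),
   ([], 2, [3, 2, 5, 1, 0, 2, 3, 1, 2, 0, 1, 2, 3, 5, 2, 4, 6, 4, 1, 2, 3, 2, 5, 1, 0, 2, 3, 1, 2, 0, 1, 2, 3, 5, 2, 6, 1])]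

/-- Words. -/
def triGoalWords8 : List (List ℕ × ℕ × List ℕ) :=
  [([], 7, [0, 6, 0, 6]),
   ([], 0, [6, 1, 0, 1, 5, 0, 1, 0, 6, 1, 0, 1, 5, 0, 1]),
   ([], 0, [1, 6, 0, 1, 0, 5, 1, 0, 1, 6, 0, 1, 0, 5, 1]),
   ([], 3, [6, 3, 1, 0, 1, 5, 0, 1, 0, 6, 1, 0, 1, 5, 0, 1, 0]),
   ([], 7, [6, 0, 1, 0, 5, 1, 0, 1, 6, 0, 1, 0, 5, 1, 0, 1]),
   ([], 2, [5, 1, 0, 2, 3, 1, 2, 0, 1, 2, 3, 5, 2, 4, 6, 4, 1, 2, 3, 2, 5, 1, 0, 2, 3, 1, 2, 0, 1, 2, 3, 5, 2, 6, 1, 2, 3]),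
   ([], 7, [2, 0, 2, 0]),
   ([], 7, [2, 6, 2, 6]),
   ([], 1, [0, 5, 1, 0, 1, 6, 0, 1, 0, 5, 1, 0, 1, 6, 0]),
   ([], 7, [6, 2, 6, 2]),
   ([], 7, [6, 5, 0, 6, 5]),
   ([], 7, [5, 2, 6, 1, 2, 3, 2, 5, 1, 0, 2, 3, 1, 2, 0, 1, 2, 3, 5, 2, 4, 6, 4, 1, 2, 3, 2, 5, 1, 0, 2, 3, 1, 2, 0, 1, 2, 3]),
   ([], 2, [3, 1, 2, 0, 1, 2, 3, 5, 2, 4, 6, 4, 1, 2, 3, 2, 5, 1, 0, 2, 3, 1, 2, 0, 1, 2, 3, 5, 2, 6, 1, 2, 3, 2, 5, 1, 0]),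
   ([], 7, [3, 2, 3, 2, 0, 3, 2, 3, 2]),
   ([], 7, [0, 1, 6, 0, 1, 0, 5, 1, 0, 1, 6, 0, 1, 0, 5, 1]),
   ([], 2, [6, 1, 2, 3, 2, 5, 1, 0, 2, 3, 1, 2, 0, 1, 2, 3, 5, 2, 4, 6, 4, 1, 2, 3, 2, 5, 1, 0, 2, 3, 1, 2, 0, 1, 2, 3, 5])]

/-- Words. -/
def triGoalWords9 : List (List ℕ × ℕ × List ℕ) :=
  [([], 7, [3, 5, 3, 5]),
   ([], 7, [3, 6, 3, 6]),
   ([], 0, [1, 0, 6, 1, 0, 1, 5, 0, 1, 0, 6, 1, 0, 1, 5]),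
   ([], 7, [2, 3, 2, 3, 2, 3, 2, 0, 3]),
   ([], 7, [2, 5, 0, 1, 2, 5, 0, 1, 2, 5, 0, 1, 2, 5, 0, 1, 2, 5, 0, 1]),
   ([], 1, [2, 0, 1, 2, 3, 5, 2, 6, 1, 2, 3, 2, 5, 1, 0, 2, 3, 1, 2, 0, 1, 2, 3, 5, 2, 4, 6, 4, 1, 2, 3, 2, 5, 1, 0, 2, 3]),
   ([], 5, [2, 6, 1, 2, 3, 2, 5, 1, 0, 2, 3, 1, 2, 0, 1, 2, 3, 5, 2, 4, 6, 4, 1, 2, 3, 2, 5, 1, 0, 2, 3, 1, 2, 0, 1, 2, 3]),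
   ([], 7, [2, 0, 3, 2, 3, 2, 3, 2, 3]),
   ([], 7, [1, 0, 2, 3, 1, 2, 0, 1, 2, 3, 5, 2, 4, 6, 4, 1, 2, 3, 2, 5, 1, 0, 2, 3, 1, 2, 0, 1, 2, 3, 5, 2, 6, 1, 2, 3, 2, 5]),
   ([], 7, [6, 1, 0, 1, 5, 0, 1, 0, 6, 1, 0, 1, 5, 0, 1, 0]),
   ([], 7, [2, 3, 2, 0, 3, 2, 3, 2, 3]),
   ([], 7, [5, 0, 1, 2, 5, 0, 1, 2, 5, 0, 1, 2, 5, 0, 1, 2, 5, 0, 1, 2]),
   ([], 7, [1, 5, 0, 1, 0, 6, 1, 0, 1, 5, 0, 1, 0, 6, 1, 0]),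
   ([], 7, [0, 1, 2, 5, 0, 1, 2, 5, 0, 1, 2, 5, 0, 1, 2, 5, 0, 1, 2, 5]),
   ([], 7, [4, 6, 4, 6]),
   ([], 2, [3, 2, 3, 1, 2, 3, 2, 3, 4, 1, 2, 3, 2, 3, 1, 2, 3, 2, 3, 1, 2, 3, 2, 3, 1, 2, 3, 2, 3, 1, 2, 3, 2, 3, 4, 1, 2, 3, 2, 3, 1, 2, 3, 2, 3, 1, 2, 3, 2, 3, 1, 2, 3, 2, 3, 1, 2, 3, 2, 3, 4, 1, 2, 3, 2, 3, 1, 2, 3, 2, 3, 1, 2, 3, 2, 3, 1])]

/-- Words. -/
def triGoalWords10 : List (List ℕ × ℕ × List ℕ) :=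
  [([], 7, [6, 3, 6, 3]),
   ([], 3, [2, 3, 1, 2, 3, 2, 3, 4, 1, 2, 3, 2, 3, 1, 2, 3, 2, 3, 1, 2, 3, 2, 3, 1, 2, 3, 2, 3, 1, 2, 3, 2, 3, 4, 1, 2, 3, 2, 3, 1, 2, 3, 2, 3, 1, 2, 3, 2, 3, 1, 2, 3, 2, 3, 1, 2, 3, 2, 3, 4, 1, 2, 3, 2, 3, 1, 2, 3, 2, 3, 1, 2, 3, 2, 3, 1, 2]),
   ([], 0, [2, 3, 1, 2, 0, 1, 2, 3, 5, 2, 6, 1, 2, 3, 2, 5, 1, 0, 2, 3, 1, 2, 0, 1, 2, 3, 5, 2, 4, 6, 4, 1, 2, 3, 2, 5, 1]),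
   ([], 3, [2, 5, 1, 0, 2, 3, 1, 2, 0, 1, 2, 3, 5, 2, 4, 6, 4, 1, 2, 3, 2, 5, 1, 0, 2, 3, 1, 2, 0, 1, 2, 3, 5, 2, 6, 1, 2]),
   ([], 4, [6, 4, 1, 0, 1, 5, 0, 1, 0, 6, 1, 0, 1, 5, 0, 1, 0]),
   ([], 2, [3, 1, 2, 3, 2, 3, 4, 1, 2, 3, 2, 3, 1, 2, 3, 2, 3, 1, 2, 3, 2, 3, 1, 2, 3, 2, 3, 1, 2, 3, 2, 3, 4, 1, 2, 3, 2, 3, 1, 2, 3, 2, 3, 1, 2, 3, 2, 3, 1, 2, 3, 2, 3, 1, 2, 3, 2, 3, 4, 1, 2, 3, 2, 3, 1, 2, 3, 2, 3, 1, 2, 3, 2, 3, 1, 2, 3]),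
   ([], 7, [6, 4, 6, 4]),
   ([], 3, [1, 2, 0, 1, 2, 3, 5, 2, 6, 1, 2, 3, 2, 5, 1, 0, 2, 3, 1, 2, 0, 1, 2, 3, 5, 2, 4, 6, 4, 1, 2, 3, 2, 5, 1, 0, 2]),
   ([], 7, [1, 2, 0, 1, 2, 3, 5, 2, 4, 6, 4, 1, 2, 3, 2, 5, 1, 0, 2, 3, 1, 2, 0, 1, 2, 3, 5, 2, 6, 1, 2, 3, 2, 5, 1, 0, 2, 3]),
   ([], 7, [5, 2, 1, 0, 5, 2, 1, 0, 5, 2, 1, 0, 5, 2, 1, 0, 5, 2, 1, 0]),
   ([], 7, [1, 6, 0, 1, 0, 5, 1, 0, 1, 6, 0, 1, 0, 5, 1, 0]),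
   ([], 1, [2, 3, 5, 2, 6, 1, 2, 3, 2, 5, 1, 0, 2, 3, 1, 2, 0, 1, 2, 3, 5, 2, 4, 6, 4, 1, 2, 3, 2, 5, 1, 0, 2, 3, 1, 2, 0]),
   ([], 2, [3, 5, 2, 6, 1, 2, 3, 2, 5, 1, 0, 2, 3, 1, 2, 0, 1, 2, 3, 5, 2, 4, 6, 4, 1, 2, 3, 2, 5, 1, 0, 2, 3, 1, 2, 0, 1]),
   ([], 3, [2, 3, 1, 2, 3, 2, 3, 1, 2, 3, 2, 3, 1, 2, 3, 2, 3, 4, 1, 2, 3, 2, 3, 1, 2, 3, 2, 3, 1, 2, 3, 2, 3, 1, 2, 3, 2, 3, 1, 2, 3, 2, 3, 4, 1, 2, 3, 2, 3, 1, 2, 3, 2, 3, 1, 2, 3, 2, 3, 1, 2, 3, 2, 3, 1, 2, 3, 2, 3, 4, 1, 2, 3, 2, 3, 1, 2]),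
   ([], 7, [0, 1, 5, 0, 1, 0, 6, 1, 0, 1, 5, 0, 1, 0, 6, 1]),
   ([], 3, [2, 3, 1, 2, 3, 2, 3, 1, 2, 3, 2, 3, 4, 1, 2, 3, 2, 3, 1, 2, 3, 2, 3, 1, 2, 3, 2, 3, 1, 2, 3, 2, 3, 1, 2, 3, 2, 3, 4, 1, 2, 3, 2, 3, 1, 2, 3, 2, 3, 1, 2, 3, 2, 3, 1, 2, 3, 2, 3, 1, 2, 3, 2, 3, 4, 1, 2, 3, 2, 3, 1, 2, 3, 2, 3, 1, 2])]

/-- Words. -/
def triGoalWords11 : List (List ℕ × ℕ × List ℕ) :=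
  [([], 7, [0, 5, 1, 0, 1, 6, 0, 1, 0, 5, 1, 0, 1, 6, 0, 1]),
   ([], 2, [3, 2, 3, 1, 2, 3, 2, 3, 1, 2, 3, 2, 3, 4, 1, 2, 3, 2, 3, 1, 2, 3, 2, 3, 1, 2, 3, 2, 3, 1, 2, 3, 2, 3, 1, 2, 3, 2, 3, 4, 1, 2, 3, 2, 3, 1, 2, 3, 2, 3, 1, 2, 3, 2, 3, 1, 2, 3, 2, 3, 1, 2, 3, 2, 3, 4, 1, 2, 3, 2, 3, 1, 2, 3, 2, 3, 1]),
   ([], 7, [1, 0, 1, 5, 0, 1, 0, 6, 1, 0, 1, 5, 0, 1, 0, 3, 6, 3]),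
   ([], 2, [3, 1, 2, 3, 2, 3, 1, 2, 3, 2, 3, 1, 2, 3, 2, 3, 4, 1, 2, 3, 2, 3, 1, 2, 3, 2, 3, 1, 2, 3, 2, 3, 1, 2, 3, 2, 3, 1, 2, 3, 2, 3, 4, 1, 2, 3, 2, 3, 1, 2, 3, 2, 3, 1, 2, 3, 2, 3, 1, 2, 3, 2, 3, 1, 2, 3, 2, 3, 4, 1, 2, 3, 2, 3, 1, 2, 3]),
   ([], 1, [0, 6, 1, 0, 1, 5, 0, 1, 0, 6, 1, 0, 1, 5, 0]),
   ([], 1, [2, 3, 2, 3, 1, 2, 3, 2, 3, 1, 2, 3, 2, 3, 4, 1, 2, 3, 2, 3, 1, 2, 3, 2, 3, 1, 2, 3, 2, 3, 1, 2, 3, 2, 3, 1, 2, 3, 2, 3, 4, 1, 2, 3, 2, 3, 1, 2, 3, 2, 3, 1, 2, 3, 2, 3, 1, 2, 3, 2, 3, 1, 2, 3, 2, 3, 4, 1, 2, 3, 2, 3, 1, 2, 3, 2, 3]),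
   ([], 1, [2, 3, 2, 3, 1, 2, 3, 2, 3, 1, 2, 3, 2, 3, 1, 2, 3, 2, 3, 1, 2, 3, 2, 3, 4, 1, 2, 3, 2, 3, 1, 2, 3, 2, 3, 1, 2, 3, 2, 3, 1, 2, 3, 2, 3, 1, 2, 3, 2, 3, 4, 1, 2, 3, 2, 3, 1, 2, 3, 2, 3, 1, 2, 3, 2, 3, 1, 2, 3, 2, 3, 1, 2, 3, 2, 3, 4]),
   ([], 7, [2, 4, 6, 4, 1, 2, 3, 2, 5, 1, 0, 2, 3, 1, 2, 0, 1, 2, 3, 5, 2, 6, 1, 2, 3, 2, 5, 1, 0, 2, 3, 1, 2, 0, 1, 2, 3, 5]),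
   ([], 1, [6, 0, 1, 0, 5, 1, 0, 1, 6, 0, 1, 0, 5, 1, 0]),
   ([], 7, [1, 0, 6, 1, 0, 1, 5, 0, 1, 0, 6, 1, 0, 1, 5, 0]),
   ([], 7, [2, 3, 2, 3, 2, 3, 2, 3, 2, 3, 2, 3, 2, 3, 2, 3]),
   ([], 7, [2, 3, 2, 3, 2, 0, 3, 2, 3]),
   ([], 7, [3, 2, 3, 2, 3, 0, 2, 3, 2]),
   ([], 7, [6, 3, 1, 0, 1, 5, 0, 1, 0, 6, 1, 0, 1, 5, 0, 1, 0, 3]),
   ([], 7, [1, 0, 1, 5, 0, 1, 0, 6, 1, 0, 1, 5, 0, 1, 0, 6]),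
   ([], 7, [2, 1, 0, 5, 2, 1, 0, 5, 2, 1, 0, 5, 2, 1, 0, 5, 2, 1, 0, 5])]

/-- Words. -/
def triGoalWords12 : List (List ℕ × ℕ × List ℕ) :=
  [([], 1, [2, 3, 2, 3, 1, 2, 3, 2, 3, 1, 2, 3, 2, 3, 1, 2, 3, 2, 3, 4, 1, 2, 3, 2, 3, 1, 2, 3, 2, 3, 1, 2, 3, 2, 3, 1, 2, 3, 2, 3, 1, 2, 3, 2, 3, 4, 1, 2, 3, 2, 3, 1, 2, 3, 2, 3, 1, 2, 3, 2, 3, 1, 2, 3, 2, 3, 1, 2, 3, 2, 3, 4, 1, 2, 3, 2, 3]),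
   ([], 7, [1, 0, 1, 6, 0, 1, 0, 5, 1, 0, 1, 6, 0, 1, 0, 5]),
   ([], 7, [1, 2, 5, 0, 1, 2, 5, 0, 1, 2, 5, 0, 1, 2, 5, 0, 1, 2, 5, 0]),
   ([], 7, [5, 1, 0, 1, 6, 0, 1, 0, 5, 1, 0, 1, 6, 0, 1, 0]),
   ([], 7, [3, 2, 0, 1, 5, 2, 3, 2, 1, 4, 6, 4, 2, 5, 3, 2, 1, 0, 2, 1, 3, 2, 0, 1, 5, 2, 3, 2, 1, 6, 2, 5, 3, 2, 1, 0, 2, 1]),
   ([], 2, [3, 1, 2, 3, 2, 3, 1, 2, 3, 2, 3, 1, 2, 3, 2, 3, 1, 2, 3, 2, 3, 4, 1, 2, 3, 2, 3, 1, 2, 3, 2, 3, 1, 2, 3, 2, 3, 1, 2, 3, 2, 3, 1, 2, 3, 2, 3, 4, 1, 2, 3, 2, 3, 1, 2, 3, 2, 3, 1, 2, 3, 2, 3, 1, 2, 3, 2, 3, 1, 2, 3, 2, 3, 4, 1, 2, 3]),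
   ([], 7, [6, 5, 6, 0, 5]),
   ([], 7, [1, 6, 2, 5, 3, 2, 1, 0, 2, 1, 3, 2, 0, 1, 5, 2, 3, 2, 1, 4, 6, 4, 2, 5, 3, 2, 1, 0, 2, 1, 3, 2, 0, 1, 5, 2, 3, 2]),
   ([], 7, [1, 2, 3, 2, 3, 4, 1, 2, 3, 2, 3, 1, 2, 3, 2, 3, 1, 2, 3, 2, 3, 1, 2, 3, 2, 3, 1, 2, 3, 2, 3, 4, 1, 2, 3, 2, 3, 1, 2, 3, 2, 3, 1, 2, 3, 2, 3, 1, 2, 3, 2, 3, 1, 2, 3, 2, 3, 4, 1, 2, 3, 2, 3, 1, 2, 3, 2, 3, 1, 2, 3, 2, 3, 1, 2, 3, 2, 3]),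
   ([], 7, [5, 1, 0, 2, 3, 1, 2, 0, 1, 2, 3, 5, 2, 6, 1, 2, 3, 2, 5, 1, 0, 2, 3, 1, 2, 0, 1, 2, 3, 5, 2, 4, 6, 4, 1, 2, 3, 2]),
   ([], 3, [4, 1, 2, 3, 2, 3, 1, 2, 3, 2, 3, 1, 2, 3, 2, 3, 1, 2, 3, 2, 3, 1, 2, 3, 2, 3, 4, 1, 2, 3, 2, 3, 1, 2, 3, 2, 3, 1, 2, 3, 2, 3, 1, 2, 3, 2, 3, 1, 2, 3, 2, 3, 4, 1, 2, 3, 2, 3, 1, 2, 3, 2, 3, 1, 2, 3, 2, 3, 1, 2, 3, 2, 3, 1, 2, 3, 2]),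
   ([], 7, [0, 6, 1, 0, 1, 5, 0, 1, 0, 6, 1, 0, 1, 5, 0, 1]),
   ([], 7, [2, 3, 1, 2, 3, 2, 3, 1, 2, 3, 2, 3, 1, 2, 3, 2, 3, 4, 1, 2, 3, 2, 3, 1, 2, 3, 2, 3, 1, 2, 3, 2, 3, 1, 2, 3, 2, 3, 1, 2, 3, 2, 3, 4, 1, 2, 3, 2, 3, 1, 2, 3, 2, 3, 1, 2, 3, 2, 3, 1, 2, 3, 2, 3, 1, 2, 3, 2, 3, 4, 1, 2, 3, 2, 3, 1, 2, 3]),
   ([], 7, [3, 2, 5, 1, 0, 2, 3, 1, 2, 0, 1, 2, 3, 5, 2, 4, 6, 4, 1, 2, 3, 2, 5, 1, 0, 2, 3, 1, 2, 0, 1, 2, 3, 5, 2, 6, 1, 2]),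
   ([], 7, [3, 0, 1, 0, 5, 1, 0, 1, 6, 0, 1, 0, 5, 1, 0, 1, 3, 6]),
   ([], 7, [3, 2, 3, 2, 3, 2, 3, 2, 3, 2, 3, 2, 3, 2, 3, 2])]

/-- Words. -/
def triGoalWords13 : List (List ℕ × ℕ × List ℕ) :=
  [([], 7, [5, 6, 5, 6, 5, 6, 5, 6]),
   ([], 7, [0, 1, 2, 3, 5, 2, 6, 1, 2, 3, 2, 5, 1, 0, 2, 3, 1, 2, 0, 1, 2, 3, 5, 2, 4, 6, 4, 1, 2, 3, 2, 5, 1, 0, 2, 3, 1, 2]),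
   ([], 7, [5, 2, 4, 6, 4, 1, 2, 3, 2, 5, 1, 0, 2, 3, 1, 2, 0, 1, 2, 3, 5, 2, 6, 1, 2, 3, 2, 5, 1, 0, 2, 3, 1, 2, 0, 1, 2, 3]),
   ([], 7, [2, 5, 3, 2, 1, 0, 2, 1, 3, 2, 0, 1, 5, 2, 3, 2, 1, 4, 6, 4, 2, 5, 3, 2, 1, 0, 2, 1, 3, 2, 0, 1, 5, 2, 3, 2, 1, 6]),
   ([], 7, [2, 3, 2, 1, 6, 2, 5, 3, 2, 1, 0, 2, 1, 3, 2, 0, 1, 5, 2, 3, 2, 1, 4, 6, 4, 2, 5, 3, 2, 1, 0, 2, 1, 3, 2, 0, 1, 5]),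
   ([], 7, [2, 3, 2, 3, 1, 2, 3, 2, 3, 1, 2, 3, 2, 3, 1, 2, 3, 2, 3, 4, 1, 2, 3, 2, 3, 1, 2, 3, 2, 3, 1, 2, 3, 2, 3, 1, 2, 3, 2, 3, 1, 2, 3, 2, 3, 4, 1, 2, 3, 2, 3, 1, 2, 3, 2, 3, 1, 2, 3, 2, 3, 1, 2, 3, 2, 3, 1, 2, 3, 2, 3, 4, 1, 2, 3, 2, 3, 1]),
   ([], 7, [2, 3, 2, 1, 4, 6, 4, 2, 5, 3, 2, 1, 0, 2, 1, 3, 2, 0, 1, 5, 2, 3, 2, 1, 6, 2, 5, 3, 2, 1, 0, 2, 1, 3, 2, 0, 1, 5]),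
   ([], 7, [3, 2, 3, 2, 1, 3, 2, 3, 2, 1, 3, 2, 3, 2, 1, 3, 2, 3, 2, 1, 3, 2, 3, 2, 1, 4, 3, 2, 3, 2, 1, 3, 2, 3, 2, 1, 3, 2, 3, 2, 1, 3, 2, 3, 2, 1, 3, 2, 3, 2, 1, 4, 3, 2, 3, 2, 1, 3, 2, 3, 2, 1, 3, 2, 3, 2, 1, 3, 2, 3, 2, 1, 3, 2, 3, 2, 1, 4]),
   ([], 7, [1, 2, 3, 2, 3, 1, 2, 3, 2, 3, 1, 2, 3, 2, 3, 1, 2, 3, 2, 3, 1, 2, 3, 2, 3, 4, 1, 2, 3, 2, 3, 1, 2, 3, 2, 3, 1, 2, 3, 2, 3, 1, 2, 3, 2, 3, 1, 2, 3, 2, 3, 4, 1, 2, 3, 2, 3, 1, 2, 3, 2, 3, 1, 2, 3, 2, 3, 1, 2, 3, 2, 3, 1, 2, 3, 2, 3, 4]),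
   ([], 7, [6, 3, 0, 1, 0, 5, 1, 0, 1, 6, 0, 1, 0, 5, 1, 0, 1, 3]),
   ([], 7, [6, 1, 2, 3, 2, 5, 1, 0, 2, 3, 1, 2, 0, 1, 2, 3, 5, 2, 4, 6, 4, 1, 2, 3, 2, 5, 1, 0, 2, 3, 1, 2, 0, 1, 2, 3, 5, 2]),
   ([], 7, [3, 2, 3, 1, 2, 3, 2, 3, 1, 2, 3, 2, 3, 1, 2, 3, 2, 3, 4, 1, 2, 3, 2, 3, 1, 2, 3, 2, 3, 1, 2, 3, 2, 3, 1, 2, 3, 2, 3, 1, 2, 3, 2, 3, 4, 1, 2, 3, 2, 3, 1, 2, 3, 2, 3, 1, 2, 3, 2, 3, 1, 2, 3, 2, 3, 1, 2, 3, 2, 3, 4, 1, 2, 3, 2, 3, 1, 2]),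
   ([], 7, [3, 2, 0, 1, 5, 2, 3, 2, 1, 6, 2, 5, 3, 2, 1, 0, 2, 1, 3, 2, 0, 1, 5, 2, 3, 2, 1, 4, 6, 4, 2, 5, 3, 2, 1, 0, 2, 1]),
   ([], 7, [0, 1, 2, 3, 5, 2, 4, 6, 4, 1, 2, 3, 2, 5, 1, 0, 2, 3, 1, 2, 0, 1, 2, 3, 5, 2, 6, 1, 2, 3, 2, 5, 1, 0, 2, 3, 1, 2]),
   ([], 5, [1, 0, 2, 3, 1, 2, 0, 1, 2, 3, 5, 2, 6, 1, 2, 3, 2, 5, 1, 0, 2, 3, 1, 2, 0, 1, 2, 3, 5, 2, 4, 6, 4, 1, 2, 3, 2]),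
   ([], 0, [])]

/-- Words. -/
def triGoalWords14 : List (List ℕ × ℕ × List ℕ) :=
  [([], 1, []),
   ([], 2, []),
   ([], 3, []),
   ([], 4, []),
   ([], 5, [])]

/-- The relators. -/
def triGoalRels : List (List ℕ) :=
  [[0, 0],
   [0, 1, 0, 1, 0, 1, 0, 1, 0, 1],
   [0, 2, 0, 2],
   [0, 3, 0, 3],
   [0, 4, 0, 4],
   [0, 5, 0, 5],
   [0, 6, 0, 6],
   [1, 1],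
   [1, 2, 1, 2, 1, 2],
   [1, 3, 1, 3],
   [1, 4, 1, 4],
   [1, 5, 1, 5, 1, 5],
   [2, 2],
   [2, 3, 2, 3, 2, 3, 2, 3, 2, 3, 2, 3, 2, 3, 2, 3],
   [2, 4, 2, 4],
   [2, 5, 2, 5],
   [2, 6, 2, 6],
   [3, 3],
   [3, 4, 3, 4, 3, 4],
   [3, 5, 3, 5],
   [3, 6, 3, 6],
   [4, 4],
   [4, 5, 4, 5],
   [4, 6, 4, 6],
   [5, 5],
   [5, 6, 5, 6, 5, 6, 5, 6],
   [6, 6],
   [0, 3, 2, 3, 2, 3, 2, 3, 2],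
   [0, 6, 5, 6, 5],
   [0, 1, 2, 5, 0, 1, 2, 5, 0, 1, 2, 5, 0, 1, 2, 5, 0, 1, 2, 5],
   [1, 2, 3, 2, 3, 1, 2, 3, 2, 3, 1, 2, 3, 2, 3, 1, 2, 3, 2, 3, 1, 2, 3, 2, 3, 4, 1, 2, 3, 2, 3, 1, 2, 3, 2, 3, 1, 2, 3, 2, 3, 1, 2, 3, 2, 3, 1, 2, 3, 2, 3, 4, 1, 2, 3, 2, 3, 1, 2, 3, 2, 3, 1, 2, 3, 2, 3, 1, 2, 3, 2, 3, 1, 2, 3, 2, 3, 4],
   [1, 6, 1, 6, 1, 6],
   [6, 4, 1, 2, 3, 2, 5, 1, 0, 2, 3, 1, 2, 0, 1, 2, 3, 5, 2, 6, 1, 2, 3, 2, 5, 1, 0, 2, 3, 1, 2, 0, 1, 2, 3, 5, 2, 4],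
   [6, 1, 0, 1, 5, 0, 1, 0, 6, 1, 0, 1, 5, 0, 1, 0],
   [6, 0, 1, 0, 5, 1, 0, 1, 6, 0, 1, 0, 5, 1, 0, 1],
   [6, 1, 0, 1, 5, 0, 1, 0, 3, 6, 3, 1, 0, 1, 5, 0, 1, 0],
   [6, 1, 0, 1, 5, 0, 1, 0, 4, 6, 4, 1, 0, 1, 5, 0, 1, 0]]

/-- The certificate. -/
def triGoal : Data where
  ng := 7
  n := 1
  N := 128
  vm := 19
  rm := 51
  cw := 21
  R := 64
  cells := [[0x3c600000000000000000000000000000000000000000000000000000007d400000000000000000000000000000000010380000000000000000000001ed2c00178000000000000086400c080051a034530019900ab9e0000000000000000000000000010842000abc00d120000000000000000000000000000000001be8005a80433f0183280762c004a200ab100000000d161cbfb0d32386024c2b5be1352b087bb,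
     0x580a0140240000000000000000009e8000f400000060a0c0099e00000000000000000027e08d67000000000000000000000000000005dc0000000000000000000000000000000000000000000031200000000000000000000000000000cd8000000000000000000000000000000000000000000006b400000000000000000000000000000000000000000000000001bf00000000000000000000000000000000003a200000,
     0x1165000104800000000000000000000000000000000b7df000000008ca000000000000000000000000000000000017829b1c00000000000000001656a004a9,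
     0x0, 0x0, 0x0, 0x0, 0x0, 0x0, 0x0, 0x0, 0x0, 0x0, 0x0, 0x0, 0x0]]
  pw := 7
  pars := [[0x1d90e9c776ad090fdcb65898f082830300]]
  iw := 5
  live := [[0]]
  idx := [[0]]
  nrel := 223
  words := [triGoalWords0, triGoalWords1, triGoalWords2, triGoalWords3, triGoalWords4, triGoalWords5,
    triGoalWords6, triGoalWords7, triGoalWords8, triGoalWords9, triGoalWords10, triGoalWords11,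
    triGoalWords12, triGoalWords13, triGoalWords14]

/-- Words. -/
def triBad1Words0 : List (List ℕ × ℕ × List ℕ) :=
  [([], 0, [6, 0, 6]),
   ([], 2, [6, 2, 6]),
   ([], 3, [6, 3, 6]),
   ([], 4, [6, 4, 6]),
   ([], 5, [6, 5, 6, 5, 6, 5, 6]),
   ([], 7, [0, 6, 5, 6, 5]),
   ([], 0, [1, 2, 3, 5, 2, 6, 1, 2, 3, 2, 5, 1, 0, 2, 3, 1, 2, 0, 1, 2, 3, 5, 2, 4, 6, 4, 1, 2, 3, 2, 5, 1, 0, 2, 3, 1, 2]),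
   ([], 6, [1, 6, 0, 1, 0, 5, 1, 0, 1, 1, 6, 1]),
   ([], 5, [0, 1, 0, 6, 1, 0, 1, 5, 0, 1, 0, 6, 1, 0, 1]),
   ([], 1, [0, 1, 0, 1, 0, 1, 0, 1, 0]),
   ([], 1, [2, 1, 2, 1, 2]),
   ([], 3, [1, 3, 1]),
   ([], 4, [1, 4, 1]),
   ([], 1, [5, 1, 5, 1, 5]),
   ([], 2, [5, 0, 1, 2, 5, 0, 1, 2, 5, 0, 1, 2, 5, 0, 1, 2, 5, 0, 1]),
   ([], 1, [2, 3, 2, 3, 1, 2, 3, 2, 3, 4, 1, 2, 3, 2, 3, 1, 2, 3, 2, 3, 1, 2, 3, 2, 3, 1, 2, 3, 2, 3, 1, 2, 3, 2, 3, 4, 1, 2, 3, 2, 3, 1, 2, 3, 2, 3, 1, 2, 3, 2, 3, 1, 2, 3, 2, 3, 1, 2, 3, 2, 3, 4, 1, 2, 3, 2, 3, 1, 2, 3, 2, 3, 1, 2, 3, 2, 3])]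

/-- Words. -/
def triBad1Words1 : List (List ℕ × ℕ × List ℕ) :=
  [([], 0, [2, 0, 2]),
   ([], 3, [0, 3, 0]),
   ([], 4, [0, 4, 0]),
   ([], 7, [0, 5, 0, 5]),
   ([], 6, [0, 6, 0]),
   ([], 3, [2, 3, 2, 3, 2, 3, 2, 3, 2, 3, 2, 3, 2, 3, 2]),
   ([], 4, [2, 4, 2]),
   ([], 2, [5, 2, 5]),
   ([], 6, [2, 6, 2]),
   ([], 3, [5, 3, 5]),
   ([], 4, [5, 4, 5]),
   ([], 6, [5, 6, 5, 6, 5, 6, 5]),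
   ([], 7, [2, 3, 0, 2, 3, 2, 3, 2, 3]),
   ([], 7, [5, 6, 0, 5, 6]),
   ([], 1, [2, 5, 0, 1, 2, 5, 0, 1, 2, 5, 0, 1, 2, 5, 0, 1, 2, 5, 0]),
   ([], 3, [1, 2, 3, 2, 3, 1, 2, 3, 2, 3, 1, 2, 3, 2, 3, 1, 2, 3, 2, 3, 4, 1, 2, 3, 2, 3, 1, 2, 3, 2, 3, 1, 2, 3, 2, 3, 1, 2, 3, 2, 3, 1, 2, 3, 2, 3, 4, 1, 2, 3, 2, 3, 1, 2, 3, 2, 3, 1, 2, 3, 2, 3, 1, 2, 3, 2, 3, 1, 2, 3, 2, 3, 4, 1, 2, 3, 2])]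

/-- Words. -/
def triBad1Words2 : List (List ℕ × ℕ × List ℕ) :=
  [([], 3, [5, 2, 4, 6, 4, 1, 2, 3, 2, 5, 1, 0, 2, 3, 1, 2, 0, 1, 2, 3, 5, 2, 6, 1, 2, 3, 2, 5, 1, 0, 2, 3, 1, 2, 0, 1, 2]),
   ([], 0, [1, 0, 1, 0, 1, 0, 1, 0, 1]),
   ([], 0, [3, 0, 3]),
   ([], 5, [0, 5, 0]),
   ([], 1, [3, 1, 3]),
   ([], 5, [1, 5, 1, 5, 1]),
   ([], 3, [4, 3, 4, 3, 4]),
   ([], 5, [3, 5, 3]),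
   ([], 6, [3, 6, 3]),
   ([], 5, [0, 1, 2, 5, 0, 1, 2, 5, 0, 1, 2, 5, 0, 1, 2, 5, 0, 1, 2]),
   ([], 3, [1, 2, 3, 2, 3, 4, 1, 2, 3, 2, 3, 1, 2, 3, 2, 3, 1, 2, 3, 2, 3, 1, 2, 3, 2, 3, 1, 2, 3, 2, 3, 4, 1, 2, 3, 2, 3, 1, 2, 3, 2, 3, 1, 2, 3, 2, 3, 1, 2, 3, 2, 3, 1, 2, 3, 2, 3, 4, 1, 2, 3, 2, 3, 1, 2, 3, 2, 3, 1, 2, 3, 2, 3, 1, 2, 3, 2]),
   ([], 1, [2, 0, 1, 2, 3, 5, 2, 4, 6, 4, 1, 2, 3, 2, 5, 1, 0, 2, 3, 1, 2, 0, 1, 2, 3, 5, 2, 6, 1, 2, 3, 2, 5, 1, 0, 2, 3]),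
   ([], 7, [1, 0, 1, 1, 6, 1, 6, 1, 6, 0, 1, 0, 5]),
   ([], 2, [1, 2, 1, 2, 1]),
   ([], 1, [4, 1, 4]),
   ([], 7, [5, 2, 5, 2])]

/-- Words. -/
def triBad1Words3 : List (List ℕ × ℕ × List ℕ) :=
  [([], 6, [4, 6, 4]),
   ([], 7, [1, 3, 1, 3]),
   ([], 7, [1, 2, 1, 2, 1, 2]),
   ([], 7, [2, 5, 2, 5]),
   ([], 0, []),
   ([], 1, []),
   ([], 2, []),
   ([], 3, []),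
   ([], 4, []),
   ([], 5, [])]

/-- The relators. -/
def triBad1Rels : List (List ℕ) :=
  [[0, 0],
   [0, 1, 0, 1, 0, 1, 0, 1, 0, 1],
   [0, 2, 0, 2],
   [0, 3, 0, 3],
   [0, 4, 0, 4],
   [0, 5, 0, 5],
   [0, 6, 0, 6],
   [1, 1],
   [1, 2, 1, 2, 1, 2],
   [1, 3, 1, 3],
   [1, 4, 1, 4],
   [1, 5, 1, 5, 1, 5],
   [2, 2],
   [2, 3, 2, 3, 2, 3, 2, 3, 2, 3, 2, 3, 2, 3, 2, 3],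
   [2, 4, 2, 4],
   [2, 5, 2, 5],
   [2, 6, 2, 6],
   [3, 3],
   [3, 4, 3, 4, 3, 4],
   [3, 5, 3, 5],
   [3, 6, 3, 6],
   [4, 4],
   [4, 5, 4, 5],
   [4, 6, 4, 6],
   [5, 5],
   [5, 6, 5, 6, 5, 6, 5, 6],
   [6, 6],
   [0, 3, 2, 3, 2, 3, 2, 3, 2],
   [0, 6, 5, 6, 5],
   [0, 1, 2, 5, 0, 1, 2, 5, 0, 1, 2, 5, 0, 1, 2, 5, 0, 1, 2, 5],
   [1, 2, 3, 2, 3, 1, 2, 3, 2, 3, 1, 2, 3, 2, 3, 1, 2, 3, 2, 3, 1, 2, 3, 2, 3, 4, 1, 2, 3, 2, 3, 1, 2, 3, 2, 3, 1, 2, 3, 2, 3, 1, 2, 3, 2, 3, 1, 2, 3, 2, 3, 4, 1, 2, 3, 2, 3, 1, 2, 3, 2, 3, 1, 2, 3, 2, 3, 1, 2, 3, 2, 3, 1, 2, 3, 2, 3, 4],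
   [6, 4, 1, 2, 3, 2, 5, 1, 0, 2, 3, 1, 2, 0, 1, 2, 3, 5, 2, 6, 1, 2, 3, 2, 5, 1, 0, 2, 3, 1, 2, 0, 1, 2, 3, 5, 2, 4],
   [1, 6, 1, 6, 1, 6, 0, 1, 0, 5, 1, 0, 1],
   [6, 1, 0, 1, 5, 0, 1, 0, 6, 1, 0, 1, 5, 0, 1, 0],
   [6, 0, 1, 0, 5, 1, 0, 1, 6, 0, 1, 0, 5, 1, 0, 1],
   [6, 1, 0, 1, 5, 0, 1, 0, 3, 6, 3, 1, 0, 1, 5, 0, 1, 0],
   [6, 1, 0, 1, 5, 0, 1, 0, 4, 6, 4, 1, 0, 1, 5, 0, 1, 0]]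

/-- The certificate. -/
def triBad1 : Data where
  ng := 7
  n := 1
  N := 128
  vm := 41
  rm := 123
  cw := 23
  R := 64
  cells := [[0x7c88000000000000000000000000000000000000000000000000000000000003ee40000000000000000025af400060a800000001fc2008eec2066f801d0aa923880b9aa4006330000000000000040c8012050021b00449640093600e12f800000000000000000000000000001585b400453c01294800000000000000000000000000001ac7a6009878008d00160ab01fcaa026ffc008418039a9000000004a54b143515c6142ac77c5405a0a4f89143cbc,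
     0x1a45b8000000000000075ac0109a800d0900000000000001072000000000000008804006d602847c0000000000006d3058000000000000039e0011290658ce0000000000007d188000000000000001cb00076480082000000000000000000000000001de20000000000000000000000000000000000000000000000003c64000000000000000000000000000000000000000000000000000000f4100000000000000000000000000000000000007b4800000,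
     0x569800000a85ee20000000000000000000000000000000000000afb939a6600000000591800000000000000000000000000000000000000007334c800000000000002d2c0000000000000000000000000000000000000000000000005b9801f4d00000000000000fc90000000000002426b800000000bc40f000800000000ff180000000000000000000000000000000000000000367420000000000000071ac1d54a002092,
     0xbdeaf60000000000000000000000033bb7800dac0ce14275968000000000c17000000000000000000003e7801b9827924e00000000dfd00000000000000000000000000000a0b09a000000004388000000000001650b000ede0edcfa98390e00000064727000000000000323988005198000000000000000000000000000000000000000000000000a5b000000000000005418000000000000000000000000000000000000000000000000000000000002aac00000000000,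
     0xd9a554000000000000000000000000013d800c68000000adc72400000000000000000000000000000002a380192197745e00000000cb900000000000000000000000000598cbc718000000002f480000000000000670c00000000000c413e2000000000000000000000000018e800d0a000000b260a2000000000000000000000000000000034580000095e93400000000000000000000000240df4000000006b326cfaa0000000036d800000000000006a887a023800000,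
     0x2232e00000007f92b8000000000000061fc00000000000, 0x0, 0x0, 0x0, 0x0, 0x0, 0x0, 0x0, 0x0, 0x0,
     0x0]]
  pw := 9
  pars := [[0x11385c0e02f777b9dca566995192be5b2d154a24d2611c863f0a0426931974aa50240fc7236160983c080a0300c00]]
  iw := 6
  live := [[0]]
  idx := [[0]]
  nrel := 52
  words := [triBad1Words0, triBad1Words1, triBad1Words2, triBad1Words3]

/-- Words. -/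
def triBad2Words0 : List (List ℕ × ℕ × List ℕ) :=
  [([], 0, [6, 0, 6]),
   ([], 2, [6, 2, 6]),
   ([], 3, [6, 3, 6]),
   ([], 4, [6, 4, 6]),
   ([], 5, [6, 5, 6, 5, 6, 5, 6]),
   ([], 7, [0, 6, 5, 6, 5]),
   ([], 0, [1, 2, 3, 5, 2, 6, 1, 2, 3, 2, 5, 1, 0, 2, 3, 1, 2, 0, 1, 2, 3, 5, 2, 4, 6, 4, 1, 2, 3, 2, 5, 1, 0, 2, 3, 1, 2]),
   ([], 6, [1, 6, 1, 0, 1, 5, 0, 1, 0, 1, 6, 1]),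
   ([], 5, [0, 1, 0, 6, 1, 0, 1, 5, 0, 1, 0, 6, 1, 0, 1]),
   ([], 1, [0, 1, 0, 1, 0, 1, 0, 1, 0]),
   ([], 1, [2, 1, 2, 1, 2]),
   ([], 3, [1, 3, 1]),
   ([], 4, [1, 4, 1]),
   ([], 1, [5, 1, 5, 1, 5]),
   ([], 2, [5, 0, 1, 2, 5, 0, 1, 2, 5, 0, 1, 2, 5, 0, 1, 2, 5, 0, 1]),
   ([], 1, [2, 3, 2, 3, 1, 2, 3, 2, 3, 4, 1, 2, 3, 2, 3, 1, 2, 3, 2, 3, 1, 2, 3, 2, 3, 1, 2, 3, 2, 3, 1, 2, 3, 2, 3, 4, 1, 2, 3, 2, 3, 1, 2, 3, 2, 3, 1, 2, 3, 2, 3, 1, 2, 3, 2, 3, 1, 2, 3, 2, 3, 4, 1, 2, 3, 2, 3, 1, 2, 3, 2, 3, 1, 2, 3, 2, 3])]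

/-- Words. -/
def triBad2Words1 : List (List ℕ × ℕ × List ℕ) :=
  [([], 0, [2, 0, 2]),
   ([], 3, [0, 3, 0]),
   ([], 4, [0, 4, 0]),
   ([], 7, [0, 5, 0, 5]),
   ([], 6, [0, 6, 0]),
   ([], 3, [2, 3, 2, 3, 2, 3, 2, 3, 2, 3, 2, 3, 2, 3, 2]),
   ([], 4, [2, 4, 2]),
   ([], 2, [5, 2, 5]),
   ([], 6, [2, 6, 2]),
   ([], 3, [5, 3, 5]),
   ([], 4, [5, 4, 5]),
   ([], 6, [5, 6, 5, 6, 5, 6, 5]),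
   ([], 7, [2, 3, 0, 2, 3, 2, 3, 2, 3]),
   ([], 7, [5, 6, 0, 5, 6]),
   ([], 1, [2, 5, 0, 1, 2, 5, 0, 1, 2, 5, 0, 1, 2, 5, 0, 1, 2, 5, 0]),
   ([], 3, [1, 2, 3, 2, 3, 1, 2, 3, 2, 3, 1, 2, 3, 2, 3, 1, 2, 3, 2, 3, 4, 1, 2, 3, 2, 3, 1, 2, 3, 2, 3, 1, 2, 3, 2, 3, 1, 2, 3, 2, 3, 1, 2, 3, 2, 3, 4, 1, 2, 3, 2, 3, 1, 2, 3, 2, 3, 1, 2, 3, 2, 3, 1, 2, 3, 2, 3, 1, 2, 3, 2, 3, 4, 1, 2, 3, 2])]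

/-- Words. -/
def triBad2Words2 : List (List ℕ × ℕ × List ℕ) :=
  [([], 3, [5, 2, 4, 6, 4, 1, 2, 3, 2, 5, 1, 0, 2, 3, 1, 2, 0, 1, 2, 3, 5, 2, 6, 1, 2, 3, 2, 5, 1, 0, 2, 3, 1, 2, 0, 1, 2]),
   ([], 0, [1, 0, 1, 0, 1, 0, 1, 0, 1]),
   ([], 0, [3, 0, 3]),
   ([], 5, [0, 5, 0]),
   ([], 1, [3, 1, 3]),
   ([], 5, [1, 5, 1, 5, 1]),
   ([], 3, [4, 3, 4, 3, 4]),
   ([], 5, [3, 5, 3]),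
   ([], 6, [3, 6, 3]),
   ([], 5, [0, 1, 2, 5, 0, 1, 2, 5, 0, 1, 2, 5, 0, 1, 2, 5, 0, 1, 2]),
   ([], 3, [1, 2, 3, 2, 3, 4, 1, 2, 3, 2, 3, 1, 2, 3, 2, 3, 1, 2, 3, 2, 3, 1, 2, 3, 2, 3, 1, 2, 3, 2, 3, 4, 1, 2, 3, 2, 3, 1, 2, 3, 2, 3, 1, 2, 3, 2, 3, 1, 2, 3, 2, 3, 1, 2, 3, 2, 3, 4, 1, 2, 3, 2, 3, 1, 2, 3, 2, 3, 1, 2, 3, 2, 3, 1, 2, 3, 2]),
   ([], 1, [2, 0, 1, 2, 3, 5, 2, 4, 6, 4, 1, 2, 3, 2, 5, 1, 0, 2, 3, 1, 2, 0, 1, 2, 3, 5, 2, 6, 1, 2, 3, 2, 5, 1, 0, 2, 3]),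
   ([], 7, [1, 0, 1, 6, 1, 6, 1, 6, 1, 0, 1, 0, 5]),
   ([], 2, [1, 2, 1, 2, 1]),
   ([], 1, [4, 1, 4]),
   ([], 7, [5, 2, 5, 2])]

/-- Words. -/
def triBad2Words3 : List (List ℕ × ℕ × List ℕ) :=
  [([], 6, [4, 6, 4]),
   ([], 7, [1, 3, 1, 3]),
   ([], 7, [1, 2, 1, 2, 1, 2]),
   ([], 7, [2, 5, 2, 5]),
   ([], 0, []),
   ([], 1, []),
   ([], 2, []),
   ([], 3, []),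
   ([], 4, []),
   ([], 5, [])]

/-- The relators. -/
def triBad2Rels : List (List ℕ) :=
  [[0, 0],
   [0, 1, 0, 1, 0, 1, 0, 1, 0, 1],
   [0, 2, 0, 2],
   [0, 3, 0, 3],
   [0, 4, 0, 4],
   [0, 5, 0, 5],
   [0, 6, 0, 6],
   [1, 1],
   [1, 2, 1, 2, 1, 2],
   [1, 3, 1, 3],
   [1, 4, 1, 4],
   [1, 5, 1, 5, 1, 5],
   [2, 2],
   [2, 3, 2, 3, 2, 3, 2, 3, 2, 3, 2, 3, 2, 3, 2, 3],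
   [2, 4, 2, 4],
   [2, 5, 2, 5],
   [2, 6, 2, 6],
   [3, 3],
   [3, 4, 3, 4, 3, 4],
   [3, 5, 3, 5],
   [3, 6, 3, 6],
   [4, 4],
   [4, 5, 4, 5],
   [4, 6, 4, 6],
   [5, 5],
   [5, 6, 5, 6, 5, 6, 5, 6],
   [6, 6],
   [0, 3, 2, 3, 2, 3, 2, 3, 2],
   [0, 6, 5, 6, 5],
   [0, 1, 2, 5, 0, 1, 2, 5, 0, 1, 2, 5, 0, 1, 2, 5, 0, 1, 2, 5],
   [1, 2, 3, 2, 3, 1, 2, 3, 2, 3, 1, 2, 3, 2, 3, 1, 2, 3, 2, 3, 1, 2, 3, 2, 3, 4, 1, 2, 3, 2, 3, 1, 2, 3, 2, 3, 1, 2, 3, 2, 3, 1, 2, 3, 2, 3, 1, 2, 3, 2, 3, 4, 1, 2, 3, 2, 3, 1, 2, 3, 2, 3, 1, 2, 3, 2, 3, 1, 2, 3, 2, 3, 1, 2, 3, 2, 3, 4],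
   [6, 4, 1, 2, 3, 2, 5, 1, 0, 2, 3, 1, 2, 0, 1, 2, 3, 5, 2, 6, 1, 2, 3, 2, 5, 1, 0, 2, 3, 1, 2, 0, 1, 2, 3, 5, 2, 4],
   [1, 6, 1, 6, 1, 6, 1, 0, 1, 5, 0, 1, 0],
   [6, 1, 0, 1, 5, 0, 1, 0, 6, 1, 0, 1, 5, 0, 1, 0],
   [6, 0, 1, 0, 5, 1, 0, 1, 6, 0, 1, 0, 5, 1, 0, 1],
   [6, 1, 0, 1, 5, 0, 1, 0, 3, 6, 3, 1, 0, 1, 5, 0, 1, 0],
   [6, 1, 0, 1, 5, 0, 1, 0, 4, 6, 4, 1, 0, 1, 5, 0, 1, 0]]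

/-- The certificate. -/
def triBad2 : Data where
  ng := 7
  n := 1
  N := 128
  vm := 41
  rm := 123
  cw := 23
  R := 64
  cells := [[0x7c88000000000000000000000000000000000000000000000000000000000003ee40000000000000000025af400060a800000001fc2008eec2066f801d0aa923880b9aa4006330000000000000040c8012050021b00449640093600e12f800000000000000000000000000001585b400453c01294800000000000000000000000000001ac7a6009878008d00160ab01fcaa026ffc008418039a9000000004a54b143515c6142ac77c5405a0a4f89143cbc,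
     0x1a45b8000000000000075ac0109a800d0900000000000001072000000000000008804006d602847c0000000000006d3058000000000000039e0011290658ce0000000000007d188000000000000001cb00076480082000000000000000000000000001de20000000000000000000000000000000000000000000000003c64000000000000000000000000000000000000000000000000000000f4100000000000000000000000000000000000007b4800000,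
     0x569800000a85ee20000000000000000000000000000000000000afb939a6600000000591800000000000000000000000000000000000000007334c800000000000002d2c0000000000000000000000000000000000000000000000005b9801f4d00000000000000fc90000000000002426b800000000bc40f000800000000ff180000000000000000000000000000000000000000367420000000000000071ac1d54a002092,
     0xbdeaf60000000000000000000000033bb7800dac0ce14275968000000000c17000000000000000000003e7801b9827924e00000000dfd00000000000000000000000000000a0b09a000000004388000000000001650b000ede0edcfa98390e00000064727000000000000323988005198000000000000000000000000000000000000000000000000a5b000000000000005418000000000000000000000000000000000000000000000000000000000002aac00000000000,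
     0xd9a554000000000000000000000000013d800c68000000adc72400000000000000000000000000000002a380192197745e00000000cb900000000000000000000000000598cbc718000000002f480000000000000670c00000000000c413e2000000000000000000000000018e800d0a000000b260a2000000000000000000000000000000034580000095e93400000000000000000000000240df4000000006b326cfaa0000000036d800000000000006a887a023800000,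
     0x2232e00000007f92b8000000000000061fc00000000000, 0x0, 0x0, 0x0, 0x0, 0x0, 0x0, 0x0, 0x0, 0x0,
     0x0]]
  pw := 9
  pars := [[0x11385c0e02f777b9dca566995192be5b2d154a24d2611c863f0a0426931974aa50240fc7236160983c080a0300c00]]
  iw := 6
  live := [[0]]
  idx := [[0]]
  nrel := 52
  words := [triBad2Words0, triBad2Words1, triBad2Words2, triBad2Words3]

end CfsgLib.SuzR3
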