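import Cfsg.Agent.Lib.SuzRank3.DataA
import Cfsg.Agent.Lib.SuzRank3.DataTri
import Cfsg.Agent.Lib.SuzRank3.DataFacts
import Cfsg.Agent.Lib.PresCert.Bound

/-!
# Kernel checks for the triangle relations
-/

set_option autoImplicit false
set_option maxRecDepth 100000
set_option maxHeartbeats 0

namespace CfsgLib.SuzR3

open CfsgLib.PresCert CfsgLib.Suz

/-- The generators of the edge stabiliser with inverse. -/
def edgeLetters : List (List ℕ) := [caseA.w1, caseA.w2, caseA.xw, caseA.w2.reverse]

/-- Their images under the flag. -/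
def edgeImages : List (List ℕ) :=
  [caseA.lw caseA.good.1, caseA.lw caseA.good.2, caseA.xw, (caseA.lw caseA.good.2).reverse]

/-- The facts about conjugation. -/
def factsOk : Bool :=
  conjFacts.all fun f => ltSix f.1 && ltSix f.2.1 && f.2.2.all (fun k => Nat.blt k 4) &&
    same (expand edgeLetters f.2.2) f.1 && same (expand edgeImages f.2.2) f.2.1

/-- The relators given by the facts, the flag and the triangle. -/
def flagRels : List (List ℕ) :=
  conjFacts.map (fun f => [6] ++ f.1 ++ [6] ++ f.2.1.reverse) ++
    [[6, 6], [5, 6, 5, 6, 5, 6, 5, 6]]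

/-- A word is a relator known from `R`. -/
def knownRel (R : List (List ℕ)) (w : List ℕ) : Bool :=
  (ltSix w && same w []) ||
    R.any fun v => (List.range (v.length + 1)).any fun k =>
      decide (w = v.rotate k) || decide (w = v.reverse.rotate k)

/-- The triangle relator. -/
def cycWord : List ℕ := [1, 6, 1, 6, 1, 6]

/-- The checks of the certificates. -/
def triOk : Bool :=
  flagRels.all (fun v => v.all fun g => Nat.blt g 7) &&
  triGoalRels.all (fun w => knownRel (flagRels ++ [cycWord]) w && same w []) &&
  triBad1Rels.all (knownRel (flagRels ++ [cycWord ++ (caseA.lw 30).reverse])) &&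
  triBad2Rels.all (knownRel (flagRels ++ [cycWord ++ (caseA.lw 166).reverse])) &&
  decide (caseA.cen = [0, 30, 166]) && decide (caseA.bw = [1]) && decide (caseA.w1 = [3]) &&
  (Suz.relData.all fun w => knownRel (flagRels ++ [cycWord, [1, 5, 6, 1, 5, 6, 1, 5, 6, 1, 5, 6, 1, 5, 6]]) w)

/-- The cube of the compatible automorphism and its square. -/
def powOk : Bool :=
  Nat.beq (caseA.cube caseA.good.1 caseA.good.2 caseA.i1) caseA.i1 &&
  Nat.beq (caseA.cube caseA.good.1 caseA.good.2 caseA.i2) caseA.i2 &&
  Nat.beq (caseA.img caseA.good.1 caseA.good.2 caseA.good.1) caseA.i1 &&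
  Nat.beq (caseA.img caseA.good.1 caseA.good.2 caseA.good.2) caseA.i2 &&
  (List.range caseA.cen.length).all (fun n => Nat.beq n 0 ||
    !(same (caseA.lw (caseA.cen.getD n 0) ++ caseA.xw) (caseA.xw ++ caseA.lw (caseA.cen.getD n 0))))

/-- The checks of one certificate. -/
def triCert (D : Data) (rels : List (List ℕ)) (goal : List ℕ) : Bool :=
  Nat.beq D.ng 7 && Nat.ble D.N 1000 && shapeOk D && block D 0 && relsOk D rels &&
    subsOk D sC (16 * D.words.length) && endsAt D (D.rm - 1) (walk D (D.rm - 1) 0 goal) 0

theorem facts_ok : factsOk = true := by decide +kernel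

theorem tri_ok : triOk = true := by decide +kernel

theorem pow_ok : powOk = true := by decide +kernel

theorem triGoal_cert :
    triCert triGoal triGoalRels [1, 5, 6, 1, 5, 6, 1, 5, 6, 1, 5, 6, 1, 5, 6] = true := by
  decide +kernel

theorem triBad1_cert : triCert triBad1 triBad1Rels [6] = true := by decide +kernel

theorem triBad2_cert : triCert triBad2 triBad2Rels [6] = true := by decide +kernel

end CfsgLib.SuzR3
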