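import Cfsg.Agent.Lib.SuzRank3.CheckEdge
import Cfsg.Agent.Lib.SuzRank3.CaseA
import Cfsg.Agent.Lib.SuzRank3.CaseB
import Cfsg.Agent.Lib.SuzRank3.CaseFacts

/-!
# The subgroups of index 1365 of G₂(4)

Such a subgroup shares a Sylow 2-subgroup with a conjugate of the stabiliser of a point of the
hexagon; its orbit of that point is the point or a line.
-/

set_option autoImplicit false
set_option maxRecDepth 100000

namespace CfsgLib.SuzR3

open CfsgLib.PresCert CfsgLib.Suz MulAction

theorem edge_ok : ForestOk tab edgeForest :=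
  ⟨edgeForest_shape, fun _ hb => two_blocks edgeForest_blocks hb⟩

theorem caseA_pts_eq : caseA.pts = [1] := by
  have h := line_ok
  simp only [lineOk, Bool.and_eq_true, decide_eq_true_eq] at h
  exact h.1.2

/-- The first point. -/
def one' : Fin tab.n := ⟨1, by decide +kernel⟩

theorem mem_ptA {k : subH} : k ∈ setStab caseA.pts ↔ hPerm k one' = one' := by
  have e : ptSet caseA.pts = {one'} := by
    ext i
    simp [ptSet, caseA_pts_eq, one', Fin.ext_iff]
  rw [mem_setStab, e, move, Finset.map_singleton, Finset.singleton_inj, Equiv.toEmbedding_apply]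

theorem move_one' {k : subH} {i : Fin tab.n} (h : hPerm k one' = i) (l : subH) :
    l * k ∈ setStab caseA.pts ↔ hPerm l i = one' := by
  rw [mem_ptA, map_mul, Equiv.Perm.mul_apply, h]

theorem forest_one : Suz.forest.lab 1 = 2 := by
  have h := line_ok
  simp only [lineOk, Bool.and_eq_true, Nat.beq_eq] at h
  exact h.1.1.1.1.1.1.2

theorem lab_hPerm (k : subH) (i : Fin tab.n) :
    Suz.forest.lab (hPerm k i).val = Suz.forest.lab i.val :=
  forest_ok.invariant realised k.2 i

theorem card_stabA : Nat.card (setStab caseA.pts) = 184320 := by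
  classical
  have hle := caseA_ok.stab_le
  let f : subH ⧸ setStab caseA.pts → Fin tab.n := fun q => hPerm q.out one'
  have hf : Function.Injective f := by
    intro a b e
    rw [← QuotientGroup.out_eq' a, ← QuotientGroup.out_eq' b, QuotientGroup.eq, mem_ptA, map_mul,
      Equiv.Perm.mul_apply, map_inv, Equiv.Perm.inv_def, Equiv.symm_apply_eq]
    exact e.symm
  have hr : Set.range f ⊆ {i : Fin tab.n | Suz.forest.lab i.val = 2} := by
    rintro _ ⟨q, rfl⟩
    show Suz.forest.lab (hPerm q.out one').val = 2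
    rw [lab_hPerm]
    exact forest_one
  have hcount : {i : Fin tab.n | Suz.forest.lab i.val = 2}.ncard = 1365 := by
    have h := forest_ok.orbit_card realised one'
    rw [show Suz.forest.lab one'.val = 2 from forest_one, forest_count (by norm_num : 2 < 3)] at h
    refine Eq.trans ?_ h
    congr 1
    ext i
    constructor
    · intro hi
      obtain ⟨m, hm, e⟩ := forest_ok.reach realised i
      obtain ⟨m', hm', e'⟩ := forest_ok.reach realised one'
      simp only [show Suz.forest.lab i.val = 2 from hi] at e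
      simp only [show Suz.forest.lab one'.val = 2 from forest_one] at e'
      refine ⟨m * m'⁻¹, mul_mem hm (inv_mem hm'), ?_⟩
      rw [map_mul, Equiv.Perm.mul_apply, map_inv, Equiv.Perm.inv_def,
        (Equiv.symm_apply_eq _).2 e'.symm, e]
    · rintro ⟨m, hm, rfl⟩
      show Suz.forest.lab (phi m one').val = 2
      rw [forest_ok.invariant realised hm]
      exact forest_one
  have hidx : (setStab caseA.pts).index ≤ 1365 := by
    rw [Subgroup.index_eq_card, ← hcount, ← Set.ncard_univ,
      ← Set.ncard_image_of_injective Set.univ hf, Set.image_univ]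
    exact Set.ncard_le_ncard hr (Set.toFinite _)
  have hm := (setStab caseA.pts).card_mul_index
  rw [card_subH] at hm
  have := Nat.mul_le_mul_left (Nat.card (setStab caseA.pts)) hidx
  omega

/-- The generators of the edge stabiliser. -/
theorem edgeGen_mem {w : List ℕ} (hw : w ∈ edgeGens) :
    (∀ g ∈ w, g < 6) ∧ hEl w ∈ setStab caseA.pts := by
  have h := edgeGens_ok
  simp only [edgeGensOk, List.all_eq_true, Bool.and_eq_true, Nat.beq_eq] at h
  obtain ⟨a, b⟩ := h w hw
  refine ⟨ltSix_spec a, mem_ptA.2 (Fin.ext ?_)⟩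
  rw [hPerm_apply (ltSix_spec a)]
  exact b

/-- The subgroup of the generators. -/
noncomputable def edgeGrp : Subgroup subH := Subgroup.closure {x | ∃ w ∈ edgeGens, hEl w = x}

theorem edgeGrp_eq : edgeGrp = setStab caseA.pts := by
  refine le_antisymm ((Subgroup.closure_le _).2 ?_) fun k hk => ?_
  · rintro _ ⟨w, hw, rfl⟩; exact (edgeGen_mem hw).2
  have hexp : ∀ u : List ℕ, hEl (expand edgeGens u) ∈ edgeGrp := fun u => by
    rw [hEl_expand]
    refine act_mem_of (fun a => ?_) u
    by_cases ha : a < edgeGens.length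
    · rw [List.getD_eq_getElem _ _ ha]
      exact Subgroup.subset_closure ⟨_, List.getElem_mem _, rfl⟩
    · rw [List.getD_eq_default _ _ (by omega), hEl_nil]; exact one_mem _
  have hlt : ∀ u : List ℕ, ∀ z ∈ expand edgeGens u, z < 6 := fun u z hz => by
    obtain ⟨a, -, ha⟩ := List.mem_flatMap.1 hz
    by_cases hlen : a < edgeGens.length
    · rw [List.getD_eq_getElem _ _ hlen] at ha
      exact (edgeGen_mem (List.getElem_mem _)).1 z ha
    · rw [List.getD_eq_default _ _ (by omega)] at ha
      exact absurd ha List.not_mem_nil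
  have h := edgeTws_ok
  simp only [edgeTwsOk, Bool.and_eq_true, List.all_eq_true, List.mem_range, decide_eq_true_eq] at h
  obtain ⟨⟨⟨-, htw⟩, hw1⟩, hw2⟩ := h
  have l1 : ∀ k, caseA.lg k ∈ edgeGrp := fun k => by
    rw [Case.lg]
    split
    · rw [← same_eq (hlt _) caseA_ok.w1_lt hw1]; exact hexp _
    · rw [← same_eq (hlt _) caseA_ok.w2_lt hw2]; exact hexp _
  obtain ⟨t, ht, i, hi, rfl⟩ := (caseA_ok.decomp card_stabA).2 k hk
  refine mul_mem ?_ ?_
  · rw [← htw t ht]; exact hexp _
  · rw [← caseA_ok.el_ew hi]; exact act_mem_of l1 _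

theorem edge_inv {k : subH} (hk : k ∈ setStab caseA.pts) (i : Fin tab.n) :
    edgeForest.lab (hPerm k i).val = edgeForest.lab i.val := by
  rw [← edgeGrp_eq] at hk
  revert i
  induction hk using Subgroup.closure_induction with
  | mem s hs =>
    obtain ⟨w, hw, rfl⟩ := hs
    intro i
    rw [hPerm_apply (edgeGen_mem hw).1]
    exact (edge_ok.spec i.isLt).1 w hw
  | one => intro i; simp
  | mul a b _ _ ha hb => intro i; rw [map_mul, Equiv.Perm.mul_apply, ha, hb]
  | inv a _ ha =>
    intro i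
    have h := ha (hPerm a⁻¹ i)
    rw [← Equiv.Perm.mul_apply, ← map_mul, mul_inv_cancel, map_one, Equiv.Perm.one_apply] at h
    exact h.symm

theorem edge_lift {m : Cfsg.Spor.Suz} (hm : m ∈ genGrp edgeForest.words suzGen) :
    ∃ k : subH, k ∈ setStab caseA.pts ∧ (k : Cfsg.Spor.Suz) = m := by
  have hle : genGrp edgeForest.words suzGen ≤ (setStab caseA.pts).map subH.subtype := by
    refine (Subgroup.closure_le _).2 ?_
    rintro _ ⟨w, hw, rfl⟩
    exact ⟨hEl w, (edgeGen_mem hw).2, hEl_val (edgeGen_mem hw).1⟩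
  obtain ⟨k, hk, e⟩ := hle hm
  exact ⟨k, hk, e⟩

theorem edge_to_root (y : Fin tab.n) : ∃ k ∈ setStab caseA.pts,
    hPerm k y = ⟨edgeForest.roots.getD (edgeForest.lab y.val) 0,
      (edge_ok.root (edge_ok.spec y.isLt).2.1).1⟩ := by
  obtain ⟨m, hm, e⟩ := edge_ok.reach realised y
  obtain ⟨k, hk, rfl⟩ := edge_lift hm
  refine ⟨k⁻¹, inv_mem hk, ?_⟩
  rw [map_inv, Equiv.Perm.inv_def, Equiv.symm_apply_eq]
  exact e.symm

theorem edge_conn {x y : Fin tab.n} (h : edgeForest.lab x.val = edgeForest.lab y.val) :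
    ∃ k ∈ setStab caseA.pts, hPerm k x = y := by
  obtain ⟨k, hk, e⟩ := edge_to_root x
  obtain ⟨l, hl, e'⟩ := edge_to_root y
  refine ⟨l⁻¹ * k, mul_mem (inv_mem hl) hk, ?_⟩
  rw [map_mul, Equiv.Perm.mul_apply, e, map_inv, Equiv.Perm.inv_def, Equiv.symm_apply_eq, e']
  simp [h]

/-- The number of points with a label. -/
theorem edge_orbit (y : Fin tab.n) (hy : Suz.forest.lab y.val = 2) :
    0 < edgeForest.lab y.val ∧ edgeForest.lab y.val < 5 ∧
      {q : Fin tab.n | edgeForest.lab q.val = edgeForest.lab y.val}.ncard =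
        [0, 1, 20, 320, 1024].getD (edgeForest.lab y.val) 0 := by
  have h := edgeLab_ok
  simp only [edgeLabOk, Bool.and_eq_true, List.all_eq_true, List.mem_range, Bool.or_eq_true,
    Bool.not_eq_true', Nat.blt_eq, decide_eq_true_eq] at h
  obtain ⟨hall, hcnt⟩ := h
  obtain ⟨h1, h2⟩ : 0 < edgeForest.lab y.val ∧ edgeForest.lab y.val < 5 := by
    refine (hall y.val y.isLt).resolve_left fun hh => ?_
    rw [hy] at hh
    simp at hh
  refine ⟨h1, h2, ?_⟩
  set k := edgeForest.lab y.val with hk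
  have hb : {q : Fin tab.n | edgeForest.lab q.val = k}.ncard =
      ((List.range 1782).filter fun q => Nat.beq (edgeForest.lab q) k).length := by
    rw [← List.toFinset_card_of_nodup (List.nodup_range.filter _), ← Set.ncard_coe_finset]
    refine Set.ncard_congr (fun q _ => q.val) (fun q hq => ?_) (fun a b _ _ e => Fin.ext e)
      fun v hv => ?_
    · simp only [Finset.mem_coe, List.mem_toFinset, List.mem_filter, List.mem_range, Nat.beq_eq]
      exact ⟨q.isLt, hq⟩
    · simp only [Finset.mem_coe, List.mem_toFinset, List.mem_filter, List.mem_range,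
        Nat.beq_eq] at hv
      exact ⟨⟨v, hv.1⟩, hv.2, rfl⟩
  rw [hb]
  have hget := congrArg (fun l => l.getD (k - 1) 0) hcnt
  rw [List.getD_eq_getElem _ _ (by simp; omega), List.getElem_map, List.getElem_range,
    show k - 1 + 1 = k by omega] at hget
  rw [hget]
  interval_cases k <;> rfl

theorem edge_root_one : edgeForest.roots.getD 1 0 = 1 ∧ edgeForest.roots.getD 2 0 = 16 ∧
    edgeForest.lab 16 = 2 ∧ tab.walk 1 nearWord = 16 ∧ (∀ g ∈ nearWord, g < 6) ∧
    (∀ q < 1782, edgeForest.lab q = 2 → edgeForest.lab (tab.walk q nearWord.reverse) = 2 →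
      q ∈ caseB.pts) ∧ caseB.pts = [1, 16, 30, 68, 260] := by
  have h := line_ok
  simp only [lineOk, Bool.and_eq_true, Nat.beq_eq, decide_eq_true_eq, List.all_eq_true,
    List.mem_range, Bool.or_eq_true, Bool.not_eq_true', Bool.and_eq_false_iff,
    List.any_eq_true] at h
  obtain ⟨⟨⟨⟨⟨⟨⟨⟨a, b⟩, -⟩, d⟩, e⟩, f⟩, g⟩, -⟩, i⟩ := h
  refine ⟨f, e, d, b, ltSix_spec a, fun q hq h1 h2 => ?_, i⟩
  rcases g q hq with (hh | hh) | ⟨x, hx, rfl⟩
  · rw [h1] at hh; exact Bool.noConfusion hh
  · rw [h2] at hh; exact Bool.noConfusion hh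
  · exact hx

theorem lab_one_iff {y : Fin tab.n} : edgeForest.lab y.val = 1 → y = one' := by
  intro h
  obtain ⟨m, hm, e⟩ := edge_ok.reach realised y
  simp only [h, edge_root_one.1] at e
  obtain ⟨k, hk, rfl⟩ := edge_lift hm
  rw [← e]
  exact mem_ptA.1 hk

/-- The orbit of the first point. -/
def orb (Q : Subgroup subH) : Set (Fin tab.n) := {i | ∃ q ∈ Q, hPerm q one' = i}

theorem orb_card (Q : Subgroup subH) :
    (orb Q).ncard * Nat.card ↥(Q ⊓ setStab caseA.pts) = Nat.card Q := by
  classical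
  let _ : MulAction Q (Fin tab.n) := MulAction.compHom _ (hPerm.comp Q.subtype)
  have he : orb Q = MulAction.orbit Q one' := by
    ext i
    constructor
    · rintro ⟨q, hq, rfl⟩; exact ⟨⟨q, hq⟩, rfl⟩
    · rintro ⟨⟨q, hq⟩, rfl⟩; exact ⟨q, hq, rfl⟩
  rw [he, ← MulAction.index_stabilizer, mul_comm,
    ← Subgroup.card_mul_index (stabilizer Q one')]
  congr 1
  exact Nat.card_congr ⟨fun g => ⟨⟨g.1, g.2.1⟩, mem_ptA.1 g.2.2⟩,
    fun g => ⟨g.1.1, g.1.2, mem_ptA.2 g.2⟩, fun _ => rfl, fun _ => rfl⟩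

/-- The orbit of a subgroup of the edge stabiliser of odd index keeps the 2-part. -/
theorem orbit_two_part {K : Subgroup subH} (hK : K ≤ setStab caseA.pts) {s : ℕ}
    (hs : s * Nat.card K = 184320) (hodd : Odd s) (y : Fin tab.n) (hy : Suz.forest.lab y.val = 2)
    {a : ℕ} (ha : 2 ^ a ∣ [0, 1, 20, 320, 1024].getD (edgeForest.lab y.val) 0) :
    2 ^ a ∣ {i : Fin tab.n | ∃ q ∈ K, hPerm q y = i}.ncard := by
  classical
  set P := setStab caseA.pts with hP
  let _ : MulAction P (Fin tab.n) := MulAction.compHom _ (hPerm.comp P.subtype)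
  let _ : MulAction K (Fin tab.n) := MulAction.compHom _ (hPerm.comp K.subtype)
  have eP : MulAction.orbit P y = {q : Fin tab.n | edgeForest.lab q.val = edgeForest.lab y.val} := by
    ext i
    constructor
    · rintro ⟨⟨q, hq⟩, rfl⟩; exact edge_inv hq y
    · intro hi
      obtain ⟨k, hk, e⟩ := edge_conn (Eq.symm hi)
      exact ⟨⟨k, hk⟩, e⟩
  have eK : MulAction.orbit K y = {i : Fin tab.n | ∃ q ∈ K, hPerm q y = i} := by
    ext i
    constructor
    · rintro ⟨⟨q, hq⟩, rfl⟩; exact ⟨q, hq, rfl⟩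
    · rintro ⟨q, hq, rfl⟩; exact ⟨⟨q, hq⟩, rfl⟩
  have hPc : (MulAction.orbit P y).ncard * Nat.card (stabilizer P y) = 184320 := by
    rw [← MulAction.index_stabilizer, mul_comm, Subgroup.card_mul_index, hP, card_stabA]
  have hKc : (MulAction.orbit K y).ncard * Nat.card (stabilizer K y) = Nat.card K := by
    rw [← MulAction.index_stabilizer, mul_comm, Subgroup.card_mul_index]
  have hdvd : Nat.card (stabilizer K y) ∣ Nat.card (stabilizer P y) := by
    let f : stabilizer K y →* stabilizer P y :=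
      { toFun := fun g => ⟨⟨g.1.1, hK g.1.2⟩, g.2⟩
        map_one' := rfl
        map_mul' := fun _ _ => rfl }
    exact Subgroup.card_dvd_of_injective f fun x x' e => by
      have e1 : (x.1.1 : subH) = x'.1.1 := congrArg (fun z => z.1.1) e
      exact Subtype.ext (Subtype.ext e1)
  obtain ⟨m, hm⟩ := hdvd
  have hpos : 0 < Nat.card (stabilizer K y) := Nat.card_pos
  have key : (MulAction.orbit P y).ncard * m = s * (MulAction.orbit K y).ncard := by
    refine Nat.eq_of_mul_eq_mul_right hpos ?_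
    rw [mul_assoc, mul_comm m, ← hm, hPc, mul_assoc, hKc, hs]
  have h2 : 2 ^ a ∣ s * {i : Fin tab.n | ∃ q ∈ K, hPerm q y = i}.ncard := by
    rw [← eK, ← key, eP, (edge_orbit y hy).2.2]
    exact ha.mul_right _
  refine (Nat.Coprime.pow_left a ?_).dvd_of_dvd_mul_left h2
  exact Nat.coprime_two_left.2 hodd

/-- A subgroup of index 1365 is conjugate to one of the two stabilisers. -/
theorem classify (Q : Subgroup subH) (hQ : Q.index = 1365) :
    ∃ k : subH, (∀ h, h ∈ Q ↔ k * h * k⁻¹ ∈ setStab caseA.pts) ∨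
      (∀ h, h ∈ Q ↔ k * h * k⁻¹ ∈ setStab caseB.pts) := by
  classical
  haveI : Fact (Nat.Prime 2) := ⟨Nat.prime_two⟩
  have hcard : Nat.card Q = 184320 := by
    have h := Q.card_mul_index
    rw [hQ, card_subH] at h
    omega
  obtain ⟨U, hU⟩ := Sylow.exists_subgroup_card_pow_prime (G := Q) (n := 12) 2
    (by rw [hcard]; norm_num)
  have hUp : IsPGroup 2 U := IsPGroup.of_card hU
  have hAidx : (setStab caseA.pts).index = 1365 := by
    have h := (setStab caseA.pts).card_mul_index
    rw [card_stabA, card_subH] at h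
    omega
  obtain ⟨q0, hq0⟩ := hUp.nonempty_fixed_point_of_prime_not_dvd_card
    (subH ⧸ setStab caseA.pts) (by rw [← Subgroup.index_eq_card, hAidx]; norm_num)
  obtain ⟨k0, rfl⟩ := QuotientGroup.mk_surjective q0
  have hU' : ∀ u : U, k0⁻¹ * ((u : Q) : subH) * k0 ∈ setStab caseA.pts := fun u => by
    have h : ((((u : Q) : subH) * k0 : subH) : subH ⧸ setStab caseA.pts) = (k0 : subH ⧸ _) :=
      MulAction.mem_fixedPoints.1 hq0 u
    rw [eq_comm, QuotientGroup.eq, ← mul_assoc] at h
    exact h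
  set Q' : Subgroup subH := Q.map (MulAut.conj k0⁻¹).toMonoidHom with hQ'
  have hQ'mem : ∀ h, h ∈ Q' ↔ k0 * h * k0⁻¹ ∈ Q := fun h => by
    rw [hQ', Subgroup.mem_map]
    constructor
    · rintro ⟨x, hx, rfl⟩
      simpa [MulAut.conj_apply, mul_assoc] using hx
    · exact fun hh => ⟨_, hh, by simp [MulAut.conj_apply, mul_assoc]⟩
  have hQ'card : Nat.card Q' = 184320 := by
    rw [hQ', Subgroup.card_map_of_injective (MulAut.conj k0⁻¹).injective, hcard]
  have hK4096 : 4096 ∣ Nat.card ↥(Q' ⊓ setStab caseA.pts) := by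
    let f : U →* ↥(Q' ⊓ setStab caseA.pts) :=
      { toFun := fun u => ⟨k0⁻¹ * ((u : Q) : subH) * k0,
          (hQ'mem _).2 (by simpa [mul_assoc] using (u : Q).2), hU' u⟩
        map_one' := Subtype.ext (by simp)
        map_mul' := fun u v => Subtype.ext (by simp [mul_assoc]) }
    have := Subgroup.card_dvd_of_injective f fun u v e => by
      have e1 := congrArg Subtype.val e
      exact Subtype.ext (Subtype.ext (mul_left_cancel (mul_right_cancel e1)))
    rw [hU] at this
    norm_num at this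
    exact this
  -- reduce to a subgroup containing the root of the twenty
  have main : ∀ R : Subgroup subH, Nat.card R = 184320 →
      4096 ∣ Nat.card ↥(R ⊓ setStab caseA.pts) → (∀ i ∈ orb R, i = one') ∨
        ∃ i ∈ orb R, edgeForest.lab i.val = 2 := by
    intro R hR h4
    obtain ⟨m, hm⟩ := h4
    have hs := orb_card R
    rw [hR] at hs
    have h45 : (orb R).ncard * m = 45 := by rw [hm] at hs; rw [← Nat.mul_right_inj (show (4096 : ℕ) ≠ 0 by norm_num)]; ring_nf; ring_nf at hs; omega
    by_cases h1 : ∀ i ∈ orb R, i = one'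
    · exact Or.inl h1
    refine Or.inr ?_
    push Not at h1
    obtain ⟨y, hyR, hy1⟩ := h1
    refine ⟨y, hyR, ?_⟩
    have hlab : Suz.forest.lab y.val = 2 := by
      obtain ⟨q, -, rfl⟩ := hyR
      rw [lab_hPerm]; exact forest_one
    obtain ⟨l0, l5, -⟩ := edge_orbit y hlab
    have hne1 : edgeForest.lab y.val ≠ 1 := fun h => hy1 (lab_one_iff h)
    by_contra h2
    have hodd : Odd (orb R).ncard := by
      have : Odd ((orb R).ncard * m) := by rw [h45]; decide
      exact (Nat.odd_mul.1 this).1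
    have hdiv : 64 ∣ {i : Fin tab.n | ∃ q ∈ R ⊓ setStab caseA.pts, hPerm q y = i}.ncard := by
      refine orbit_two_part (a := 6) inf_le_right (s := (orb R).ncard) hs hodd y hlab ?_
      interval_cases edgeForest.lab y.val
      · exact absurd rfl hne1
      · exact absurd rfl h2
      · norm_num
      · norm_num
    have hsub : {i : Fin tab.n | ∃ q ∈ R ⊓ setStab caseA.pts, hPerm q y = i} ⊆ orb R := by
      rintro _ ⟨q, hq, rfl⟩
      obtain ⟨r, hr, rfl⟩ := hyR
      exact ⟨q * r, mul_mem hq.1 hr, by rw [map_mul, Equiv.Perm.mul_apply]⟩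
    have hle := Set.ncard_le_ncard hsub (Set.toFinite _)
    have hne : 0 < {i : Fin tab.n | ∃ q ∈ R ⊓ setStab caseA.pts, hPerm q y = i}.ncard :=
      (Set.ncard_pos (Set.toFinite _)).2 ⟨y, 1, one_mem _, by simp⟩
    have := Nat.le_of_dvd hne hdiv
    have := Nat.le_of_dvd (by norm_num : 0 < 45) (Dvd.intro _ h45)
    omega
  have conjEq : ∀ (R S : Subgroup subH) (k : subH), (∀ h, h ∈ R → k * h * k⁻¹ ∈ S) →
      Nat.card S ≤ Nat.card R → ∀ h, h ∈ R ↔ k * h * k⁻¹ ∈ S := by
    intro R S k hle hc h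
    refine ⟨hle h, fun hS => ?_⟩
    have e : R.map (MulAut.conj k).toMonoidHom = S := by
      refine Subgroup.eq_of_le_of_card_ge ?_
        (by rw [Subgroup.card_map_of_injective (MulAut.conj k).injective]; exact hc)
      rintro _ ⟨x, hx, rfl⟩
      simpa [MulAut.conj_apply] using hle x hx
    rw [← e] at hS
    obtain ⟨x, hx, hxe⟩ := hS
    simp only [MulEquiv.coe_toMonoidHom, MulAut.conj_apply] at hxe
    rwa [mul_left_cancel (mul_right_cancel hxe)] at hx
  rcases main Q' hQ'card hK4096 with h1 | ⟨y, hy, hy2⟩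
  · have hsub : ∀ h ∈ Q, k0⁻¹ * h * k0⁻¹⁻¹ ∈ setStab caseA.pts := fun h hh =>
      mem_ptA.2 (h1 _ ⟨_, (hQ'mem _).2 (by simpa [mul_assoc] using hh), rfl⟩)
    exact ⟨k0⁻¹, Or.inl (conjEq Q _ k0⁻¹ hsub (by rw [card_stabA, hcard]))⟩
  obtain ⟨e1, e2, e3, e4, e5, e6, e7⟩ := edge_root_one
  obtain ⟨p, hp, hpy⟩ := edge_to_root y
  simp only [hy2, e2] at hpy
  set R : Subgroup subH := Q'.map (MulAut.conj p).toMonoidHom with hR
  have hRmem : ∀ h, h ∈ R ↔ p⁻¹ * h * p ∈ Q' := fun h => by
    rw [hR, Subgroup.mem_map]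
    constructor
    · rintro ⟨x, hx, rfl⟩
      simpa [MulAut.conj_apply, mul_assoc] using hx
    · exact fun hh => ⟨_, hh, by simp [MulAut.conj_apply, mul_assoc]⟩
  have hRcard : Nat.card R = 184320 := by
    rw [hR, Subgroup.card_map_of_injective (MulAut.conj p).injective, hQ'card]
  have hRK : 4096 ∣ Nat.card ↥(R ⊓ setStab caseA.pts) := by
    have e : R ⊓ setStab caseA.pts = (Q' ⊓ setStab caseA.pts).map (MulAut.conj p).toMonoidHom := by
      rw [Subgroup.map_inf _ _ _ (MulAut.conj p).injective, ← hR]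
      congr 1
      ext x
      rw [Subgroup.mem_map]
      constructor
      · exact fun hx => ⟨p⁻¹ * x * p, mul_mem (mul_mem (inv_mem hp) hx) hp,
          by simp [MulAut.conj_apply, mul_assoc]⟩
      · rintro ⟨z, hz, rfl⟩
        simpa [MulAut.conj_apply] using mul_mem (mul_mem hp hz) (inv_mem hp)
    rw [e, Subgroup.card_map_of_injective (MulAut.conj p).injective]
    exact hK4096
  set x0 : Fin tab.n := hPerm (hEl nearWord) one' with hx0
  have hx0v : x0.val = 16 := by rw [hx0, hPerm_apply e5]; exact e4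
  have hx0R : x0 ∈ orb R := by
    obtain ⟨q, hq, hqy⟩ := hy
    refine ⟨p * q * p⁻¹, (hRmem _).2 (by simpa [mul_assoc] using hq), ?_⟩
    rw [map_mul, map_mul, Equiv.Perm.mul_apply, Equiv.Perm.mul_apply, map_inv,
      show (hPerm p)⁻¹ one' = one' from by
        rw [Equiv.Perm.inv_def, Equiv.symm_apply_eq]; exact (mem_ptA.1 hp).symm, hqy, hpy]
    exact Fin.ext hx0v.symm
  have hsmall : ∀ i ∈ orb R, i = one' ∨ edgeForest.lab i.val = 2 := by
    intro i hi
    by_cases h1 : i = one'
    · exact Or.inl h1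
    refine Or.inr ?_
    have hlab : Suz.forest.lab i.val = 2 := by
      obtain ⟨q, -, rfl⟩ := hi
      rw [lab_hPerm]; exact forest_one
    obtain ⟨l0, l5, -⟩ := edge_orbit i hlab
    by_contra h2
    obtain ⟨m, hm⟩ := hRK
    have hs := orb_card R
    rw [hRcard] at hs
    have h45 : (orb R).ncard * m = 45 := by
      rw [hm] at hs; rw [← Nat.mul_right_inj (show (4096 : ℕ) ≠ 0 by norm_num)]; ring_nf; ring_nf at hs; omega
    have hodd : Odd (orb R).ncard := by
      have : Odd ((orb R).ncard * m) := by rw [h45]; decide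
      exact (Nat.odd_mul.1 this).1
    have hdiv : 64 ∣ {j : Fin tab.n | ∃ q ∈ R ⊓ setStab caseA.pts, hPerm q i = j}.ncard := by
      refine orbit_two_part (a := 6) inf_le_right (s := (orb R).ncard) hs hodd i hlab ?_
      have hne1 : edgeForest.lab i.val ≠ 1 := fun h => h1 (lab_one_iff h)
      interval_cases edgeForest.lab i.val
      · exact absurd rfl hne1
      · exact absurd rfl h2
      · norm_num
      · norm_num
    have hsub : {j : Fin tab.n | ∃ q ∈ R ⊓ setStab caseA.pts, hPerm q i = j} ⊆ orb R := by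
      rintro _ ⟨q, hq, rfl⟩
      obtain ⟨r, hr, rfl⟩ := hi
      exact ⟨q * r, mul_mem hq.1 hr, by rw [map_mul, Equiv.Perm.mul_apply]⟩
    have hle := Set.ncard_le_ncard hsub (Set.toFinite _)
    have hne : 0 < {j : Fin tab.n | ∃ q ∈ R ⊓ setStab caseA.pts, hPerm q i = j}.ncard :=
      (Set.ncard_pos (Set.toFinite _)).2 ⟨i, 1, one_mem _, by simp⟩
    have := Nat.le_of_dvd hne hdiv
    have := Nat.le_of_dvd (by norm_num : 0 < 45) (Dvd.intro _ h45)
    omega
  have hone : one' ∈ orb R := ⟨1, one_mem _, by simp⟩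
  have hline : ∀ i ∈ orb R, i.val ∈ caseB.pts := by
    intro i hi
    rcases hsmall i hi with rfl | h2
    · rw [e7]; simp [one']
    by_cases hix : i = x0
    · rw [hix, hx0v, e7]; simp
    obtain ⟨q, hq, hqx⟩ := hx0R
    have hk : hPerm q⁻¹ i ∈ orb R := by
      obtain ⟨r, hr, rfl⟩ := hi
      exact ⟨q⁻¹ * r, mul_mem (inv_mem hq) hr, by rw [map_mul, Equiv.Perm.mul_apply]⟩
    have hne : hPerm q⁻¹ i ≠ one' := fun h => hix (by
      rw [← hqx, ← h, ← Equiv.Perm.mul_apply, ← map_mul, mul_inv_cancel, map_one,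
        Equiv.Perm.one_apply])
    have hlab2 := (hsmall _ hk).resolve_left hne
    set t := hEl nearWord with ht
    have hqt : q⁻¹ * t ∈ setStab caseA.pts := (move_one' (i := x0) rfl _).2 (by
      rw [map_inv, Equiv.Perm.inv_def, Equiv.symm_apply_eq]; exact hqx.symm)
    refine e6 i.val i.isLt h2 ?_
    rw [← hPerm_apply (fun g hg => e5 g (List.mem_reverse.1 hg)) i, hEl_reverse, ← ht,
      ← edge_inv hqt (hPerm t⁻¹ i), ← Equiv.Perm.mul_apply, ← map_mul, mul_inv_cancel_right]
    exact hlab2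
  -- the orbit is the whole line
  have hfive : orb R = {i : Fin tab.n | i.val ∈ caseB.pts} := by
    obtain ⟨m, hm⟩ := hRK
    have hs := orb_card R
    rw [hRcard] at hs
    have h45 : (orb R).ncard * m = 45 := by
      rw [hm] at hs; rw [← Nat.mul_right_inj (show (4096 : ℕ) ≠ 0 by norm_num)]; ring_nf; ring_nf at hs; omega
    refine Set.eq_of_subset_of_ncard_le hline ?_ (Set.toFinite _)
    have h5 : {i : Fin tab.n | i.val ∈ caseB.pts}.ncard ≤ 5 := by
      have h := Set.ncard_le_ncard_of_injOn (fun i : Fin tab.n => i.val)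
        (fun i hi => List.mem_toFinset.2 hi) Fin.val_injective.injOn
        (Finset.finite_toSet caseB.pts.toFinset)
      rw [Set.ncard_coe_finset] at h
      exact h.trans ((List.toFinset_card_le _).trans (by rw [e7]; simp))
    refine h5.trans ?_
    have hlab : Suz.forest.lab x0.val = 2 := by
      rw [hx0, lab_hPerm]; exact forest_one
    have hodd : Odd (orb R).ncard := by
      have : Odd ((orb R).ncard * m) := by rw [h45]; decide
      exact (Nat.odd_mul.1 this).1
    have hdiv : 4 ∣ {j : Fin tab.n | ∃ q ∈ R ⊓ setStab caseA.pts, hPerm q x0 = j}.ncard := by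
      refine orbit_two_part (a := 2) inf_le_right (s := (orb R).ncard) hs hodd x0 hlab ?_
      rw [hx0v, e3]; norm_num
    have hsub : insert one' {j : Fin tab.n | ∃ q ∈ R ⊓ setStab caseA.pts, hPerm q x0 = j} ⊆
        orb R := by
      rintro j (rfl | ⟨q, hq, rfl⟩)
      · exact hone
      · obtain ⟨r, hr, e⟩ := hx0R
        exact ⟨q * r, mul_mem hq.1 hr, by rw [map_mul, Equiv.Perm.mul_apply, e]⟩
    have hle := Set.ncard_le_ncard hsub (Set.toFinite _)
    rw [Set.ncard_insert_of_notMem ?_ (Set.toFinite _)] at hle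
    · have hne : ({j : Fin tab.n | ∃ q ∈ R ⊓ setStab caseA.pts, hPerm q x0 = j}).Nonempty :=
        ⟨x0, 1, one_mem _, by simp⟩
      have := Nat.le_of_dvd ((Set.ncard_pos (Set.toFinite _)).2 hne) hdiv
      omega
    · rintro ⟨q, hq, e⟩
      have h1 : x0 = one' := by
        apply (hPerm q).injective
        rw [e, mem_ptA.1 hq.2]
      have := congrArg Fin.val h1
      rw [hx0v] at this
      simp [one'] at this
  have hRB : ∀ h ∈ R, h ∈ setStab caseB.pts := by
    intro h hh
    rw [mem_setStab, move]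
    refine Finset.eq_of_subset_of_card_le (fun y hy => ?_) (by rw [Finset.card_map])
    obtain ⟨x, hx, rfl⟩ := Finset.mem_map.1 hy
    simp only [ptSet, Finset.mem_filter, Finset.mem_univ, true_and] at hx ⊢
    have : x ∈ orb R := by rw [hfive]; exact hx
    obtain ⟨q, hq, rfl⟩ := this
    have : hPerm (h * q) one' ∈ orb R := ⟨h * q, mul_mem hh hq, rfl⟩
    rw [hfive, map_mul, Equiv.Perm.mul_apply] at this
    exact this
  refine ⟨p * k0⁻¹, Or.inr (conjEq Q _ _ (fun h hh => hRB _ ((hRmem _).2 ((hQ'mem _).2 ?_))) ?_)⟩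
  · simpa [mul_assoc] using hh
  · have := caseB_ok.stab_le
    omega

theorem card_stabB_of {Q : Subgroup subH} (hQ : Q.index = 1365) {k : subH} {S : List ℕ}
    (h : ∀ x, x ∈ Q ↔ k * x * k⁻¹ ∈ setStab S) : Nat.card (setStab S) = 184320 := by
  have e : Q.map (MulAut.conj k).toMonoidHom = setStab S := by
    ext y
    rw [Subgroup.mem_map]
    constructor
    · rintro ⟨x, hx, rfl⟩
      simpa [MulAut.conj_apply] using (h x).1 hx
    · exact fun hy => ⟨k⁻¹ * y * k, (h _).2 (by simpa [mul_assoc] using hy),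
        by simp [MulAut.conj_apply, mul_assoc]⟩
  rw [← e, Subgroup.card_map_of_injective (MulAut.conj k).injective]
  have := Q.card_mul_index
  rw [hQ, card_subH] at this
  omega

end CfsgLib.SuzR3
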