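import Cfsg.Agent.Lib.SuzRank3.Tools

/-!
# Data of case A (generated)
-/

set_option autoImplicit false
set_option maxRecDepth 100000

namespace CfsgLib.SuzR3

/-- Words. -/
def caseALws0 : List (List ℕ) :=
  [[],
   [3],
   [4, 1, 2, 3, 2, 5, 1, 0, 2, 3, 1, 2, 0, 1, 2, 3, 5, 2],
   [3, 4, 1, 2, 3, 2, 5, 1, 0, 2, 3, 1, 2, 0, 1, 2, 3, 5, 2],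
   [4, 1, 2, 3, 2, 5, 1, 0, 2, 3, 1, 2, 0, 1, 2, 3, 5, 2, 3],
   [4, 1, 2, 3, 2, 5, 1, 0, 2, 3, 1, 2, 0, 1, 2, 3, 5, 2, 4, 1, 2, 3, 2, 5, 1, 0, 2, 3, 1, 2, 0, 1,
   2, 3, 5, 2],
   [3, 4, 1, 2, 3, 2, 5, 1, 0, 2, 3, 1, 2, 0, 1, 2, 3, 5, 2, 3],
   [3, 4, 1, 2, 3, 2, 5, 1, 0, 2, 3, 1, 2, 0, 1, 2, 3, 5, 2, 4, 1, 2, 3, 2, 5, 1, 0, 2, 3, 1, 2, 0,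
   1, 2, 3, 5, 2],
   [3, 2, 5, 3, 2, 1, 0, 2, 1, 3, 2, 0, 1, 5, 2, 3, 2, 1, 4, 3],
   [4, 1, 2, 3, 2, 5, 1, 0, 2, 3, 1, 2, 0, 1, 2, 3, 5, 2, 4, 1, 2, 3, 2, 5, 1, 0, 2, 3, 1, 2, 0, 1,
   2, 3, 5, 2, 3],
   [1, 2, 3, 2, 5, 1, 0, 2, 3, 1, 2, 0, 1, 2, 3, 5, 2, 4, 2, 5, 3, 2, 1, 0, 2, 1, 3, 2, 0, 1, 5, 2,
   3, 2, 1, 4],
   [2, 5, 3, 2, 1, 0, 2, 1, 3, 2, 0, 1, 5, 2, 3, 2, 1, 4, 3],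
   [3, 4, 1, 2, 3, 2, 5, 1, 0, 2, 3, 1, 2, 0, 1, 2, 3, 5, 2, 4, 1, 2, 3, 2, 5, 1, 0, 2, 3, 1, 2, 0,
   1, 2, 3, 5, 2, 3],
   [3, 1, 2, 3, 2, 5, 1, 0, 2, 3, 1, 2, 0, 1, 2, 3, 5, 2, 4, 2, 5, 3, 2, 1, 0, 2, 1, 3, 2, 0, 1, 5,
   2, 3, 2, 1, 4],
   [3, 2, 5, 3, 2, 1, 0, 2, 1, 3, 2, 0, 1, 5, 2, 3, 2, 1, 4],
   [1, 2, 3, 2, 5, 1, 0, 2, 3, 1, 2, 0, 1, 2, 3, 5, 2, 4, 2, 5, 3, 2, 1, 0, 2, 1, 3, 2, 0, 1, 5, 2,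
   3, 2, 1, 3, 4],
   [0, 1, 0, 5, 1, 0, 1, 4, 3, 2, 5, 3, 2, 1, 0, 2, 1, 3, 2, 0, 1, 5, 2, 3, 2, 1, 3, 4, 3],
   [1, 2, 3, 2, 5, 1, 0, 2, 3, 1, 2, 0, 1, 2, 3, 5, 2, 4, 2, 5, 3, 2, 1, 0, 2, 1, 3, 2, 0, 1, 5, 2,
   3, 2, 1, 4, 3],
   [1, 2, 3, 2, 5, 1, 0, 2, 3, 1, 2, 0, 1, 2, 3, 5, 2, 4],
   [2, 5, 3, 2, 1, 0, 2, 1, 3, 2, 0, 1, 5, 2, 3, 2, 1, 4],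
   [1, 2, 3, 2, 5, 1, 0, 2, 3, 1, 2, 0, 1, 2, 3, 5, 2, 3, 4, 3, 2, 5, 3, 2, 1, 0, 2, 1, 3, 2, 0, 1,
   5, 2, 3, 2, 1],
   [0, 1, 0, 5, 1, 0, 1, 3, 4, 3, 2, 5, 3, 2, 1, 0, 2, 1, 3, 2, 0, 1, 5, 2, 3, 2, 1, 3, 4, 3],
   [3, 1, 2, 3, 2, 5, 1, 0, 2, 3, 1, 2, 0, 1, 2, 3, 5, 2, 4, 2, 5, 3, 2, 1, 0, 2, 1, 3, 2, 0, 1, 5,
   2, 3, 2, 1, 4, 3],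
   [3, 1, 2, 3, 2, 5, 1, 0, 2, 3, 1, 2, 0, 1, 2, 3, 5, 2, 4],
   [1, 2, 3, 2, 5, 1, 0, 2, 3, 1, 2, 0, 1, 2, 3, 5, 2, 4, 2, 5, 3, 2, 1, 0, 2, 1, 3, 2, 0, 1, 5, 2,
   3, 2, 1, 3, 4, 3],
   [3, 4, 1, 2, 3, 2, 5, 1, 0, 2, 3, 1, 2, 0, 1, 2, 3, 5, 2, 3, 4, 3],
   [0, 1, 0, 5, 1, 0, 1, 4, 3, 2, 5, 3, 2, 1, 0, 2, 1, 3, 2, 0, 1, 5, 2, 3, 2, 1, 3, 4],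
   [1, 2, 3, 2, 5, 1, 0, 2, 3, 1, 2, 0, 1, 2, 3, 5, 2, 3, 4],
   [3, 4, 3, 1, 2, 3, 2, 5, 1, 0, 2, 3, 1, 2, 0, 1, 2, 3, 5, 2, 4],
   [1, 2, 3, 2, 5, 1, 0, 2, 3, 1, 2, 0, 1, 2, 3, 5, 2, 4, 3],
   [1, 0, 1, 5, 0, 1, 0],
   [4, 3, 1, 2, 3, 2, 5, 1, 0, 2, 3, 1, 2, 0, 1, 2, 3, 5, 2, 4, 2, 5, 3, 2, 1, 0, 2, 1, 3, 2, 0, 1,
   5, 2, 3, 2, 1],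
   [4, 1, 2, 3, 2, 5, 1, 0, 2, 3, 1, 2, 0, 1, 2, 3, 5, 2, 3, 4, 3],
   [0, 1, 0, 5, 1, 0, 1, 3, 4, 3, 2, 5, 3, 2, 1, 0, 2, 1, 3, 2, 0, 1, 5, 2, 3, 2, 1, 3, 4],
   [3, 1, 2, 3, 2, 5, 1, 0, 2, 3, 1, 2, 0, 1, 2, 3, 5, 2, 3, 4],
   [4, 3, 1, 2, 3, 2, 5, 1, 0, 2, 3, 1, 2, 0, 1, 2, 3, 5, 2, 4],
   [3, 1, 2, 3, 2, 5, 1, 0, 2, 3, 1, 2, 0, 1, 2, 3, 5, 2, 4, 3],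
   [1, 0, 1, 5, 0, 1, 0, 3],
   [3, 2, 5, 3, 2, 1, 0, 2, 1, 3, 2, 0, 1, 5, 2, 3, 2, 1, 4, 2, 5, 3, 2, 1, 0, 2, 1, 3, 2, 0, 1, 5,
   2, 3, 2, 1, 4, 3],
   [3, 4, 1, 2, 3, 2, 5, 1, 0, 2, 3, 1, 2, 0, 1, 2, 3, 5, 2, 3, 4],
   [4, 3, 2, 5, 3, 2, 1, 0, 2, 1, 3, 2, 0, 1, 5, 2, 3, 2, 1, 3, 4],
   [1, 2, 3, 2, 5, 1, 0, 2, 3, 1, 2, 0, 1, 2, 3, 5, 2, 3, 4, 3],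
   [3, 2, 5, 3, 2, 1, 0, 2, 1, 3, 2, 0, 1, 5, 2, 3, 2, 1, 3],
   [3, 4, 3, 1, 2, 3, 2, 5, 1, 0, 2, 3, 1, 2, 0, 1, 2, 3, 5, 2, 4, 3],
   [1, 0, 1, 5, 0, 1, 0, 3, 4, 3],
   [1, 2, 3, 2, 5, 1, 0, 2, 3, 1, 2, 0, 1, 2, 3, 5, 2, 3, 4, 3, 1, 2, 3, 2, 5, 1, 0, 2, 3, 1, 2, 0,
   1, 2, 3, 5, 2],
   [0, 1, 0, 5, 1, 0, 1, 4, 2, 5, 3, 2, 1, 0, 2, 1, 3, 2, 0, 1, 5, 2, 3, 2, 1],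
   [2, 5, 3, 2, 1, 0, 2, 1, 3, 2, 0, 1, 5, 2, 3, 2, 1, 4, 2, 5, 3, 2, 1, 0, 2, 1, 3, 2, 0, 1, 5, 2,
   3, 2, 1, 4, 3],
   [4, 1, 2, 3, 2, 5, 1, 0, 2, 3, 1, 2, 0, 1, 2, 3, 5, 2, 3, 4],
   [3, 4, 3, 2, 5, 3, 2, 1, 0, 2, 1, 3, 2, 0, 1, 5, 2, 3, 2, 1, 3, 4],
   [3, 1, 2, 3, 2, 5, 1, 0, 2, 3, 1, 2, 0, 1, 2, 3, 5, 2, 3, 4, 3],
   [2, 5, 3, 2, 1, 0, 2, 1, 3, 2, 0, 1, 5, 2, 3, 2, 1, 3],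
   [4, 3, 1, 2, 3, 2, 5, 1, 0, 2, 3, 1, 2, 0, 1, 2, 3, 5, 2, 4, 3],
   [1, 0, 1, 5, 0, 1, 0, 4, 3],
   [1, 2, 3, 2, 5, 1, 0, 2, 3, 1, 2, 0, 1, 2, 3, 5, 2, 4, 1, 2, 3, 2, 5, 1, 0, 2, 3, 1, 2, 0, 1, 2,
   3, 5, 2, 3, 4],
   [0, 1, 0, 5, 1, 0, 1, 3, 4, 2, 5, 3, 2, 1, 0, 2, 1, 3, 2, 0, 1, 5, 2, 3, 2, 1],
   [3, 2, 5, 3, 2, 1, 0, 2, 1, 3, 2, 0, 1, 5, 2, 3, 2, 1, 4, 2, 5, 3, 2, 1, 0, 2, 1, 3, 2, 0, 1, 5,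
   2, 3, 2, 1, 4],
   [4, 3, 2, 5, 3, 2, 1, 0, 2, 1, 3, 2, 0, 1, 5, 2, 3, 2, 1, 4],
   [3, 4, 3, 2, 5, 3, 2, 1, 0, 2, 1, 3, 2, 0, 1, 5, 2, 3, 2, 1, 3],
   [4, 3, 2, 5, 3, 2, 1, 0, 2, 1, 3, 2, 0, 1, 5, 2, 3, 2, 1, 3, 4, 3],
   [0, 1, 0, 5, 1, 0, 1, 4, 2, 5, 3, 2, 1, 0, 2, 1, 3, 2, 0, 1, 5, 2, 3, 2, 1, 3],
   [3, 4, 2, 5, 3, 2, 1, 0, 2, 1, 3, 2, 0, 1, 5, 2, 3, 2, 1, 3, 4],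
   [3, 2, 5, 3, 2, 1, 0, 2, 1, 3, 2, 0, 1, 5, 2, 3, 2, 1],
   [0, 1, 0, 5, 1, 0, 1, 3, 4, 3, 2, 5, 3, 2, 1, 0, 2, 1, 3, 2, 0, 1, 5, 2, 3, 2, 1, 4, 3]]

/-- Words. -/
def caseALws1 : List (List ℕ) :=
  [[1, 0, 1, 5, 0, 1, 0, 3, 4],
   [0, 1, 0, 5, 1, 0, 1, 4, 3, 2, 5, 3, 2, 1, 0, 2, 1, 3, 2, 0, 1, 5, 2, 3, 2, 1],
   [4, 3, 1, 2, 3, 2, 5, 1, 0, 2, 3, 1, 2, 0, 1, 2, 3, 5, 2, 4, 1, 2, 3, 2, 5, 1, 0, 2, 3, 1, 2, 0,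
   1, 2, 3, 5, 2],
   [0, 1, 0, 5, 1, 0, 1, 4, 2, 5, 3, 2, 1, 0, 2, 1, 3, 2, 0, 1, 5, 2, 3, 2, 1, 3, 4, 3],
   [4, 2, 5, 3, 2, 1, 0, 2, 1, 3, 2, 0, 1, 5, 2, 3, 2, 1, 4, 2, 5, 3, 2, 1, 0, 2, 1, 3, 2, 0, 1, 5,
   2, 3, 2, 1],
   [2, 5, 3, 2, 1, 0, 2, 1, 3, 2, 0, 1, 5, 2, 3, 2, 1, 4, 2, 5, 3, 2, 1, 0, 2, 1, 3, 2, 0, 1, 5, 2,
   3, 2, 1, 4],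
   [3, 4, 3, 2, 5, 3, 2, 1, 0, 2, 1, 3, 2, 0, 1, 5, 2, 3, 2, 1, 4],
   [4, 3, 2, 5, 3, 2, 1, 0, 2, 1, 3, 2, 0, 1, 5, 2, 3, 2, 1, 3],
   [3, 4, 3, 2, 5, 3, 2, 1, 0, 2, 1, 3, 2, 0, 1, 5, 2, 3, 2, 1, 3, 4, 3],
   [0, 1, 0, 5, 1, 0, 1, 3, 4, 2, 5, 3, 2, 1, 0, 2, 1, 3, 2, 0, 1, 5, 2, 3, 2, 1, 3],
   [4, 2, 5, 3, 2, 1, 0, 2, 1, 3, 2, 0, 1, 5, 2, 3, 2, 1, 3, 4],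
   [2, 5, 3, 2, 1, 0, 2, 1, 3, 2, 0, 1, 5, 2, 3, 2, 1],
   [0, 1, 0, 5, 1, 0, 1, 4, 3, 2, 5, 3, 2, 1, 0, 2, 1, 3, 2, 0, 1, 5, 2, 3, 2, 1, 4, 3],
   [1, 0, 1, 5, 0, 1, 0, 4],
   [0, 1, 0, 5, 1, 0, 1, 3, 4, 3, 2, 5, 3, 2, 1, 0, 2, 1, 3, 2, 0, 1, 5, 2, 3, 2, 1],
   [1, 2, 3, 2, 5, 1, 0, 2, 3, 1, 2, 0, 1, 2, 3, 5, 2, 4, 1, 2, 3, 2, 5, 1, 0, 2, 3, 1, 2, 0, 1, 2,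
   3, 5, 2, 3, 4, 3],
   [0, 1, 0, 5, 1, 0, 1, 3, 4, 2, 5, 3, 2, 1, 0, 2, 1, 3, 2, 0, 1, 5, 2, 3, 2, 1, 3, 4, 3],
   [3, 4, 2, 5, 3, 2, 1, 0, 2, 1, 3, 2, 0, 1, 5, 2, 3, 2, 1, 4, 2, 5, 3, 2, 1, 0, 2, 1, 3, 2, 0, 1,
   5, 2, 3, 2, 1],
   [4, 3, 2, 5, 3, 2, 1, 0, 2, 1, 3, 2, 0, 1, 5, 2, 3, 2, 1, 4, 3],
   [4, 3],
   [3, 4, 3, 2, 5, 3, 2, 1, 0, 2, 1, 3, 2, 0, 1, 5, 2, 3, 2, 1],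
   [0, 1, 0, 5, 1, 0, 1, 4, 2, 5, 3, 2, 1, 0, 2, 1, 3, 2, 0, 1, 5, 2, 3, 2, 1, 4, 3],
   [0, 1, 0, 5, 1, 0, 1, 2, 5, 3, 2, 1, 0, 2, 1, 3, 2, 0, 1, 5, 2, 3, 2, 1, 3, 4],
   [3, 4, 2, 5, 3, 2, 1, 0, 2, 1, 3, 2, 0, 1, 5, 2, 3, 2, 1, 3, 4, 3],
   [0, 1, 0, 5, 1, 0, 1, 3, 4, 3, 2, 5, 3, 2, 1, 0, 2, 1, 3, 2, 0, 1, 5, 2, 3, 2, 1, 3],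
   [3, 1, 2, 3, 2, 5, 1, 0, 2, 3, 1, 2, 0, 1, 2, 3, 5, 2, 4, 2, 5, 3, 2, 1, 0, 2, 1, 3, 2, 0, 1, 5,
   2, 3, 2, 1],
   [0, 1, 0, 5, 1, 0, 1, 3, 4, 3, 2, 5, 3, 2, 1, 0, 2, 1, 3, 2, 0, 1, 5, 2, 3, 2, 1, 4],
   [4, 2, 5, 3, 2, 1, 0, 2, 1, 3, 2, 0, 1, 5, 2, 3, 2, 1, 4, 2, 5, 3, 2, 1, 0, 2, 1, 3, 2, 0, 1, 5,
   2, 3, 2, 1, 3],
   [0, 1, 0, 5, 1, 0, 1, 3, 2, 5, 3, 2, 1, 0, 2, 1, 3, 2, 0, 1, 5, 2, 3, 2, 1],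
   [0, 1, 0, 5, 1, 0, 1, 4, 3, 2, 5, 3, 2, 1, 0, 2, 1, 3, 2, 0, 1, 5, 2, 3, 2, 1, 3],
   [4, 3, 2, 5, 3, 2, 1, 0, 2, 1, 3, 2, 0, 1, 5, 2, 3, 2, 1, 4, 2, 5, 3, 2, 1, 0, 2, 1, 3, 2, 0, 1,
   5, 2, 3, 2, 1],
   [0, 1, 0, 5, 1, 0, 1, 4, 2, 5, 3, 2, 1, 0, 2, 1, 3, 2, 0, 1, 5, 2, 3, 2, 1, 3, 4],
   [3, 4, 3, 1, 2, 3, 2, 5, 1, 0, 2, 3, 1, 2, 0, 1, 2, 3, 5, 2, 3, 4],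
   [1, 2, 3, 2, 5, 1, 0, 2, 3, 1, 2, 0, 1, 2, 3, 5, 2, 4, 1, 2, 3, 2, 5, 1, 0, 2, 3, 1, 2, 0, 1, 2,
   3, 5, 2, 4],
   [3, 4, 3, 2, 5, 3, 2, 1, 0, 2, 1, 3, 2, 0, 1, 5, 2, 3, 2, 1, 4, 3],
   [3, 4, 3],
   [4, 3, 2, 5, 3, 2, 1, 0, 2, 1, 3, 2, 0, 1, 5, 2, 3, 2, 1],
   [0, 1, 0, 5, 1, 0, 1, 3, 4, 2, 5, 3, 2, 1, 0, 2, 1, 3, 2, 0, 1, 5, 2, 3, 2, 1, 4, 3],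
   [0, 1, 0, 5, 1, 0, 1, 3, 2, 5, 3, 2, 1, 0, 2, 1, 3, 2, 0, 1, 5, 2, 3, 2, 1, 3, 4],
   [4, 2, 5, 3, 2, 1, 0, 2, 1, 3, 2, 0, 1, 5, 2, 3, 2, 1, 3, 4, 3],
   [1, 2, 3, 2, 5, 1, 0, 2, 3, 1, 2, 0, 1, 2, 3, 5, 2, 4, 2, 5, 3, 2, 1, 0, 2, 1, 3, 2, 0, 1, 5, 2,
   3, 2, 1],
   [0, 1, 0, 5, 1, 0, 1, 4, 3, 2, 5, 3, 2, 1, 0, 2, 1, 3, 2, 0, 1, 5, 2, 3, 2, 1, 4],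
   [3, 4, 2, 5, 3, 2, 1, 0, 2, 1, 3, 2, 0, 1, 5, 2, 3, 2, 1, 4, 2, 5, 3, 2, 1, 0, 2, 1, 3, 2, 0, 1,
   5, 2, 3, 2, 1, 3],
   [0, 1, 0, 5, 1, 0, 1, 2, 5, 3, 2, 1, 0, 2, 1, 3, 2, 0, 1, 5, 2, 3, 2, 1],
   [2, 5, 3, 2, 1, 0, 2, 1, 3, 2, 0, 1, 5, 2, 3, 2, 1, 4, 2, 5, 3, 2, 1, 0, 2, 1, 3, 2, 0, 1, 5, 2,
   3, 2, 1, 3, 4, 3],
   [0, 1, 0, 5, 1, 0, 1, 3, 4, 2, 5, 3, 2, 1, 0, 2, 1, 3, 2, 0, 1, 5, 2, 3, 2, 1, 3, 4],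
   [4, 3, 1, 2, 3, 2, 5, 1, 0, 2, 3, 1, 2, 0, 1, 2, 3, 5, 2, 3, 4],
   [3, 1, 2, 3, 2, 5, 1, 0, 2, 3, 1, 2, 0, 1, 2, 3, 5, 2, 4, 1, 2, 3, 2, 5, 1, 0, 2, 3, 1, 2, 0, 1,
   2, 3, 5, 2, 4],
   [3, 4, 1, 2, 3, 2, 5, 1, 0, 2, 3, 1, 2, 0, 1, 2, 3, 5, 2, 4, 2, 5, 3, 2, 1, 0, 2, 1, 3, 2, 0, 1,
   5, 2, 3, 2, 1, 3],
   [4],
   [3, 4, 3, 1, 2, 3, 2, 5, 1, 0, 2, 3, 1, 2, 0, 1, 2, 3, 5, 2],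
   [0, 1, 0, 5, 1, 0, 1, 4, 2, 5, 3, 2, 1, 0, 2, 1, 3, 2, 0, 1, 5, 2, 3, 2, 1, 4],
   [3, 2, 5, 3, 2, 1, 0, 2, 1, 3, 2, 0, 1, 5, 2, 3, 2, 1, 4, 2, 5, 3, 2, 1, 0, 2, 1, 3, 2, 0, 1, 5,
   2, 3, 2, 1, 3],
   [0, 1, 0, 5, 1, 0, 1, 2, 5, 3, 2, 1, 0, 2, 1, 3, 2, 0, 1, 5, 2, 3, 2, 1, 3, 4, 3],
   [3, 1, 2, 3, 2, 5, 1, 0, 2, 3, 1, 2, 0, 1, 2, 3, 5, 2, 3],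
   [4, 1, 2, 3, 2, 5, 1, 0, 2, 3, 1, 2, 0, 1, 2, 3, 5, 2, 4, 3],
   [3, 1, 2, 3, 2, 5, 1, 0, 2, 3, 1, 2, 0, 1, 2, 3, 5, 2, 4, 2, 5, 3, 2, 1, 0, 2, 1, 3, 2, 0, 1, 5,
   2, 3, 2, 1, 3],
   [3, 4, 2, 5, 3, 2, 1, 0, 2, 1, 3, 2, 0, 1, 5, 2, 3, 2, 1, 4, 2, 5, 3, 2, 1, 0, 2, 1, 3, 2, 0, 1,
   5, 2, 3, 2, 1, 4],
   [0, 1, 0, 5, 1, 0, 1, 3, 4, 3],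
   [0, 1, 0, 5, 1, 0, 1, 3, 2, 5, 3, 2, 1, 0, 2, 1, 3, 2, 0, 1, 5, 2, 3, 2, 1, 3],
   [3, 2, 5, 3, 2, 1, 0, 2, 1, 3, 2, 0, 1, 5, 2, 3, 2, 1, 4, 2, 5, 3, 2, 1, 0, 2, 1, 3, 2, 0, 1, 5,
   2, 3, 2, 1],
   [3, 4, 1, 2, 3, 2, 5, 1, 0, 2, 3, 1, 2, 0, 1, 2, 3, 5, 2, 4, 3],
   [2, 5, 3, 2, 1, 0, 2, 1, 3, 2, 0, 1, 5, 2, 3, 2, 1, 3, 4, 3, 2, 5, 3, 2, 1, 0, 2, 1, 3, 2, 0, 1,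
   5, 2, 3, 2, 1],
   [1, 2, 3, 2, 5, 1, 0, 2, 3, 1, 2, 0, 1, 2, 3, 5, 2, 4, 1, 2, 3, 2, 5, 1, 0, 2, 3, 1, 2, 0, 1, 2,
   3, 5, 2, 4, 3]]

/-- Words. -/
def caseALws2 : List (List ℕ) :=
  [[4, 3, 1, 2, 3, 2, 5, 1, 0, 2, 3, 1, 2, 0, 1, 2, 3, 5, 2, 3],
   [3, 4, 3, 1, 2, 3, 2, 5, 1, 0, 2, 3, 1, 2, 0, 1, 2, 3, 5, 2, 3, 4, 3],
   [3, 4, 2, 5, 3, 2, 1, 0, 2, 1, 3, 2, 0, 1, 5, 2, 3, 2, 1, 3],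
   [0, 1, 0, 5, 1, 0, 1, 2, 5, 3, 2, 1, 0, 2, 1, 3, 2, 0, 1, 5, 2, 3, 2, 1, 4],
   [4, 1, 2, 3, 2, 5, 1, 0, 2, 3, 1, 2, 0, 1, 2, 3, 5, 2, 4, 2, 5, 3, 2, 1, 0, 2, 1, 3, 2, 0, 1, 5,
   2, 3, 2, 1, 3],
   [3, 4],
   [4, 3, 1, 2, 3, 2, 5, 1, 0, 2, 3, 1, 2, 0, 1, 2, 3, 5, 2],
   [0, 1, 0, 5, 1, 0, 1, 3, 4, 2, 5, 3, 2, 1, 0, 2, 1, 3, 2, 0, 1, 5, 2, 3, 2, 1, 4],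
   [2, 5, 3, 2, 1, 0, 2, 1, 3, 2, 0, 1, 5, 2, 3, 2, 1, 4, 2, 5, 3, 2, 1, 0, 2, 1, 3, 2, 0, 1, 5, 2,
   3, 2, 1, 3],
   [0, 1, 0, 5, 1, 0, 1, 3, 2, 5, 3, 2, 1, 0, 2, 1, 3, 2, 0, 1, 5, 2, 3, 2, 1, 3, 4, 3],
   [1, 2, 3, 2, 5, 1, 0, 2, 3, 1, 2, 0, 1, 2, 3, 5, 2, 3],
   [1, 2, 3, 2, 5, 1, 0, 2, 3, 1, 2, 0, 1, 2, 3, 5, 2, 4, 2, 5, 3, 2, 1, 0, 2, 1, 3, 2, 0, 1, 5, 2,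
   3, 2, 1, 3],
   [4, 2, 5, 3, 2, 1, 0, 2, 1, 3, 2, 0, 1, 5, 2, 3, 2, 1, 4, 2, 5, 3, 2, 1, 0, 2, 1, 3, 2, 0, 1, 5,
   2, 3, 2, 1, 4],
   [0, 1, 0, 5, 1, 0, 1, 4, 3],
   [0, 1, 0, 5, 1, 0, 1, 2, 5, 3, 2, 1, 0, 2, 1, 3, 2, 0, 1, 5, 2, 3, 2, 1, 3],
   [2, 5, 3, 2, 1, 0, 2, 1, 3, 2, 0, 1, 5, 2, 3, 2, 1, 4, 2, 5, 3, 2, 1, 0, 2, 1, 3, 2, 0, 1, 5, 2,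
   3, 2, 1],
   [2, 5, 3, 2, 1, 0, 2, 1, 3, 2, 0, 1, 5, 2, 3, 2, 1, 4, 2, 5, 3, 2, 1, 0, 2, 1, 3, 2, 0, 1, 5, 2,
   3, 2, 1, 3, 4],
   [3, 1, 2, 3, 2, 5, 1, 0, 2, 3, 1, 2, 0, 1, 2, 3, 5, 2, 4, 1, 2, 3, 2, 5, 1, 0, 2, 3, 1, 2, 0, 1,
   2, 3, 5, 2, 4, 3],
   [3, 4, 3, 1, 2, 3, 2, 5, 1, 0, 2, 3, 1, 2, 0, 1, 2, 3, 5, 2, 3],
   [4, 3, 1, 2, 3, 2, 5, 1, 0, 2, 3, 1, 2, 0, 1, 2, 3, 5, 2, 3, 4, 3],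
   [4, 2, 5, 3, 2, 1, 0, 2, 1, 3, 2, 0, 1, 5, 2, 3, 2, 1, 3],
   [0, 1, 0, 5, 1, 0, 1, 3, 2, 5, 3, 2, 1, 0, 2, 1, 3, 2, 0, 1, 5, 2, 3, 2, 1, 4],
   [3, 4, 1, 2, 3, 2, 5, 1, 0, 2, 3, 1, 2, 0, 1, 2, 3, 5, 2, 4, 2, 5, 3, 2, 1, 0, 2, 1, 3, 2, 0, 1,
   5, 2, 3, 2, 1],
   [1, 2, 3, 2, 5, 1, 0, 2, 3, 1, 2, 0, 1, 2, 3, 5, 2],
   [0, 1, 0, 5, 1, 0, 1, 4],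
   [2, 5, 3, 2, 1, 0, 2, 1, 3, 2, 0, 1, 5, 2, 3, 2, 1, 3, 4, 3],
   [3, 1, 2, 3, 2, 5, 1, 0, 2, 3, 1, 2, 0, 1, 2, 3, 5, 2],
   [4, 1, 2, 3, 2, 5, 1, 0, 2, 3, 1, 2, 0, 1, 2, 3, 5, 2, 4],
   [3, 1, 2, 3, 2, 5, 1, 0, 2, 3, 1, 2, 0, 1, 2, 3, 5, 2, 4, 1, 2, 3, 2, 5, 1, 0, 2, 3, 1, 2, 0, 1,
   2, 3, 5, 2, 3],
   [3, 4, 2, 5, 3, 2, 1, 0, 2, 1, 3, 2, 0, 1, 5, 2, 3, 2, 1, 4],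
   [0, 1, 0, 5, 1, 0, 1, 3, 4],
   [3, 4, 1, 2, 3, 2, 5, 1, 0, 2, 3, 1, 2, 0, 1, 2, 3, 5, 2, 4, 1, 2, 3, 2, 5, 1, 0, 2, 3, 1, 2, 0,
   1, 2, 3, 5, 2, 4],
   [3, 4, 1, 2, 3, 2, 5, 1, 0, 2, 3, 1, 2, 0, 1, 2, 3, 5, 2, 4],
   [1, 2, 3, 2, 5, 1, 0, 2, 3, 1, 2, 0, 1, 2, 3, 5, 2, 4, 1, 2, 3, 2, 5, 1, 0, 2, 3, 1, 2, 0, 1, 2,
   3, 5, 2, 3],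
   [3, 4, 2, 5, 3, 2, 1, 0, 2, 1, 3, 2, 0, 1, 5, 2, 3, 2, 1, 4, 3],
   [3, 2, 5, 3, 2, 1, 0, 2, 1, 3, 2, 0, 1, 5, 2, 3, 2, 1, 3, 4],
   [3, 4, 2, 5, 3, 2, 1, 0, 2, 1, 3, 2, 0, 1, 5, 2, 3, 2, 1],
   [0, 1, 0, 5, 1, 0, 1, 2, 5, 3, 2, 1, 0, 2, 1, 3, 2, 0, 1, 5, 2, 3, 2, 1, 4, 3],
   [0, 1, 0, 5, 1, 0, 1],
   [4, 1, 2, 3, 2, 5, 1, 0, 2, 3, 1, 2, 0, 1, 2, 3, 5, 2, 4, 2, 5, 3, 2, 1, 0, 2, 1, 3, 2, 0, 1, 5,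
   2, 3, 2, 1],
   [3, 2, 5, 3, 2, 1, 0, 2, 1, 3, 2, 0, 1, 5, 2, 3, 2, 1, 3, 4, 3],
   [4, 2, 5, 3, 2, 1, 0, 2, 1, 3, 2, 0, 1, 5, 2, 3, 2, 1, 4],
   [4, 1, 2, 3, 2, 5, 1, 0, 2, 3, 1, 2, 0, 1, 2, 3, 5, 2, 4, 1, 2, 3, 2, 5, 1, 0, 2, 3, 1, 2, 0, 1,
   2, 3, 5, 2, 4],
   [4, 2, 5, 3, 2, 1, 0, 2, 1, 3, 2, 0, 1, 5, 2, 3, 2, 1, 4, 3],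
   [2, 5, 3, 2, 1, 0, 2, 1, 3, 2, 0, 1, 5, 2, 3, 2, 1, 3, 4],
   [4, 2, 5, 3, 2, 1, 0, 2, 1, 3, 2, 0, 1, 5, 2, 3, 2, 1],
   [0, 1, 0, 5, 1, 0, 1, 3, 2, 5, 3, 2, 1, 0, 2, 1, 3, 2, 0, 1, 5, 2, 3, 2, 1, 4, 3],
   [0, 1, 0, 5, 1, 0, 1, 3],
   [1, 2, 3, 2, 5, 1, 0, 2, 3, 1, 2, 0, 1, 2, 3, 5, 2, 4, 1, 2, 3, 2, 5, 1, 0, 2, 3, 1, 2, 0, 1, 2,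
   3, 5, 2],
   [3, 1, 2, 3, 2, 5, 1, 0, 2, 3, 1, 2, 0, 1, 2, 3, 5, 2, 4, 1, 2, 3, 2, 5, 1, 0, 2, 3, 1, 2, 0, 1,
   2, 3, 5, 2],
   [4, 1, 2, 3, 2, 5, 1, 0, 2, 3, 1, 2, 0, 1, 2, 3, 5, 2, 4, 2, 5, 3, 2, 1, 0, 2, 1, 3, 2, 0, 1, 5,
   2, 3, 2, 1, 4],
   [3, 4, 1, 2, 3, 2, 5, 1, 0, 2, 3, 1, 2, 0, 1, 2, 3, 5, 2, 4, 2, 5, 3, 2, 1, 0, 2, 1, 3, 2, 0, 1,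
   5, 2, 3, 2, 1, 4]]

/-- Words. -/
def caseALws : List (List ℕ) :=
  caseALws0 ++
  caseALws1 ++
  caseALws2

/-- Words. -/
def caseAEws0 : List (List ℕ) :=
  [[],
   [0],
   [1],
   [0, 1],
   [1, 0],
   [1, 1],
   [0, 1, 0],
   [0, 1, 1],
   [1, 0, 1],
   [1, 1, 0],
   [1, 1, 1],
   [0, 1, 0, 1],
   [0, 1, 1, 0],
   [0, 1, 1, 1],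
   [1, 0, 1, 0],
   [1, 0, 1, 1],
   [1, 1, 0, 1],
   [1, 1, 1, 0],
   [1, 1, 1, 1],
   [0, 1, 0, 1, 0],
   [0, 1, 0, 1, 1],
   [0, 1, 1, 0, 1],
   [0, 1, 1, 1, 0],
   [0, 1, 1, 1, 1],
   [1, 0, 1, 1, 0],
   [1, 0, 1, 1, 1],
   [1, 1, 0, 1, 0],
   [1, 1, 0, 1, 1],
   [1, 1, 1, 0, 1],
   [1, 1, 1, 1, 0],
   [1, 1, 1, 1, 1],
   [0, 1, 0, 1, 1, 0],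
   [0, 1, 0, 1, 1, 1],
   [0, 1, 1, 0, 1, 0],
   [0, 1, 1, 0, 1, 1],
   [0, 1, 1, 1, 0, 1],
   [0, 1, 1, 1, 1, 0],
   [0, 1, 1, 1, 1, 1],
   [1, 0, 1, 1, 0, 1],
   [1, 0, 1, 1, 1, 0],
   [1, 0, 1, 1, 1, 1],
   [1, 1, 0, 1, 1, 0],
   [1, 1, 0, 1, 1, 1],
   [1, 1, 1, 0, 1, 0],
   [1, 1, 1, 0, 1, 1],
   [1, 1, 1, 1, 0, 1],
   [1, 1, 1, 1, 1, 1],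
   [0, 1, 0, 1, 1, 0, 1],
   [0, 1, 0, 1, 1, 1, 0],
   [0, 1, 0, 1, 1, 1, 1],
   [0, 1, 1, 0, 1, 1, 0],
   [0, 1, 1, 0, 1, 1, 1],
   [0, 1, 1, 1, 0, 1, 0],
   [0, 1, 1, 1, 0, 1, 1],
   [0, 1, 1, 1, 1, 0, 1],
   [0, 1, 1, 1, 1, 1, 1],
   [1, 0, 1, 1, 0, 1, 0],
   [1, 0, 1, 1, 0, 1, 1],
   [1, 0, 1, 1, 1, 0, 1],
   [1, 0, 1, 1, 1, 1, 0],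
   [1, 0, 1, 1, 1, 1, 1],
   [1, 1, 0, 1, 1, 0, 1],
   [1, 1, 0, 1, 1, 1, 0],
   [1, 1, 0, 1, 1, 1, 1]]

/-- Words. -/
def caseAEws1 : List (List ℕ) :=
  [[1, 1, 1, 0, 1, 1, 0],
   [1, 1, 1, 0, 1, 1, 1],
   [1, 1, 1, 1, 0, 1, 0],
   [1, 1, 1, 1, 0, 1, 1],
   [1, 1, 1, 1, 1, 1, 1],
   [0, 1, 0, 1, 1, 0, 1, 0],
   [0, 1, 0, 1, 1, 0, 1, 1],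
   [0, 1, 0, 1, 1, 1, 0, 1],
   [0, 1, 0, 1, 1, 1, 1, 0],
   [0, 1, 0, 1, 1, 1, 1, 1],
   [0, 1, 1, 0, 1, 1, 0, 1],
   [0, 1, 1, 0, 1, 1, 1, 0],
   [0, 1, 1, 0, 1, 1, 1, 1],
   [0, 1, 1, 1, 0, 1, 1, 0],
   [0, 1, 1, 1, 0, 1, 1, 1],
   [0, 1, 1, 1, 1, 0, 1, 0],
   [0, 1, 1, 1, 1, 0, 1, 1],
   [0, 1, 1, 1, 1, 1, 1, 1],
   [1, 0, 1, 1, 0, 1, 1, 0],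
   [1, 0, 1, 1, 0, 1, 1, 1],
   [1, 0, 1, 1, 1, 0, 1, 0],
   [1, 0, 1, 1, 1, 0, 1, 1],
   [1, 0, 1, 1, 1, 1, 0, 1],
   [1, 1, 0, 1, 1, 0, 1, 0],
   [1, 1, 0, 1, 1, 0, 1, 1],
   [1, 1, 0, 1, 1, 1, 0, 1],
   [1, 1, 0, 1, 1, 1, 1, 0],
   [1, 1, 0, 1, 1, 1, 1, 1],
   [1, 1, 1, 0, 1, 1, 0, 1],
   [1, 1, 1, 0, 1, 1, 1, 0],
   [1, 1, 1, 0, 1, 1, 1, 1],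
   [1, 1, 1, 1, 0, 1, 1, 0],
   [1, 1, 1, 1, 0, 1, 1, 1],
   [1, 1, 1, 1, 1, 1, 1, 1],
   [0, 1, 0, 1, 1, 0, 1, 1, 0],
   [0, 1, 0, 1, 1, 0, 1, 1, 1],
   [0, 1, 0, 1, 1, 1, 0, 1, 0],
   [0, 1, 0, 1, 1, 1, 0, 1, 1],
   [0, 1, 0, 1, 1, 1, 1, 0, 1],
   [0, 1, 1, 0, 1, 1, 0, 1, 0],
   [0, 1, 1, 0, 1, 1, 1, 0, 1],
   [0, 1, 1, 0, 1, 1, 1, 1, 0],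
   [0, 1, 1, 0, 1, 1, 1, 1, 1],
   [0, 1, 1, 1, 0, 1, 1, 0, 1],
   [0, 1, 1, 1, 0, 1, 1, 1, 1],
   [0, 1, 1, 1, 1, 0, 1, 1, 0],
   [0, 1, 1, 1, 1, 0, 1, 1, 1],
   [0, 1, 1, 1, 1, 1, 1, 1, 1],
   [1, 0, 1, 1, 0, 1, 1, 0, 1],
   [1, 0, 1, 1, 0, 1, 1, 1, 0],
   [1, 0, 1, 1, 0, 1, 1, 1, 1],
   [1, 0, 1, 1, 1, 0, 1, 1, 0],
   [1, 0, 1, 1, 1, 0, 1, 1, 1],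
   [1, 0, 1, 1, 1, 1, 0, 1, 0],
   [1, 0, 1, 1, 1, 1, 0, 1, 1],
   [1, 1, 0, 1, 1, 0, 1, 1, 1],
   [1, 1, 0, 1, 1, 1, 0, 1, 0],
   [1, 1, 0, 1, 1, 1, 0, 1, 1],
   [1, 1, 0, 1, 1, 1, 1, 0, 1],
   [1, 1, 1, 0, 1, 1, 0, 1, 0],
   [1, 1, 1, 0, 1, 1, 0, 1, 1],
   [1, 1, 1, 0, 1, 1, 1, 0, 1],
   [1, 1, 1, 0, 1, 1, 1, 1, 0],
   [1, 1, 1, 0, 1, 1, 1, 1, 1]]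

/-- Words. -/
def caseAEws2 : List (List ℕ) :=
  [[1, 1, 1, 1, 0, 1, 1, 0, 1],
   [1, 1, 1, 1, 0, 1, 1, 1, 0],
   [1, 1, 1, 1, 0, 1, 1, 1, 1],
   [1, 1, 1, 1, 1, 1, 1, 1, 1],
   [0, 1, 0, 1, 1, 0, 1, 1, 0, 1],
   [0, 1, 0, 1, 1, 0, 1, 1, 1, 0],
   [0, 1, 0, 1, 1, 0, 1, 1, 1, 1],
   [0, 1, 0, 1, 1, 1, 0, 1, 1, 0],
   [0, 1, 0, 1, 1, 1, 0, 1, 1, 1],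
   [0, 1, 0, 1, 1, 1, 1, 0, 1, 0],
   [0, 1, 0, 1, 1, 1, 1, 0, 1, 1],
   [0, 1, 1, 0, 1, 1, 1, 0, 1, 0],
   [0, 1, 1, 0, 1, 1, 1, 0, 1, 1],
   [0, 1, 1, 0, 1, 1, 1, 1, 0, 1],
   [0, 1, 1, 1, 0, 1, 1, 0, 1, 0],
   [0, 1, 1, 1, 0, 1, 1, 0, 1, 1],
   [0, 1, 1, 1, 0, 1, 1, 1, 1, 0],
   [0, 1, 1, 1, 0, 1, 1, 1, 1, 1],
   [0, 1, 1, 1, 1, 0, 1, 1, 0, 1],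
   [0, 1, 1, 1, 1, 0, 1, 1, 1, 0],
   [0, 1, 1, 1, 1, 0, 1, 1, 1, 1],
   [0, 1, 1, 1, 1, 1, 1, 1, 1, 1],
   [1, 0, 1, 1, 0, 1, 1, 0, 1, 0],
   [1, 0, 1, 1, 0, 1, 1, 1, 0, 1],
   [1, 0, 1, 1, 1, 0, 1, 1, 0, 1],
   [1, 0, 1, 1, 1, 0, 1, 1, 1, 1],
   [1, 0, 1, 1, 1, 1, 0, 1, 1, 0],
   [1, 1, 0, 1, 1, 0, 1, 1, 1, 0],
   [1, 1, 0, 1, 1, 0, 1, 1, 1, 1],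
   [1, 1, 0, 1, 1, 1, 0, 1, 1, 1],
   [1, 1, 0, 1, 1, 1, 1, 0, 1, 0],
   [1, 1, 1, 0, 1, 1, 0, 1, 1, 1],
   [1, 1, 1, 0, 1, 1, 1, 0, 1, 0],
   [1, 1, 1, 0, 1, 1, 1, 0, 1, 1],
   [1, 1, 1, 1, 0, 1, 1, 0, 1, 1],
   [1, 1, 1, 1, 0, 1, 1, 1, 0, 1],
   [1, 1, 1, 1, 0, 1, 1, 1, 1, 0],
   [1, 1, 1, 1, 0, 1, 1, 1, 1, 1],
   [1, 1, 1, 1, 1, 1, 1, 1, 1, 1],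
   [0, 1, 0, 1, 1, 0, 1, 1, 0, 1, 0],
   [0, 1, 0, 1, 1, 1, 0, 1, 1, 1, 1],
   [0, 1, 1, 0, 1, 1, 1, 0, 1, 1, 1],
   [0, 1, 1, 1, 0, 1, 1, 0, 1, 1, 1],
   [0, 1, 1, 1, 1, 0, 1, 1, 0, 1, 1],
   [0, 1, 1, 1, 1, 0, 1, 1, 1, 0, 1],
   [0, 1, 1, 1, 1, 0, 1, 1, 1, 1, 0],
   [0, 1, 1, 1, 1, 0, 1, 1, 1, 1, 1],
   [0, 1, 1, 1, 1, 1, 1, 1, 1, 1, 1],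
   [1, 0, 1, 1, 0, 1, 1, 1, 0, 1, 1],
   [1, 0, 1, 1, 1, 1, 0, 1, 1, 0, 1],
   [1, 0, 1, 1, 0, 1, 1, 1, 0, 1, 1, 1],
   [1, 0, 1, 1, 1, 1, 0, 1, 1, 0, 1, 1]]

/-- Words. -/
def caseAEws : List (List ℕ) :=
  caseAEws0 ++
  caseAEws1 ++
  caseAEws2

/-- Words. -/
def caseAImgs0 : List (List ℕ) :=
  [[],
   [1],
   [1, 0],
   [1, 2],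
   [1, 5],
   [1, 0, 1],
   [1, 0, 2],
   [1, 2, 3],
   [1, 2, 5],
   [1, 0, 1, 2],
   [1, 0, 2, 1],
   [1, 0, 2, 3],
   [1, 2, 3, 2],
   [1, 2, 3, 4],
   [1, 2, 3, 5],
   [1, 2, 5, 1],
   [1, 0, 1, 2, 1],
   [1, 0, 1, 2, 3],
   [1, 0, 2, 1, 0],
   [1, 0, 2, 1, 3],
   [1, 0, 2, 1, 5],
   [1, 0, 1, 2, 1, 0],
   [1, 0, 2, 3, 2],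
   [1, 0, 2, 3, 4],
   [1, 2, 3, 2, 1],
   [1, 2, 3, 2, 4],
   [1, 2, 3, 2, 5],
   [1, 2, 3, 4, 5],
   [1, 2, 3, 5, 1],
   [1, 0, 2, 1, 0, 1],
   [1, 0, 1, 2, 1, 3],
   [1, 0, 1, 2, 1, 5],
   [1, 0, 1, 2, 3, 2],
   [1, 0, 1, 2, 3, 4],
   [1, 0, 2, 1, 0, 3],
   [1, 0, 2, 1, 0, 5],
   [1, 0, 2, 1, 3, 2],
   [1, 0, 2, 1, 3, 4],
   [1, 0, 2, 1, 3, 5],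
   [1, 0, 1, 2, 1, 0, 3],
   [1, 0, 1, 2, 1, 0, 5],
   [1, 0, 2, 3, 2, 1],
   [1, 0, 2, 3, 2, 4],
   [1, 2, 3, 2, 1, 0],
   [1, 2, 3, 2, 1, 4],
   [1, 2, 3, 2, 1, 5],
   [1, 2, 3, 2, 4, 3],
   [1, 2, 3, 2, 4, 5],
   [1, 2, 3, 2, 5, 1],
   [1, 2, 3, 4, 5, 1],
   [1, 2, 3, 5, 1, 2],
   [1, 0, 1, 2, 1, 3, 2],
   [1, 0, 1, 2, 1, 3, 4],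
   [1, 0, 1, 2, 1, 3, 5],
   [1, 0, 1, 2, 3, 2, 1],
   [1, 0, 1, 2, 3, 2, 4],
   [1, 0, 2, 1, 0, 3, 4],
   [1, 0, 2, 1, 0, 3, 5],
   [1, 0, 2, 1, 3, 2, 1],
   [1, 0, 2, 1, 3, 2, 3],
   [1, 0, 2, 1, 3, 2, 4],
   [1, 0, 2, 1, 3, 2, 5],
   [1, 2, 3, 2, 1, 0, 1],
   [1, 0, 2, 1, 3, 4, 5]]

/-- Words. -/
def caseAImgs1 : List (List ℕ) :=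
  [[1, 0, 1, 2, 1, 0, 3, 4],
   [1, 0, 1, 2, 1, 0, 3, 5],
   [1, 0, 1, 2, 1, 0, 5, 1],
   [1, 0, 2, 3, 2, 1, 0],
   [1, 0, 2, 3, 2, 1, 4],
   [1, 0, 2, 3, 2, 1, 5],
   [1, 0, 2, 3, 2, 4, 3],
   [1, 2, 3, 2, 1, 0, 4],
   [1, 2, 3, 2, 1, 0, 5],
   [1, 2, 3, 2, 1, 4, 3],
   [1, 2, 3, 2, 1, 4, 5],
   [1, 2, 3, 2, 1, 5, 1],
   [1, 2, 3, 2, 4, 3, 2],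
   [1, 2, 3, 2, 4, 3, 5],
   [1, 2, 3, 2, 4, 5, 1],
   [1, 2, 3, 4, 5, 1, 2],
   [1, 0, 1, 2, 1, 3, 2, 1],
   [1, 0, 1, 2, 1, 3, 2, 4],
   [1, 0, 1, 2, 1, 3, 2, 5],
   [1, 0, 1, 2, 1, 3, 4, 5],
   [1, 0, 1, 2, 3, 2, 1, 4],
   [1, 0, 1, 2, 3, 2, 1, 5],
   [1, 0, 1, 2, 3, 2, 4, 3],
   [1, 0, 2, 1, 0, 3, 4, 5],
   [1, 0, 2, 1, 3, 2, 1, 0],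
   [1, 0, 2, 1, 3, 2, 1, 3],
   [1, 0, 2, 1, 3, 2, 1, 4],
   [1, 0, 2, 1, 3, 2, 1, 5],
   [1, 0, 2, 1, 3, 2, 3, 2],
   [1, 0, 2, 1, 3, 2, 3, 4],
   [1, 0, 2, 1, 3, 2, 3, 5],
   [1, 0, 2, 1, 3, 2, 4, 3],
   [1, 0, 2, 1, 3, 2, 4, 5],
   [1, 2, 3, 2, 1, 0, 1, 4],
   [1, 0, 2, 1, 3, 2, 5, 1],
   [1, 2, 3, 2, 1, 0, 1, 5],
   [1, 0, 1, 2, 1, 0, 3, 4, 5],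
   [1, 0, 1, 2, 1, 0, 3, 5, 1],
   [1, 0, 2, 3, 2, 1, 0, 4],
   [1, 0, 2, 3, 2, 1, 0, 5],
   [1, 0, 2, 3, 2, 1, 4, 3],
   [1, 0, 2, 3, 2, 1, 4, 5],
   [1, 0, 2, 3, 2, 4, 3, 2],
   [1, 2, 3, 2, 1, 0, 4, 3],
   [1, 2, 3, 2, 1, 0, 4, 5],
   [1, 2, 3, 2, 1, 0, 5, 1],
   [1, 2, 3, 2, 1, 4, 3, 2],
   [1, 2, 3, 2, 1, 4, 3, 5],
   [1, 2, 3, 2, 1, 4, 5, 1],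
   [1, 2, 3, 2, 4, 3, 2, 1],
   [1, 2, 3, 2, 4, 3, 2, 5],
   [1, 2, 3, 2, 4, 3, 5, 1],
   [1, 0, 1, 2, 1, 3, 2, 1, 4],
   [1, 0, 1, 2, 1, 3, 2, 1, 5],
   [1, 0, 1, 2, 1, 3, 2, 4, 3],
   [1, 0, 1, 2, 1, 3, 2, 4, 5],
   [1, 0, 1, 2, 1, 3, 2, 5, 1],
   [1, 0, 1, 2, 3, 2, 1, 4, 3],
   [1, 0, 1, 2, 3, 2, 1, 4, 5],
   [1, 0, 2, 1, 3, 2, 3, 2, 5],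
   [1, 0, 1, 2, 3, 2, 4, 3, 2],
   [1, 0, 2, 1, 3, 2, 1, 0, 1],
   [1, 0, 2, 1, 3, 2, 1, 0, 4],
   [1, 0, 2, 1, 3, 2, 1, 0, 5]]

/-- Words. -/
def caseAImgs2 : List (List ℕ) :=
  [[1, 0, 2, 1, 3, 2, 1, 3, 4],
   [1, 0, 2, 1, 3, 2, 1, 3, 5],
   [1, 0, 2, 1, 3, 2, 1, 4, 3],
   [1, 0, 2, 1, 3, 2, 1, 4, 5],
   [1, 0, 2, 1, 3, 2, 1, 5, 1],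
   [1, 0, 2, 1, 3, 2, 3, 2, 4],
   [1, 0, 2, 1, 3, 2, 3, 4, 3],
   [1, 0, 2, 1, 3, 2, 3, 4, 5],
   [1, 0, 2, 1, 3, 2, 3, 5, 1],
   [1, 0, 2, 1, 3, 2, 4, 3, 2],
   [1, 0, 2, 1, 3, 2, 4, 3, 5],
   [1, 2, 3, 2, 1, 0, 1, 4, 3],
   [1, 0, 2, 1, 3, 2, 4, 5, 1],
   [1, 2, 3, 2, 1, 0, 1, 4, 5],
   [1, 0, 2, 1, 3, 2, 5, 1, 0],
   [1, 0, 2, 1, 3, 2, 3, 5, 1, 0],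
   [1, 2, 3, 2, 1, 0, 1, 5, 1],
   [1, 0, 1, 2, 1, 0, 3, 4, 5, 1],
   [1, 0, 1, 2, 1, 0, 3, 5, 1, 2],
   [1, 0, 2, 3, 2, 1, 0, 4, 3],
   [1, 0, 2, 3, 2, 1, 0, 4, 5],
   [1, 0, 2, 3, 2, 1, 0, 5, 1],
   [1, 0, 2, 3, 2, 1, 4, 3, 2],
   [1, 0, 2, 3, 2, 1, 4, 3, 5],
   [1, 0, 2, 3, 2, 4, 3, 2, 1],
   [1, 2, 3, 2, 1, 0, 4, 3, 2],
   [1, 2, 3, 2, 1, 0, 4, 3, 5],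
   [1, 2, 3, 2, 1, 0, 4, 5, 1],
   [1, 2, 3, 2, 1, 0, 5, 1, 0],
   [1, 2, 3, 2, 1, 0, 5, 1, 2],
   [1, 2, 3, 2, 1, 4, 3, 2, 1],
   [1, 2, 3, 2, 1, 4, 3, 2, 3],
   [1, 2, 3, 2, 1, 4, 3, 2, 5],
   [1, 2, 3, 2, 1, 4, 3, 5, 1],
   [1, 2, 3, 2, 4, 3, 2, 1, 0],
   [1, 2, 3, 2, 4, 3, 2, 1, 5],
   [1, 2, 3, 2, 4, 3, 2, 5, 1],
   [1, 2, 3, 2, 4, 3, 5, 1, 2],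
   [1, 0, 1, 2, 1, 3, 2, 1, 4, 3],
   [1, 0, 1, 2, 1, 3, 2, 1, 4, 5],
   [1, 0, 1, 2, 1, 3, 2, 1, 5, 1],
   [1, 0, 1, 2, 1, 3, 2, 4, 3, 2],
   [1, 0, 1, 2, 1, 3, 2, 4, 3, 5],
   [1, 0, 1, 2, 1, 3, 2, 4, 5, 1],
   [1, 0, 1, 2, 1, 3, 2, 5, 1, 0],
   [1, 0, 2, 1, 3, 2, 3, 5, 1, 0, 1],
   [1, 0, 1, 2, 3, 2, 1, 4, 3, 2],
   [1, 0, 1, 2, 3, 2, 1, 4, 3, 5],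
   [1, 0, 2, 1, 3, 2, 3, 2, 4, 5],
   [1, 0, 2, 1, 3, 2, 3, 2, 5, 1],
   [1, 0, 1, 2, 3, 2, 4, 3, 2, 1],
   [1, 0, 2, 1, 3, 2, 1, 0, 1, 4],
   [1, 0, 2, 1, 3, 2, 1, 0, 1, 5],
   [1, 0, 2, 1, 3, 2, 1, 0, 4, 3],
   [1, 0, 2, 1, 3, 2, 1, 0, 4, 5],
   [1, 0, 2, 1, 3, 2, 1, 0, 5, 1],
   [1, 0, 2, 1, 3, 2, 1, 3, 4, 3],
   [1, 0, 2, 1, 3, 2, 1, 3, 4, 5],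
   [1, 0, 2, 1, 3, 2, 1, 3, 5, 1],
   [1, 0, 2, 1, 3, 2, 1, 4, 3, 2],
   [1, 0, 2, 1, 3, 2, 1, 4, 3, 5],
   [1, 0, 2, 1, 3, 2, 1, 4, 5, 1],
   [1, 0, 2, 1, 3, 2, 1, 5, 1, 0],
   [1, 0, 2, 1, 3, 2, 3, 2, 4, 3]]

/-- Words. -/
def caseAImgs3 : List (List ℕ) :=
  [[1, 0, 2, 1, 3, 2, 3, 4, 3, 2],
   [1, 0, 2, 1, 3, 2, 3, 4, 3, 5],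
   [1, 0, 2, 1, 3, 2, 3, 4, 5, 1],
   [1, 0, 2, 1, 3, 2, 3, 5, 1, 2],
   [1, 0, 2, 1, 3, 2, 4, 3, 2, 1],
   [1, 0, 2, 1, 3, 2, 4, 3, 2, 5],
   [1, 2, 3, 2, 1, 0, 1, 4, 3, 2],
   [1, 0, 2, 1, 3, 2, 4, 3, 5, 1],
   [1, 2, 3, 2, 1, 0, 1, 4, 3, 5],
   [1, 0, 2, 1, 3, 2, 4, 5, 1, 0],
   [1, 0, 2, 1, 3, 2, 3, 4, 5, 1, 0],
   [1, 2, 3, 2, 1, 0, 1, 4, 5, 1],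
   [1, 0, 2, 1, 3, 2, 5, 1, 0, 1],
   [1, 0, 2, 1, 3, 2, 1, 3, 5, 1, 0],
   [1, 2, 3, 2, 1, 0, 1, 5, 1, 0],
   [1, 2, 3, 2, 1, 0, 1, 5, 1, 2],
   [1, 0, 1, 2, 1, 0, 3, 4, 5, 1, 2],
   [1, 0, 1, 2, 1, 0, 3, 5, 1, 2, 3],
   [1, 0, 2, 3, 2, 1, 0, 4, 3, 2],
   [1, 0, 2, 3, 2, 1, 0, 4, 3, 5],
   [1, 0, 2, 3, 2, 1, 0, 4, 5, 1],
   [1, 0, 2, 3, 2, 1, 0, 5, 1, 0],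
   [1, 0, 2, 3, 2, 1, 0, 5, 1, 2],
   [1, 0, 2, 3, 2, 1, 4, 3, 2, 1],
   [1, 0, 2, 3, 2, 1, 4, 3, 2, 3],
   [1, 0, 2, 3, 2, 1, 4, 3, 2, 5],
   [1, 0, 2, 3, 2, 4, 3, 2, 1, 0],
   [1, 0, 2, 3, 2, 4, 3, 2, 1, 5],
   [1, 2, 3, 2, 1, 0, 4, 3, 2, 1],
   [1, 2, 3, 2, 1, 0, 4, 3, 2, 3],
   [1, 2, 3, 2, 1, 0, 4, 3, 2, 5],
   [1, 2, 3, 2, 1, 0, 4, 3, 5, 1],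
   [1, 2, 3, 2, 1, 0, 4, 5, 1, 0],
   [1, 2, 3, 2, 1, 0, 4, 5, 1, 2],
   [1, 2, 3, 2, 1, 0, 5, 1, 0, 1],
   [1, 2, 3, 2, 1, 0, 5, 1, 0, 2],
   [1, 2, 3, 2, 1, 0, 5, 1, 2, 3],
   [1, 2, 3, 2, 1, 4, 3, 2, 1, 0],
   [1, 2, 3, 2, 1, 4, 3, 2, 1, 3],
   [1, 2, 3, 2, 1, 4, 3, 2, 1, 5],
   [1, 2, 3, 2, 1, 4, 3, 2, 3, 4],
   [1, 2, 3, 2, 1, 4, 3, 2, 3, 5],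
   [1, 2, 3, 2, 1, 4, 3, 2, 5, 1],
   [1, 2, 3, 2, 1, 4, 3, 5, 1, 2],
   [1, 2, 3, 2, 4, 3, 2, 1, 0, 1],
   [1, 2, 3, 2, 4, 3, 2, 1, 0, 5],
   [1, 2, 3, 2, 4, 3, 2, 1, 5, 1],
   [1, 2, 3, 2, 4, 3, 2, 5, 1, 0],
   [1, 2, 3, 2, 4, 3, 2, 5, 1, 2],
   [1, 2, 3, 2, 4, 3, 2, 1, 0, 1, 0],
   [1, 0, 1, 2, 1, 3, 2, 1, 4, 3, 2],
   [1, 0, 1, 2, 1, 3, 2, 1, 4, 3, 5],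
   [1, 0, 1, 2, 1, 3, 2, 1, 4, 5, 1],
   [1, 0, 1, 2, 1, 3, 2, 4, 3, 2, 1],
   [1, 0, 1, 2, 1, 3, 2, 4, 3, 2, 5],
   [1, 0, 1, 2, 1, 3, 2, 4, 3, 5, 1],
   [1, 0, 1, 2, 1, 3, 2, 4, 5, 1, 0],
   [1, 0, 2, 1, 3, 2, 3, 4, 5, 1, 0, 1],
   [1, 0, 1, 2, 3, 2, 1, 4, 3, 2, 1],
   [1, 0, 1, 2, 3, 2, 1, 4, 3, 2, 3],
   [1, 0, 1, 2, 3, 2, 1, 4, 3, 2, 5],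
   [1, 0, 2, 1, 3, 2, 3, 2, 4, 3, 5],
   [1, 0, 2, 1, 3, 2, 3, 2, 4, 5, 1],
   [1, 0, 1, 2, 3, 2, 4, 3, 2, 1, 0]]

/-- Words. -/
def caseAImgs4 : List (List ℕ) :=
  [[1, 0, 1, 2, 3, 2, 4, 3, 2, 1, 5],
   [1, 0, 2, 3, 2, 4, 3, 2, 1, 0, 1, 0],
   [1, 0, 2, 1, 3, 2, 1, 0, 1, 4, 3],
   [1, 0, 2, 1, 3, 2, 1, 0, 1, 4, 5],
   [1, 0, 2, 1, 3, 2, 1, 0, 4, 3, 2],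
   [1, 0, 2, 1, 3, 2, 1, 0, 4, 3, 5],
   [1, 0, 2, 1, 3, 2, 1, 0, 4, 5, 1],
   [1, 0, 2, 1, 3, 2, 1, 3, 4, 3, 2],
   [1, 0, 2, 1, 3, 2, 1, 3, 4, 3, 5],
   [1, 0, 2, 1, 3, 2, 1, 3, 4, 5, 1],
   [1, 0, 2, 1, 3, 2, 1, 4, 3, 2, 1],
   [1, 0, 2, 1, 3, 2, 1, 4, 3, 2, 3],
   [1, 0, 2, 1, 3, 2, 1, 4, 3, 2, 5],
   [1, 0, 2, 1, 3, 2, 1, 4, 3, 5, 1],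
   [1, 0, 2, 1, 3, 2, 1, 4, 5, 1, 0],
   [1, 0, 2, 1, 3, 2, 3, 2, 4, 3, 2],
   [1, 0, 2, 1, 3, 2, 3, 4, 3, 2, 1],
   [1, 0, 2, 1, 3, 2, 3, 4, 3, 2, 3],
   [1, 0, 2, 1, 3, 2, 3, 4, 3, 2, 5],
   [1, 0, 2, 1, 3, 2, 3, 4, 3, 5, 1],
   [1, 0, 2, 1, 3, 2, 3, 4, 5, 1, 2],
   [1, 0, 2, 1, 3, 2, 4, 3, 2, 1, 0],
   [1, 0, 2, 1, 3, 2, 4, 3, 2, 1, 5],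
   [1, 2, 3, 2, 4, 3, 2, 1, 0, 1, 0, 2, 3],
   [1, 0, 2, 1, 3, 2, 4, 3, 2, 5, 1],
   [1, 2, 3, 2, 1, 0, 1, 4, 3, 2, 1],
   [1, 2, 3, 2, 1, 0, 1, 4, 3, 2, 5],
   [1, 0, 2, 1, 3, 2, 4, 3, 5, 1, 0],
   [1, 0, 2, 1, 3, 2, 4, 3, 5, 1, 2],
   [1, 0, 2, 1, 3, 2, 3, 4, 3, 5, 1, 0],
   [1, 2, 3, 2, 1, 0, 1, 4, 3, 5, 1],
   [1, 0, 2, 1, 3, 2, 4, 5, 1, 0, 1],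
   [1, 0, 2, 1, 3, 2, 1, 3, 4, 5, 1, 0],
   [1, 2, 3, 2, 1, 0, 1, 4, 5, 1, 0],
   [1, 2, 3, 2, 1, 0, 1, 4, 5, 1, 2],
   [1, 2, 3, 2, 1, 0, 1, 5, 1, 0, 2],
   [1, 2, 3, 2, 1, 0, 1, 5, 1, 2, 3],
   [1, 0, 2, 3, 2, 1, 0, 4, 3, 2, 1],
   [1, 0, 2, 3, 2, 1, 0, 4, 3, 2, 3],
   [1, 0, 2, 3, 2, 1, 0, 4, 3, 2, 5],
   [1, 0, 2, 3, 2, 1, 0, 4, 3, 5, 1],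
   [1, 0, 2, 3, 2, 1, 0, 4, 5, 1, 0],
   [1, 0, 2, 3, 2, 1, 0, 4, 5, 1, 2],
   [1, 0, 2, 3, 2, 1, 4, 3, 2, 1, 0],
   [1, 0, 2, 3, 2, 1, 4, 3, 2, 1, 3],
   [1, 0, 2, 3, 2, 1, 4, 3, 2, 1, 5],
   [1, 0, 2, 3, 2, 1, 4, 3, 2, 3, 2],
   [1, 0, 2, 3, 2, 1, 4, 3, 2, 3, 4],
   [1, 0, 2, 3, 2, 1, 4, 3, 2, 3, 5],
   [1, 0, 2, 3, 2, 1, 4, 3, 2, 5, 1],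
   [1, 0, 2, 3, 2, 4, 3, 2, 1, 0, 1],
   [1, 0, 2, 3, 2, 4, 3, 2, 1, 0, 5],
   [1, 2, 3, 2, 1, 0, 4, 3, 2, 1, 0],
   [1, 2, 3, 2, 1, 0, 4, 3, 2, 1, 3],
   [1, 2, 3, 2, 1, 0, 4, 3, 2, 1, 5],
   [1, 2, 3, 2, 1, 0, 4, 3, 2, 1, 3, 2, 3],
   [1, 2, 3, 2, 1, 0, 4, 3, 2, 3, 4],
   [1, 2, 3, 2, 1, 0, 4, 3, 2, 3, 5],
   [1, 2, 3, 2, 1, 0, 4, 3, 2, 5, 1],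
   [1, 2, 3, 2, 1, 0, 4, 3, 5, 1, 0],
   [1, 2, 3, 2, 1, 0, 4, 3, 5, 1, 2],
   [1, 2, 3, 2, 1, 0, 4, 5, 1, 0, 1],
   [1, 2, 3, 2, 1, 0, 4, 5, 1, 0, 2],
   [1, 2, 3, 2, 1, 0, 5, 1, 0, 2, 3]]

/-- Words. -/
def caseAImgs5 : List (List ℕ) :=
  [[1, 2, 3, 2, 1, 4, 3, 2, 1, 0, 1],
   [1, 2, 3, 2, 1, 4, 3, 2, 1, 0, 3],
   [1, 2, 3, 2, 1, 4, 3, 2, 1, 0, 5],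
   [1, 2, 3, 2, 1, 4, 3, 2, 1, 3, 2],
   [1, 2, 3, 2, 1, 4, 3, 2, 1, 3, 4],
   [1, 2, 3, 2, 1, 4, 3, 2, 1, 3, 5],
   [1, 2, 3, 2, 1, 4, 3, 2, 1, 5, 1],
   [1, 2, 3, 2, 1, 4, 3, 2, 3, 4, 5],
   [1, 2, 3, 2, 1, 4, 3, 2, 3, 5, 1],
   [1, 2, 3, 2, 1, 4, 3, 2, 5, 1, 0],
   [1, 2, 3, 2, 1, 4, 3, 2, 5, 1, 2],
   [1, 2, 3, 2, 1, 0, 4, 3, 2, 1, 3, 5, 1, 2, 3],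
   [1, 2, 3, 2, 4, 3, 2, 1, 0, 1, 2],
   [1, 2, 3, 2, 4, 3, 2, 1, 0, 1, 5],
   [1, 2, 3, 2, 4, 3, 2, 1, 0, 5, 1],
   [1, 2, 3, 2, 4, 3, 2, 1, 5, 1, 0],
   [1, 2, 3, 2, 4, 3, 2, 1, 5, 1, 2],
   [1, 2, 3, 2, 4, 3, 2, 5, 1, 0, 1],
   [1, 2, 3, 2, 4, 3, 2, 5, 1, 0, 2],
   [1, 2, 3, 2, 4, 3, 2, 1, 0, 1, 0, 2],
   [1, 2, 3, 2, 4, 3, 2, 1, 0, 1, 0, 5],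
   [1, 0, 1, 2, 1, 3, 2, 1, 4, 3, 2, 1],
   [1, 0, 1, 2, 1, 3, 2, 1, 4, 3, 2, 3],
   [1, 0, 1, 2, 1, 3, 2, 1, 4, 3, 2, 5],
   [1, 0, 1, 2, 1, 3, 2, 1, 4, 3, 5, 1],
   [1, 0, 1, 2, 1, 3, 2, 4, 3, 2, 1, 0],
   [1, 0, 1, 2, 1, 3, 2, 4, 3, 2, 1, 5],
   [1, 0, 1, 2, 1, 3, 2, 1, 4, 3, 2, 1, 0],
   [1, 0, 1, 2, 1, 3, 2, 4, 3, 2, 5, 1],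
   [1, 0, 1, 2, 1, 3, 2, 4, 3, 5, 1, 0],
   [1, 0, 1, 2, 1, 3, 2, 4, 3, 5, 1, 2],
   [1, 0, 2, 1, 3, 2, 3, 4, 3, 5, 1, 0, 1],
   [1, 0, 1, 2, 3, 2, 1, 4, 3, 2, 1, 0],
   [1, 0, 1, 2, 3, 2, 1, 4, 3, 2, 1, 3],
   [1, 0, 1, 2, 3, 2, 1, 4, 3, 2, 1, 5],
   [1, 0, 1, 2, 1, 3, 2, 4, 3, 2, 1, 0, 1],
   [1, 0, 1, 2, 3, 2, 1, 4, 3, 2, 3, 2],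
   [1, 0, 1, 2, 3, 2, 1, 4, 3, 2, 3, 5],
   [1, 0, 1, 2, 3, 2, 1, 4, 3, 2, 5, 1],
   [1, 0, 2, 1, 3, 2, 3, 2, 4, 3, 2, 5],
   [1, 0, 2, 1, 3, 2, 3, 2, 4, 3, 5, 1],
   [1, 0, 1, 2, 3, 2, 4, 3, 2, 1, 0, 1],
   [1, 0, 1, 2, 3, 2, 4, 3, 2, 1, 0, 5],
   [1, 0, 2, 3, 2, 4, 3, 2, 1, 0, 1, 5],
   [1, 0, 2, 3, 2, 4, 3, 2, 1, 0, 1, 0, 5],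
   [1, 0, 2, 1, 3, 2, 1, 0, 1, 4, 3, 2],
   [1, 0, 2, 1, 3, 2, 1, 0, 1, 4, 3, 5],
   [1, 0, 2, 1, 3, 2, 1, 0, 4, 3, 2, 1],
   [1, 0, 2, 1, 3, 2, 1, 0, 4, 3, 2, 5],
   [1, 0, 2, 1, 3, 2, 1, 0, 4, 3, 5, 1],
   [1, 0, 2, 1, 3, 2, 1, 3, 4, 3, 2, 1],
   [1, 0, 2, 1, 3, 2, 1, 3, 4, 3, 2, 3],
   [1, 0, 2, 1, 3, 2, 1, 3, 4, 3, 2, 5],
   [1, 0, 2, 1, 3, 2, 1, 3, 4, 3, 5, 1],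
   [1, 0, 2, 1, 3, 2, 1, 4, 3, 2, 1, 0],
   [1, 0, 2, 1, 3, 2, 1, 4, 3, 2, 1, 3],
   [1, 0, 2, 1, 3, 2, 1, 4, 3, 2, 1, 5],
   [1, 0, 2, 3, 2, 1, 4, 3, 2, 1, 0, 1, 3],
   [1, 0, 2, 1, 3, 2, 1, 4, 3, 2, 3, 4],
   [1, 0, 2, 1, 3, 2, 1, 4, 3, 2, 3, 5],
   [1, 0, 2, 1, 3, 2, 1, 4, 3, 2, 5, 1],
   [1, 0, 2, 1, 3, 2, 1, 4, 3, 5, 1, 0],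
   [1, 0, 2, 1, 3, 2, 1, 4, 3, 5, 1, 2],
   [1, 0, 2, 1, 3, 2, 3, 2, 4, 3, 2, 1]]

/-- Words. -/
def caseAImgs6 : List (List ℕ) :=
  [[1, 0, 2, 1, 3, 2, 3, 4, 3, 2, 1, 0],
   [1, 0, 2, 1, 3, 2, 3, 4, 3, 2, 1, 3],
   [1, 0, 2, 1, 3, 2, 3, 4, 3, 2, 1, 5],
   [1, 2, 3, 2, 1, 4, 3, 2, 1, 0, 1, 0, 2, 3],
   [1, 0, 2, 1, 3, 2, 3, 4, 3, 2, 3, 5],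
   [1, 0, 2, 1, 3, 2, 3, 4, 3, 2, 5, 1],
   [1, 0, 2, 1, 3, 2, 3, 4, 3, 5, 1, 2],
   [1, 0, 2, 1, 3, 2, 3, 4, 5, 1, 2, 3],
   [1, 0, 2, 1, 3, 2, 4, 3, 2, 1, 0, 1],
   [1, 0, 2, 1, 3, 2, 4, 3, 2, 1, 0, 5],
   [1, 2, 3, 2, 4, 3, 2, 1, 0, 1, 2, 3],
   [1, 0, 2, 1, 3, 2, 4, 3, 2, 1, 5, 1],
   [1, 2, 3, 2, 4, 3, 2, 1, 0, 1, 2, 3, 5],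
   [1, 0, 1, 2, 1, 3, 2, 1, 4, 3, 2, 1, 0, 3],
   [1, 2, 3, 2, 4, 3, 2, 1, 0, 1, 0, 2, 3, 5],
   [1, 0, 2, 1, 3, 2, 4, 3, 2, 5, 1, 0],
   [1, 0, 2, 1, 3, 2, 4, 3, 2, 5, 1, 2],
   [1, 2, 3, 2, 1, 0, 4, 3, 2, 1, 5, 1, 0, 2, 3, 2],
   [1, 2, 3, 2, 1, 0, 1, 4, 3, 2, 1, 0],
   [1, 2, 3, 2, 1, 0, 1, 4, 3, 2, 1, 5],
   [1, 2, 3, 2, 1, 0, 1, 4, 3, 2, 5, 1],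
   [1, 0, 2, 1, 3, 2, 4, 3, 5, 1, 0, 1],
   [1, 0, 2, 1, 3, 2, 4, 3, 5, 1, 0, 2],
   [1, 0, 2, 1, 3, 2, 4, 3, 5, 1, 2, 3],
   [1, 0, 2, 1, 3, 2, 3, 4, 3, 5, 1, 0, 2],
   [1, 0, 2, 1, 3, 2, 1, 3, 4, 3, 5, 1, 0],
   [1, 2, 3, 2, 1, 0, 1, 4, 3, 5, 1, 0],
   [1, 2, 3, 2, 1, 0, 1, 4, 3, 5, 1, 2],
   [1, 2, 3, 2, 1, 0, 1, 4, 5, 1, 0, 2],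
   [1, 2, 3, 2, 1, 0, 1, 5, 1, 0, 2, 3],
   [1, 0, 2, 3, 2, 1, 0, 4, 3, 2, 1, 0],
   [1, 0, 2, 3, 2, 1, 0, 4, 3, 2, 1, 3],
   [1, 0, 2, 3, 2, 1, 0, 4, 3, 2, 1, 5],
   [1, 2, 3, 2, 1, 0, 4, 3, 2, 1, 3, 2, 3, 4],
   [1, 0, 2, 3, 2, 1, 0, 4, 3, 2, 3, 4],
   [1, 0, 2, 3, 2, 1, 0, 4, 3, 2, 3, 5],
   [1, 0, 2, 3, 2, 1, 0, 4, 3, 2, 5, 1],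
   [1, 0, 2, 3, 2, 1, 0, 4, 3, 5, 1, 0],
   [1, 0, 2, 3, 2, 1, 0, 4, 3, 5, 1, 2],
   [1, 0, 2, 3, 2, 1, 0, 4, 5, 1, 2, 3],
   [1, 0, 2, 3, 2, 1, 4, 3, 2, 1, 0, 1],
   [1, 0, 2, 3, 2, 1, 4, 3, 2, 1, 0, 3],
   [1, 0, 2, 3, 2, 1, 4, 3, 2, 1, 0, 5],
   [1, 0, 2, 3, 2, 1, 4, 3, 2, 1, 3, 2],
   [1, 0, 2, 3, 2, 1, 4, 3, 2, 1, 3, 4],
   [1, 0, 2, 3, 2, 1, 4, 3, 2, 1, 3, 5],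
   [1, 0, 2, 3, 2, 1, 4, 3, 2, 1, 5, 1],
   [1, 0, 2, 3, 2, 1, 4, 3, 2, 3, 2, 1],
   [1, 0, 2, 3, 2, 1, 4, 3, 2, 3, 2, 4],
   [1, 0, 2, 3, 2, 1, 4, 3, 2, 3, 2, 5],
   [1, 0, 2, 3, 2, 1, 4, 3, 2, 3, 4, 5],
   [1, 0, 2, 3, 2, 1, 4, 3, 2, 3, 5, 1],
   [1, 0, 2, 3, 2, 1, 4, 3, 2, 5, 1, 0],
   [1, 0, 2, 1, 3, 2, 4, 3, 2, 1, 5, 1, 0, 1, 2, 5],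
   [1, 0, 2, 3, 2, 4, 3, 2, 1, 0, 1, 2],
   [1, 0, 2, 3, 2, 4, 3, 2, 1, 0, 5, 1],
   [1, 2, 3, 2, 1, 0, 4, 3, 2, 1, 0, 1],
   [1, 2, 3, 2, 1, 0, 4, 3, 2, 1, 0, 3],
   [1, 2, 3, 2, 1, 0, 4, 3, 2, 1, 0, 5],
   [1, 0, 1, 2, 1, 3, 2, 1, 4, 3, 2, 1, 3, 2],
   [1, 2, 3, 2, 1, 0, 4, 3, 2, 1, 3, 2],
   [1, 2, 3, 2, 1, 0, 4, 3, 2, 1, 3, 4],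
   [1, 2, 3, 2, 1, 0, 4, 3, 2, 1, 3, 5],
   [1, 2, 3, 2, 1, 0, 4, 3, 2, 1, 5, 1]]

/-- Words. -/
def caseAImgs7 : List (List ℕ) :=
  [[1, 2, 3, 2, 1, 4, 3, 2, 1, 5, 1, 0, 1],
   [1, 2, 3, 2, 1, 4, 3, 2, 1, 3, 2, 3],
   [1, 2, 3, 2, 1, 0, 4, 3, 2, 1, 3, 2, 3, 5],
   [1, 2, 3, 2, 1, 0, 4, 3, 2, 3, 4, 5],
   [1, 2, 3, 2, 1, 0, 4, 3, 2, 3, 5, 1],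
   [1, 2, 3, 2, 1, 0, 4, 3, 2, 5, 1, 0],
   [1, 2, 3, 2, 1, 0, 4, 3, 2, 5, 1, 2],
   [1, 2, 3, 2, 1, 4, 3, 2, 1, 0, 5, 1],
   [1, 2, 3, 2, 1, 0, 4, 3, 5, 1, 0, 1],
   [1, 2, 3, 2, 1, 0, 4, 3, 5, 1, 0, 2],
   [1, 2, 3, 2, 1, 4, 3, 2, 1, 0, 1, 0],
   [1, 2, 3, 2, 1, 4, 3, 2, 1, 0, 1, 2],
   [1, 2, 3, 2, 1, 4, 3, 2, 1, 0, 1, 3],
   [1, 2, 3, 2, 1, 4, 3, 2, 1, 0, 1, 5],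
   [1, 0, 2, 1, 3, 2, 1, 4, 3, 2, 1, 3, 4],
   [1, 2, 3, 2, 1, 4, 3, 2, 1, 0, 3, 2],
   [1, 2, 3, 2, 1, 4, 3, 2, 1, 0, 3, 4],
   [1, 2, 3, 2, 1, 4, 3, 2, 1, 0, 3, 5],
   [1, 2, 3, 2, 1, 4, 3, 2, 1, 3, 2, 4],
   [1, 2, 3, 2, 1, 4, 3, 2, 1, 3, 2, 5],
   [1, 2, 3, 2, 1, 4, 3, 2, 1, 3, 4, 5],
   [1, 2, 3, 2, 1, 4, 3, 2, 1, 3, 5, 1],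
   [1, 2, 3, 2, 1, 4, 3, 2, 1, 5, 1, 0],
   [1, 2, 3, 2, 1, 4, 3, 2, 1, 5, 1, 2],
   [1, 2, 3, 2, 1, 0, 4, 3, 2, 1, 5, 1, 0, 1, 5],
   [1, 2, 3, 2, 1, 4, 3, 2, 3, 4, 5, 1],
   [1, 2, 3, 2, 1, 4, 3, 2, 3, 5, 1, 0],
   [1, 2, 3, 2, 1, 4, 3, 2, 3, 5, 1, 2],
   [1, 2, 3, 2, 1, 0, 4, 3, 2, 1, 3, 5, 1, 2],
   [1, 2, 3, 2, 1, 4, 3, 2, 5, 1, 0, 1],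
   [1, 2, 3, 2, 1, 4, 3, 2, 5, 1, 0, 2],
   [1, 2, 3, 2, 1, 0, 4, 3, 2, 1, 5, 1, 0, 1],
   [1, 0, 2, 1, 3, 2, 3, 4, 3, 2, 1, 5, 1, 0, 1, 5],
   [1, 2, 3, 2, 1, 4, 3, 2, 1, 0, 5, 1, 0, 1, 5],
   [1, 2, 3, 2, 1, 0, 4, 3, 2, 3, 5, 1, 2, 3],
   [1, 2, 3, 2, 4, 3, 2, 1, 0, 1, 2, 5],
   [1, 2, 3, 2, 4, 3, 2, 1, 0, 1, 5, 1],
   [1, 2, 3, 2, 4, 3, 2, 1, 0, 5, 1, 0],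
   [1, 2, 3, 2, 4, 3, 2, 1, 0, 5, 1, 2],
   [1, 2, 3, 2, 4, 3, 2, 1, 5, 1, 0, 1],
   [1, 2, 3, 2, 4, 3, 2, 1, 5, 1, 0, 2],
   [1, 2, 3, 2, 4, 3, 2, 5, 1, 0, 1, 0],
   [1, 2, 3, 2, 4, 3, 2, 5, 1, 0, 1, 2],
   [1, 2, 3, 2, 4, 3, 2, 5, 1, 0, 1, 5],
   [1, 2, 3, 2, 4, 3, 2, 5, 1, 0, 2, 1],
   [1, 2, 3, 2, 4, 3, 2, 1, 0, 1, 0, 2, 5],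
   [1, 2, 3, 2, 4, 3, 2, 1, 0, 1, 0, 5, 1],
   [1, 0, 1, 2, 1, 3, 2, 1, 4, 3, 2, 1, 3],
   [1, 0, 1, 2, 1, 3, 2, 1, 4, 3, 2, 1, 5],
   [1, 0, 1, 2, 1, 3, 2, 1, 4, 3, 2, 3, 5],
   [1, 0, 1, 2, 1, 3, 2, 1, 4, 3, 2, 5, 1],
   [1, 0, 1, 2, 1, 3, 2, 1, 4, 3, 5, 1, 2],
   [1, 0, 1, 2, 1, 3, 2, 4, 3, 2, 1, 0, 5],
   [1, 0, 1, 2, 1, 3, 2, 4, 3, 2, 1, 5, 1],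
   [1, 0, 1, 2, 1, 3, 2, 1, 4, 3, 2, 1, 0, 5],
   [1, 0, 1, 2, 1, 3, 2, 4, 3, 2, 5, 1, 0],
   [1, 0, 1, 2, 1, 3, 2, 4, 3, 2, 5, 1, 2],
   [1, 0, 1, 2, 3, 2, 1, 4, 3, 2, 3, 5, 1, 2, 3, 4],
   [1, 0, 1, 2, 1, 3, 2, 4, 3, 5, 1, 0, 2],
   [1, 0, 1, 2, 1, 3, 2, 4, 3, 5, 1, 2, 3],
   [1, 0, 2, 1, 3, 2, 3, 4, 3, 5, 1, 0, 1, 2],
   [1, 0, 1, 2, 3, 2, 1, 4, 3, 2, 1, 0, 1],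
   [1, 0, 1, 2, 3, 2, 1, 4, 3, 2, 1, 0, 3],
   [1, 0, 1, 2, 3, 2, 1, 4, 3, 2, 1, 0, 5]]

/-- Words. -/
def caseAImgs8 : List (List ℕ) :=
  [[1, 0, 1, 2, 3, 2, 1, 4, 3, 2, 1, 3, 2],
   [1, 0, 1, 2, 3, 2, 1, 4, 3, 2, 1, 3, 5],
   [1, 2, 3, 2, 1, 0, 1, 4, 3, 2, 1, 0, 1],
   [1, 0, 1, 2, 3, 2, 1, 4, 3, 2, 1, 5, 1],
   [1, 0, 2, 3, 2, 4, 3, 2, 1, 0, 1, 2, 5],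
   [1, 0, 1, 2, 1, 3, 2, 4, 3, 2, 1, 0, 1, 5],
   [1, 0, 1, 2, 3, 2, 1, 4, 3, 2, 3, 2, 1],
   [1, 0, 1, 2, 3, 2, 1, 4, 3, 2, 3, 2, 5],
   [1, 0, 1, 2, 3, 2, 1, 4, 3, 2, 3, 5, 1],
   [1, 0, 1, 2, 3, 2, 1, 4, 3, 2, 5, 1, 0],
   [1, 0, 2, 1, 3, 2, 4, 3, 2, 1, 5, 1, 0, 1, 5],
   [1, 0, 2, 1, 3, 2, 3, 2, 4, 3, 2, 5, 1],
   [1, 0, 2, 1, 3, 2, 3, 2, 4, 3, 5, 1, 2],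
   [1, 0, 1, 2, 3, 2, 4, 3, 2, 1, 0, 1, 0],
   [1, 0, 1, 2, 3, 2, 4, 3, 2, 1, 0, 1, 2],
   [1, 0, 1, 2, 3, 2, 4, 3, 2, 1, 0, 1, 5],
   [1, 0, 1, 2, 3, 2, 4, 3, 2, 1, 0, 5, 1],
   [1, 0, 2, 3, 2, 4, 3, 2, 1, 0, 1, 5, 1],
   [1, 0, 2, 3, 2, 4, 3, 2, 1, 0, 1, 0, 5, 1],
   [1, 0, 2, 1, 3, 2, 1, 0, 1, 4, 3, 2, 1],
   [1, 0, 2, 1, 3, 2, 1, 0, 1, 4, 3, 2, 3],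
   [1, 0, 2, 1, 3, 2, 1, 0, 1, 4, 3, 2, 5],
   [1, 0, 2, 1, 3, 2, 1, 0, 4, 3, 2, 1, 0],
   [1, 0, 2, 1, 3, 2, 1, 0, 4, 3, 2, 1, 5],
   [1, 0, 2, 1, 3, 2, 1, 0, 4, 3, 2, 5, 1],
   [1, 0, 2, 1, 3, 2, 1, 0, 4, 3, 5, 1, 2],
   [1, 0, 2, 1, 3, 2, 1, 3, 4, 3, 2, 1, 0],
   [1, 0, 2, 1, 3, 2, 1, 3, 4, 3, 2, 1, 3],
   [1, 0, 2, 1, 3, 2, 1, 3, 4, 3, 2, 1, 5],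
   [1, 0, 2, 3, 2, 1, 4, 3, 2, 1, 0, 1, 3, 4],
   [1, 0, 2, 1, 3, 2, 1, 3, 4, 3, 2, 3, 4],
   [1, 0, 2, 1, 3, 2, 1, 3, 4, 3, 2, 3, 5],
   [1, 0, 2, 1, 3, 2, 1, 3, 4, 3, 2, 5, 1],
   [1, 0, 2, 1, 3, 2, 1, 3, 4, 3, 5, 1, 2],
   [1, 0, 2, 1, 3, 2, 1, 4, 3, 2, 1, 0, 1],
   [1, 0, 2, 1, 3, 2, 1, 4, 3, 2, 1, 0, 5],
   [1, 2, 3, 2, 4, 3, 2, 1, 0, 1, 2, 3, 2],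
   [1, 0, 2, 1, 3, 2, 1, 4, 3, 2, 1, 3, 5],
   [1, 0, 2, 1, 3, 2, 1, 4, 3, 2, 1, 5, 1],
   [1, 0, 2, 1, 3, 2, 1, 0, 4, 3, 2, 5, 1, 0],
   [1, 0, 2, 1, 3, 2, 1, 4, 3, 2, 3, 4, 5],
   [1, 0, 2, 1, 3, 2, 1, 4, 3, 2, 3, 5, 1],
   [1, 0, 2, 1, 3, 2, 1, 4, 3, 2, 5, 1, 0],
   [1, 0, 2, 1, 3, 2, 1, 4, 3, 2, 5, 1, 2],
   [1, 0, 2, 1, 3, 2, 1, 4, 3, 5, 1, 0, 2],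
   [1, 0, 2, 1, 3, 2, 1, 4, 3, 5, 1, 2, 3],
   [1, 0, 2, 1, 3, 2, 3, 2, 4, 3, 2, 1, 0],
   [1, 0, 2, 1, 3, 2, 3, 2, 4, 3, 2, 1, 5],
   [1, 0, 1, 2, 3, 2, 1, 4, 3, 2, 3, 2, 1, 0],
   [1, 0, 2, 1, 3, 2, 3, 4, 3, 2, 1, 0, 1],
   [1, 0, 2, 1, 3, 2, 3, 4, 3, 2, 1, 0, 3],
   [1, 0, 2, 1, 3, 2, 3, 4, 3, 2, 1, 0, 5],
   [1, 2, 3, 2, 1, 4, 3, 2, 1, 0, 1, 2, 3],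
   [1, 0, 2, 1, 3, 2, 3, 4, 3, 2, 1, 3, 2],
   [1, 0, 2, 1, 3, 2, 3, 4, 3, 2, 1, 3, 5],
   [1, 2, 3, 2, 1, 4, 3, 2, 1, 0, 1, 0, 2],
   [1, 0, 2, 1, 3, 2, 3, 4, 3, 2, 1, 5, 1],
   [1, 0, 1, 2, 1, 3, 2, 4, 3, 5, 1, 0, 2, 1],
   [1, 0, 1, 2, 1, 3, 2, 4, 3, 5, 1, 0, 2, 1, 0],
   [1, 0, 2, 1, 3, 2, 3, 4, 3, 2, 3, 5, 1],
   [1, 0, 2, 1, 3, 2, 3, 4, 3, 2, 5, 1, 0],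
   [1, 0, 2, 1, 3, 2, 3, 4, 3, 2, 5, 1, 2],
   [1, 0, 1, 2, 3, 2, 1, 4, 3, 2, 3, 2, 5, 1, 2, 3],
   [1, 0, 2, 1, 3, 2, 3, 4, 3, 5, 1, 2, 3]]

/-- Words. -/
def caseAImgs9 : List (List ℕ) :=
  [[1, 0, 2, 1, 3, 2, 3, 4, 5, 1, 2, 3, 2],
   [1, 0, 2, 1, 3, 2, 4, 3, 2, 1, 0, 1, 0],
   [1, 0, 2, 1, 3, 2, 4, 3, 2, 1, 0, 1, 2],
   [1, 0, 2, 1, 3, 2, 4, 3, 2, 1, 0, 1, 5],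
   [1, 0, 2, 1, 3, 2, 4, 3, 2, 1, 0, 5, 1],
   [1, 0, 2, 1, 3, 2, 4, 3, 2, 1, 5, 1, 0],
   [1, 0, 2, 1, 3, 2, 4, 3, 2, 1, 5, 1, 2],
   [1, 2, 3, 2, 1, 0, 4, 3, 2, 5, 1, 2, 3, 2],
   [1, 0, 1, 2, 1, 3, 2, 1, 4, 3, 2, 1, 0, 3, 5],
   [1, 2, 3, 2, 4, 3, 2, 1, 0, 1, 0, 2, 3, 5, 1],
   [1, 0, 2, 1, 3, 2, 4, 3, 2, 5, 1, 0, 1],
   [1, 0, 2, 1, 3, 2, 4, 3, 2, 5, 1, 0, 2],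
   [1, 2, 3, 2, 1, 0, 4, 3, 2, 1, 5, 1, 2, 3, 2],
   [1, 0, 2, 1, 3, 2, 4, 3, 2, 5, 1, 2, 3],
   [1, 2, 3, 2, 1, 0, 4, 3, 2, 1, 5, 1, 0, 2, 3],
   [1, 2, 3, 2, 1, 0, 4, 3, 2, 5, 1, 0, 2, 3, 2],
   [1, 2, 3, 2, 1, 0, 1, 4, 3, 2, 1, 0, 5],
   [1, 2, 3, 2, 1, 0, 1, 4, 3, 2, 1, 5, 1],
   [1, 0, 1, 2, 1, 3, 2, 1, 4, 3, 2, 1, 3, 5],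
   [1, 2, 3, 2, 1, 0, 1, 4, 3, 2, 5, 1, 0],
   [1, 2, 3, 2, 1, 0, 1, 4, 3, 2, 5, 1, 2],
   [1, 0, 2, 1, 3, 2, 3, 4, 3, 2, 5, 1, 0, 1, 5],
   [1, 0, 2, 1, 3, 2, 4, 3, 5, 1, 0, 1, 2],
   [1, 0, 2, 1, 3, 2, 4, 3, 5, 1, 0, 2, 1],
   [1, 0, 2, 1, 3, 2, 4, 3, 5, 1, 0, 2, 3],
   [1, 0, 2, 1, 3, 2, 4, 3, 5, 1, 2, 3, 2],
   [1, 0, 2, 1, 3, 2, 4, 3, 5, 1, 2, 3, 4],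
   [1, 0, 2, 1, 3, 2, 3, 4, 3, 5, 1, 0, 2, 3],
   [1, 0, 2, 1, 3, 2, 3, 4, 3, 5, 1, 0, 2, 1],
   [1, 0, 2, 1, 3, 2, 1, 3, 4, 3, 5, 1, 0, 2],
   [1, 2, 3, 2, 1, 0, 1, 4, 3, 5, 1, 0, 2],
   [1, 0, 2, 3, 2, 1, 0, 4, 3, 2, 1, 0, 1],
   [1, 0, 2, 3, 2, 1, 0, 4, 3, 2, 1, 0, 3],
   [1, 0, 2, 3, 2, 1, 0, 4, 3, 2, 1, 0, 5],
   [1, 0, 1, 2, 3, 2, 1, 4, 3, 2, 1, 3, 2, 1],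
   [1, 0, 2, 3, 2, 1, 0, 4, 3, 2, 1, 3, 2],
   [1, 0, 2, 3, 2, 1, 0, 4, 3, 2, 1, 3, 4],
   [1, 0, 2, 3, 2, 1, 0, 4, 3, 2, 1, 3, 5],
   [1, 0, 1, 2, 3, 2, 1, 4, 3, 2, 1, 0, 1, 2],
   [1, 0, 2, 3, 2, 1, 0, 4, 3, 2, 1, 5, 1],
   [1, 0, 2, 3, 2, 1, 4, 3, 2, 1, 5, 1, 0, 1],
   [1, 2, 3, 2, 1, 4, 3, 2, 1, 3, 2, 3, 4],
   [1, 0, 2, 3, 2, 1, 4, 3, 2, 1, 5, 1, 0, 1, 0],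
   [1, 0, 2, 3, 2, 1, 0, 4, 3, 2, 3, 4, 5],
   [1, 0, 2, 3, 2, 1, 0, 4, 3, 2, 3, 5, 1],
   [1, 0, 2, 3, 2, 1, 0, 4, 3, 2, 5, 1, 0],
   [1, 0, 2, 3, 2, 1, 0, 4, 3, 2, 5, 1, 2],
   [1, 0, 2, 3, 2, 1, 4, 3, 2, 1, 0, 5, 1],
   [1, 0, 2, 3, 2, 1, 0, 4, 3, 5, 1, 0, 2],
   [1, 0, 2, 3, 2, 1, 0, 4, 3, 5, 1, 2, 3],
   [1, 0, 2, 3, 2, 1, 0, 4, 5, 1, 2, 3, 2],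
   [1, 0, 2, 3, 2, 1, 4, 3, 2, 1, 0, 1, 0],
   [1, 0, 2, 3, 2, 1, 4, 3, 2, 1, 0, 1, 2],
   [1, 0, 2, 3, 2, 1, 4, 3, 2, 1, 0, 1, 5],
   [1, 0, 2, 3, 2, 1, 4, 3, 2, 1, 0, 3, 4],
   [1, 0, 2, 3, 2, 1, 4, 3, 2, 1, 0, 3, 5],
   [1, 0, 2, 3, 2, 1, 4, 3, 2, 1, 3, 2, 1],
   [1, 0, 2, 3, 2, 1, 4, 3, 2, 1, 3, 2, 4],
   [1, 0, 2, 3, 2, 1, 4, 3, 2, 1, 3, 2, 5],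
   [1, 0, 2, 3, 2, 1, 4, 3, 2, 1, 3, 4, 5],
   [1, 0, 2, 3, 2, 1, 4, 3, 2, 1, 3, 5, 1],
   [1, 0, 2, 3, 2, 1, 4, 3, 2, 1, 5, 1, 0],
   [1, 0, 2, 1, 3, 2, 1, 4, 3, 2, 3, 5, 1, 0, 1],
   [1, 0, 2, 3, 2, 1, 4, 3, 2, 3, 2, 1, 0]]

/-- Words. -/
def caseAImgs10 : List (List ℕ) :=
  [[1, 0, 2, 3, 2, 1, 4, 3, 2, 3, 2, 1, 4],
   [1, 0, 2, 3, 2, 1, 4, 3, 2, 3, 2, 1, 5],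
   [1, 0, 2, 3, 2, 1, 4, 3, 2, 3, 2, 4, 3],
   [1, 0, 2, 3, 2, 1, 4, 3, 2, 3, 2, 4, 5],
   [1, 0, 2, 3, 2, 1, 4, 3, 2, 3, 2, 5, 1],
   [1, 0, 2, 3, 2, 1, 4, 3, 2, 3, 4, 5, 1],
   [1, 0, 2, 3, 2, 1, 4, 3, 2, 3, 5, 1, 0],
   [1, 0, 2, 3, 2, 1, 4, 3, 2, 3, 5, 1, 2],
   [1, 0, 2, 1, 3, 2, 1, 4, 3, 2, 5, 1, 0, 1, 0, 5],
   [1, 0, 2, 3, 2, 1, 4, 3, 2, 5, 1, 0, 1],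
   [1, 0, 2, 3, 2, 1, 0, 4, 3, 2, 1, 5, 1, 0, 1],
   [1, 0, 2, 3, 2, 1, 4, 3, 2, 1, 0, 5, 1, 0, 1, 5],
   [1, 0, 2, 1, 3, 2, 4, 3, 2, 1, 5, 1, 0, 1, 2],
   [1, 0, 2, 3, 2, 4, 3, 2, 1, 0, 5, 1, 0],
   [1, 0, 2, 3, 2, 4, 3, 2, 1, 0, 5, 1, 2],
   [1, 2, 3, 2, 1, 0, 4, 3, 2, 1, 0, 1, 0],
   [1, 2, 3, 2, 1, 0, 4, 3, 2, 1, 0, 1, 3],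
   [1, 2, 3, 2, 1, 0, 4, 3, 2, 1, 0, 3, 2],
   [1, 2, 3, 2, 1, 0, 4, 3, 2, 1, 0, 3, 4],
   [1, 2, 3, 2, 1, 0, 4, 3, 2, 1, 0, 3, 5],
   [1, 2, 3, 2, 1, 0, 4, 3, 2, 1, 3, 2, 4],
   [1, 2, 3, 2, 1, 0, 4, 3, 2, 1, 3, 2, 5],
   [1, 2, 3, 2, 1, 0, 4, 3, 2, 1, 3, 4, 5],
   [1, 2, 3, 2, 1, 0, 4, 3, 2, 1, 3, 5, 1],
   [1, 2, 3, 2, 1, 0, 4, 3, 2, 1, 0, 3, 2, 5],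
   [1, 2, 3, 2, 1, 0, 4, 3, 2, 1, 5, 1, 0],
   [1, 2, 3, 2, 1, 0, 4, 3, 2, 1, 5, 1, 2],
   [1, 2, 3, 2, 1, 4, 3, 2, 3, 5, 1, 2, 3],
   [1, 2, 3, 2, 1, 4, 3, 2, 1, 3, 2, 3, 5],
   [1, 2, 3, 2, 1, 0, 4, 3, 2, 1, 3, 2, 3, 5, 1],
   [1, 2, 3, 2, 1, 0, 4, 3, 2, 3, 4, 5, 1],
   [1, 2, 3, 2, 1, 0, 4, 3, 2, 3, 5, 1, 0],
   [1, 2, 3, 2, 1, 0, 4, 3, 2, 3, 5, 1, 2],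
   [1, 2, 3, 2, 1, 4, 3, 2, 1, 0, 3, 5, 1],
   [1, 2, 3, 2, 1, 0, 4, 3, 2, 5, 1, 0, 1],
   [1, 2, 3, 2, 1, 0, 4, 3, 2, 5, 1, 0, 2],
   [1, 2, 3, 2, 1, 4, 3, 2, 1, 0, 5, 1, 0],
   [1, 2, 3, 2, 1, 0, 4, 3, 2, 5, 1, 2, 3],
   [1, 2, 3, 2, 1, 4, 3, 2, 1, 0, 5, 1, 2],
   [1, 2, 3, 2, 1, 4, 3, 2, 1, 0, 1, 5, 1],
   [1, 2, 3, 2, 1, 0, 4, 3, 5, 1, 0, 1, 2],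
   [1, 2, 3, 2, 1, 4, 3, 2, 1, 0, 1, 0, 3],
   [1, 2, 3, 2, 1, 4, 3, 2, 1, 0, 1, 0, 5],
   [1, 2, 3, 2, 1, 4, 3, 2, 1, 0, 1, 2, 5],
   [1, 2, 3, 2, 1, 4, 3, 2, 1, 0, 1, 3, 2],
   [1, 2, 3, 2, 1, 4, 3, 2, 1, 0, 1, 3, 4],
   [1, 2, 3, 2, 1, 4, 3, 2, 1, 0, 1, 3, 5],
   [1, 0, 2, 1, 3, 2, 1, 3, 4, 3, 2, 1, 3, 4],
   [1, 2, 3, 2, 1, 4, 3, 2, 5, 1, 0, 1, 0],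
   [1, 2, 3, 2, 1, 4, 3, 2, 1, 0, 3, 2, 1],
   [1, 2, 3, 2, 1, 4, 3, 2, 1, 0, 3, 2, 4],
   [1, 2, 3, 2, 1, 4, 3, 2, 1, 0, 3, 2, 5],
   [1, 2, 3, 2, 1, 4, 3, 2, 1, 0, 3, 4, 5],
   [1, 2, 3, 2, 1, 4, 3, 2, 1, 3, 2, 4, 5],
   [1, 2, 3, 2, 1, 4, 3, 2, 1, 3, 2, 5, 1],
   [1, 2, 3, 2, 1, 4, 3, 2, 1, 3, 4, 5, 1],
   [1, 2, 3, 2, 1, 4, 3, 2, 1, 3, 5, 1, 0],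
   [1, 2, 3, 2, 1, 4, 3, 2, 1, 3, 5, 1, 2],
   [1, 2, 3, 2, 1, 0, 4, 3, 2, 3, 5, 1, 0, 2],
   [1, 2, 3, 2, 1, 4, 3, 2, 1, 5, 1, 0, 2],
   [1, 2, 3, 2, 1, 0, 4, 3, 2, 5, 1, 2, 3, 2, 3],
   [1, 2, 3, 2, 1, 0, 4, 3, 2, 5, 1, 0, 1, 5],
   [1, 2, 3, 2, 1, 4, 3, 2, 3, 4, 5, 1, 0],
   [1, 2, 3, 2, 1, 4, 3, 2, 3, 4, 5, 1, 2]]

/-- Words. -/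
def caseAImgs11 : List (List ℕ) :=
  [[1, 2, 3, 2, 1, 0, 4, 3, 2, 1, 3, 4, 5, 1, 2],
   [1, 2, 3, 2, 1, 4, 3, 2, 3, 5, 1, 0, 1],
   [1, 2, 3, 2, 1, 4, 3, 2, 3, 5, 1, 0, 2],
   [1, 2, 3, 2, 1, 0, 4, 3, 2, 1, 3, 5, 1, 0, 1],
   [1, 2, 3, 2, 1, 4, 3, 2, 1, 3, 2, 5, 1, 0],
   [1, 2, 3, 2, 1, 4, 3, 2, 5, 1, 0, 2, 1],
   [1, 2, 3, 2, 1, 0, 4, 3, 2, 1, 5, 1, 0, 1, 2],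
   [1, 0, 2, 1, 3, 2, 3, 4, 3, 2, 1, 5, 1, 0, 1],
   [1, 2, 3, 2, 1, 4, 3, 2, 1, 3, 2, 3, 5, 1],
   [1, 2, 3, 2, 1, 4, 3, 2, 1, 0, 5, 1, 0, 1, 2, 5],
   [1, 2, 3, 2, 1, 4, 3, 2, 1, 0, 5, 1, 0, 1],
   [1, 2, 3, 2, 4, 3, 2, 1, 0, 1, 2, 5, 1],
   [1, 2, 3, 2, 4, 3, 2, 1, 0, 1, 5, 1, 0],
   [1, 2, 3, 2, 4, 3, 2, 1, 0, 1, 5, 1, 2],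
   [1, 2, 3, 2, 4, 3, 2, 1, 0, 5, 1, 0, 1],
   [1, 2, 3, 2, 4, 3, 2, 1, 0, 5, 1, 0, 2],
   [1, 2, 3, 2, 4, 3, 2, 1, 0, 5, 1, 2, 3],
   [1, 2, 3, 2, 4, 3, 2, 5, 1, 0, 1, 0, 5],
   [1, 2, 3, 2, 4, 3, 2, 1, 5, 1, 0, 1, 0],
   [1, 2, 3, 2, 4, 3, 2, 1, 5, 1, 0, 1, 2],
   [1, 2, 3, 2, 4, 3, 2, 1, 5, 1, 0, 1, 5],
   [1, 0, 1, 2, 3, 2, 4, 3, 2, 1, 0, 5, 1, 0],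
   [1, 2, 3, 2, 4, 3, 2, 1, 5, 1, 0, 2, 1],
   [1, 2, 3, 2, 4, 3, 2, 5, 1, 0, 1, 0, 2],
   [1, 2, 3, 2, 4, 3, 2, 5, 1, 0, 1, 2, 1],
   [1, 2, 3, 2, 4, 3, 2, 5, 1, 0, 1, 2, 5],
   [1, 2, 3, 2, 4, 3, 2, 5, 1, 0, 2, 1, 0],
   [1, 2, 3, 2, 4, 3, 2, 5, 1, 0, 2, 1, 5],
   [1, 0, 2, 1, 3, 2, 3, 4, 3, 2, 1, 0, 1, 3],
   [1, 2, 3, 2, 4, 3, 2, 1, 0, 1, 0, 2, 5, 1],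
   [1, 2, 3, 2, 4, 3, 2, 1, 0, 1, 0, 5, 1, 0],
   [1, 2, 3, 2, 4, 3, 2, 1, 0, 1, 0, 5, 1, 2],
   [1, 2, 3, 2, 4, 3, 2, 1, 0, 5, 1, 0, 1, 5],
   [1, 0, 1, 2, 1, 3, 2, 1, 4, 3, 2, 1, 5, 1],
   [1, 0, 1, 2, 1, 3, 2, 1, 4, 3, 2, 3, 5, 1],
   [1, 0, 1, 2, 1, 3, 2, 1, 4, 3, 2, 5, 1, 0],
   [1, 0, 1, 2, 1, 3, 2, 1, 4, 3, 2, 5, 1, 2],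
   [1, 0, 1, 2, 3, 2, 1, 4, 3, 2, 3, 5, 1, 2, 3],
   [1, 0, 1, 2, 1, 3, 2, 1, 4, 3, 5, 1, 2, 3],
   [1, 0, 1, 2, 1, 3, 2, 4, 3, 2, 1, 0, 5, 1],
   [1, 0, 1, 2, 1, 3, 2, 4, 3, 2, 1, 5, 1, 0],
   [1, 0, 1, 2, 1, 3, 2, 4, 3, 2, 1, 5, 1, 2],
   [1, 0, 1, 2, 1, 3, 2, 1, 4, 3, 2, 1, 0, 5, 1, 2],
   [1, 0, 1, 2, 1, 3, 2, 1, 4, 3, 2, 1, 0, 5, 1],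
   [1, 0, 1, 2, 1, 3, 2, 4, 3, 2, 5, 1, 0, 1],
   [1, 0, 1, 2, 1, 3, 2, 4, 3, 2, 5, 1, 0, 2],
   [1, 2, 3, 2, 4, 3, 2, 1, 0, 1, 0, 2, 5, 1, 2],
   [1, 0, 1, 2, 1, 3, 2, 4, 3, 2, 5, 1, 2, 3],
   [1, 2, 3, 2, 4, 3, 2, 1, 0, 1, 0, 2, 5, 1, 0],
   [1, 0, 2, 1, 3, 2, 3, 4, 3, 2, 3, 5, 1, 0, 1],
   [1, 0, 1, 2, 1, 3, 2, 4, 3, 5, 1, 2, 3, 4],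
   [1, 0, 2, 1, 3, 2, 3, 4, 3, 5, 1, 2, 3, 2],
   [1, 0, 2, 1, 3, 2, 3, 4, 3, 5, 1, 0, 1, 2, 1],
   [1, 0, 1, 2, 3, 2, 1, 4, 3, 2, 1, 0, 1, 0],
   [1, 0, 1, 2, 3, 2, 1, 4, 3, 2, 1, 0, 1, 5],
   [1, 0, 1, 2, 3, 2, 1, 4, 3, 2, 1, 0, 3, 5],
   [1, 0, 1, 2, 3, 2, 1, 4, 3, 2, 1, 0, 5, 1],
   [1, 0, 1, 2, 3, 2, 1, 4, 3, 2, 1, 3, 5, 1],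
   [1, 0, 2, 3, 2, 1, 4, 3, 2, 1, 0, 1, 2, 5],
   [1, 0, 2, 3, 2, 1, 4, 3, 2, 3, 2, 5, 1, 2],
   [1, 0, 1, 2, 3, 2, 1, 4, 3, 2, 1, 5, 1, 0],
   [1, 0, 2, 1, 3, 2, 4, 3, 2, 1, 5, 1, 0, 1, 0],
   [1, 0, 2, 3, 2, 4, 3, 2, 1, 0, 1, 2, 5, 1],
   [1, 0, 2, 3, 2, 1, 4, 3, 2, 3, 5, 1, 2, 3]]

/-- Words. -/
def caseAImgs12 : List (List ℕ) :=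
  [[1, 0, 1, 2, 3, 2, 1, 4, 3, 2, 3, 2, 1, 5],
   [1, 0, 1, 2, 3, 2, 1, 4, 3, 2, 3, 2, 5, 1],
   [1, 0, 1, 2, 3, 2, 1, 4, 3, 2, 3, 5, 1, 0],
   [1, 0, 1, 2, 3, 2, 1, 4, 3, 2, 3, 5, 1, 2],
   [1, 0, 1, 2, 1, 3, 2, 1, 4, 3, 2, 3, 5, 1, 2],
   [1, 0, 1, 2, 3, 2, 1, 4, 3, 2, 5, 1, 0, 1],
   [1, 0, 2, 1, 3, 2, 4, 3, 2, 1, 5, 1, 0, 1, 0, 5],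
   [1, 0, 2, 1, 3, 2, 4, 3, 2, 5, 1, 0, 1, 5],
   [1, 0, 2, 1, 3, 2, 4, 3, 2, 1, 5, 1, 0, 1],
   [1, 0, 2, 1, 3, 2, 3, 2, 4, 3, 2, 5, 1, 0],
   [1, 0, 2, 1, 3, 2, 3, 2, 4, 3, 2, 5, 1, 2],
   [1, 0, 2, 1, 3, 2, 3, 2, 4, 3, 2, 1, 5, 1],
   [1, 0, 2, 1, 3, 2, 3, 2, 4, 3, 5, 1, 2, 3],
   [1, 0, 1, 2, 3, 2, 4, 3, 2, 1, 0, 1, 0, 2],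
   [1, 0, 1, 2, 3, 2, 4, 3, 2, 1, 0, 1, 0, 5],
   [1, 0, 1, 2, 3, 2, 4, 3, 2, 1, 0, 1, 2, 5],
   [1, 0, 1, 2, 3, 2, 4, 3, 2, 1, 0, 1, 5, 1],
   [1, 0, 1, 2, 3, 2, 4, 3, 2, 1, 0, 5, 1, 2],
   [1, 0, 2, 3, 2, 4, 3, 2, 1, 0, 1, 5, 1, 0],
   [1, 0, 2, 3, 2, 4, 3, 2, 1, 0, 1, 5, 1, 2],
   [1, 2, 3, 2, 4, 3, 2, 5, 1, 0, 1, 0, 5, 1],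
   [1, 0, 2, 3, 2, 4, 3, 2, 1, 0, 1, 0, 5, 1, 2],
   [1, 2, 3, 2, 4, 3, 2, 1, 0, 5, 1, 0, 1, 0],
   [1, 0, 2, 1, 3, 2, 1, 0, 1, 4, 3, 2, 1, 0],
   [1, 0, 2, 1, 3, 2, 1, 0, 1, 4, 3, 2, 1, 3],
   [1, 0, 2, 1, 3, 2, 1, 0, 1, 4, 3, 2, 1, 5],
   [1, 0, 2, 1, 3, 2, 1, 0, 1, 4, 3, 2, 3, 5],
   [1, 0, 2, 1, 3, 2, 1, 0, 1, 4, 3, 2, 5, 1],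
   [1, 0, 2, 1, 3, 2, 1, 0, 4, 3, 2, 1, 0, 5],
   [1, 0, 2, 1, 3, 2, 1, 3, 4, 3, 2, 1, 0, 1],
   [1, 0, 2, 1, 3, 2, 1, 3, 4, 3, 2, 1, 0, 3],
   [1, 0, 2, 1, 3, 2, 1, 3, 4, 3, 2, 1, 0, 5],
   [1, 2, 3, 2, 1, 4, 3, 2, 1, 0, 1, 2, 3, 2],
   [1, 0, 2, 1, 3, 2, 1, 3, 4, 3, 2, 1, 3, 2],
   [1, 0, 2, 1, 3, 2, 1, 3, 4, 3, 2, 1, 3, 5],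
   [1, 0, 2, 1, 3, 2, 1, 3, 4, 3, 2, 1, 5, 1],
   [1, 0, 2, 1, 3, 2, 1, 0, 1, 4, 3, 2, 5, 1, 0],
   [1, 0, 2, 1, 3, 2, 1, 3, 4, 3, 2, 3, 4, 5],
   [1, 0, 2, 1, 3, 2, 1, 3, 4, 3, 2, 3, 5, 1],
   [1, 0, 2, 1, 3, 2, 1, 3, 4, 3, 2, 5, 1, 0],
   [1, 0, 2, 1, 3, 2, 1, 3, 4, 3, 2, 5, 1, 2],
   [1, 0, 2, 1, 3, 2, 1, 3, 4, 3, 5, 1, 2, 3],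
   [1, 0, 2, 1, 3, 2, 1, 4, 3, 2, 1, 0, 1, 5],
   [1, 0, 2, 1, 3, 2, 1, 4, 3, 2, 1, 3, 5, 1],
   [1, 0, 2, 1, 3, 2, 1, 4, 3, 2, 1, 5, 1, 0],
   [1, 0, 2, 1, 3, 2, 1, 0, 4, 3, 2, 5, 1, 0, 1],
   [1, 0, 2, 1, 3, 2, 1, 4, 3, 2, 3, 4, 5, 1],
   [1, 0, 2, 1, 3, 2, 1, 4, 3, 2, 3, 5, 1, 0],
   [1, 0, 2, 1, 3, 2, 1, 4, 3, 2, 3, 5, 1, 2],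
   [1, 0, 2, 1, 3, 2, 1, 4, 3, 2, 5, 1, 0, 1],
   [1, 0, 2, 1, 3, 2, 1, 4, 3, 2, 5, 1, 0, 2],
   [1, 0, 2, 1, 3, 2, 1, 4, 3, 5, 1, 0, 2, 1],
   [1, 0, 2, 1, 3, 2, 1, 4, 3, 5, 1, 0, 2, 3],
   [1, 0, 2, 1, 3, 2, 1, 4, 3, 5, 1, 2, 3, 4],
   [1, 0, 2, 1, 3, 2, 3, 2, 4, 3, 2, 1, 0, 5],
   [1, 0, 1, 2, 3, 2, 1, 4, 3, 2, 3, 2, 1, 0, 5],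
   [1, 0, 2, 1, 3, 2, 3, 4, 3, 2, 1, 0, 1, 5],
   [1, 0, 2, 1, 3, 2, 3, 4, 3, 2, 1, 0, 3, 5],
   [1, 0, 2, 1, 3, 2, 3, 4, 3, 2, 1, 0, 5, 1],
   [1, 0, 2, 1, 3, 2, 3, 4, 3, 2, 1, 3, 2, 3],
   [1, 0, 2, 1, 3, 2, 3, 4, 3, 2, 1, 3, 5, 1],
   [1, 2, 3, 2, 1, 4, 3, 2, 1, 0, 1, 0, 2, 5],
   [1, 0, 2, 1, 3, 2, 3, 4, 3, 2, 1, 5, 1, 0],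
   [1, 0, 2, 1, 3, 2, 3, 4, 3, 2, 1, 5, 1, 2]]

/-- Words. -/
def caseAImgs13 : List (List ℕ) :=
  [[1, 0, 2, 1, 3, 2, 3, 4, 5, 1, 2, 3, 2, 1],
   [1, 0, 2, 3, 2, 1, 4, 3, 2, 3, 4, 5, 1, 2, 3],
   [1, 0, 2, 1, 3, 2, 3, 4, 3, 2, 3, 5, 1, 0],
   [1, 0, 2, 1, 3, 2, 3, 4, 3, 2, 3, 5, 1, 2],
   [1, 0, 1, 2, 3, 2, 1, 4, 3, 2, 3, 2, 5, 1, 2],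
   [1, 0, 2, 1, 3, 2, 3, 4, 3, 2, 5, 1, 0, 1],
   [1, 0, 2, 1, 3, 2, 3, 4, 3, 2, 5, 1, 0, 2],
   [1, 0, 2, 1, 3, 2, 3, 4, 5, 1, 2, 3, 2, 1, 5],
   [1, 0, 2, 1, 3, 2, 3, 4, 3, 2, 5, 1, 2, 3],
   [1, 0, 2, 3, 2, 1, 0, 4, 3, 5, 1, 0, 2, 1, 0, 5],
   [1, 0, 2, 1, 3, 2, 3, 4, 5, 1, 2, 3, 2, 1, 0],
   [1, 0, 2, 1, 3, 2, 3, 4, 3, 5, 1, 2, 3, 4],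
   [1, 0, 2, 1, 3, 2, 3, 4, 5, 1, 2, 3, 2, 3],
   [1, 0, 2, 1, 3, 2, 4, 3, 2, 1, 0, 1, 0, 5],
   [1, 0, 2, 1, 3, 2, 4, 3, 2, 1, 0, 1, 2, 3],
   [1, 0, 2, 1, 3, 2, 4, 3, 2, 1, 0, 1, 2, 5],
   [1, 0, 2, 1, 3, 2, 4, 3, 2, 1, 0, 1, 5, 1],
   [1, 0, 2, 1, 3, 2, 4, 3, 2, 1, 0, 5, 1, 0],
   [1, 0, 2, 1, 3, 2, 4, 3, 2, 1, 0, 5, 1, 2],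
   [1, 0, 1, 2, 1, 3, 2, 4, 3, 2, 5, 1, 0, 2, 1, 3],
   [1, 0, 2, 1, 3, 2, 4, 3, 2, 1, 5, 1, 0, 2],
   [1, 0, 1, 2, 1, 3, 2, 1, 4, 3, 2, 1, 0, 3, 5, 1],
   [1, 2, 3, 2, 4, 3, 2, 1, 0, 1, 0, 2, 3, 5, 1, 0],
   [1, 2, 3, 2, 4, 3, 2, 1, 0, 1, 0, 2, 3, 5, 1, 2],
   [1, 0, 1, 2, 1, 3, 2, 4, 3, 2, 5, 1, 0, 2, 3],
   [1, 0, 2, 1, 3, 2, 4, 3, 2, 5, 1, 0, 1, 0],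
   [1, 0, 2, 1, 3, 2, 4, 3, 2, 5, 1, 0, 1, 2],
   [1, 0, 2, 1, 3, 2, 3, 2, 4, 3, 2, 1, 5, 1, 0],
   [1, 0, 2, 1, 3, 2, 4, 3, 2, 5, 1, 0, 2, 1],
   [1, 0, 2, 1, 3, 2, 4, 3, 2, 5, 1, 0, 2, 3],
   [1, 2, 3, 2, 1, 0, 4, 3, 2, 1, 5, 1, 2, 3],
   [1, 0, 2, 1, 3, 2, 3, 4, 3, 5, 1, 0, 1, 2, 1, 5],
   [1, 0, 2, 1, 3, 2, 4, 3, 2, 5, 1, 2, 3, 4],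
   [1, 2, 3, 2, 1, 0, 4, 3, 2, 1, 5, 1, 0, 2],
   [1, 2, 3, 2, 1, 0, 4, 3, 2, 1, 5, 1, 0, 2, 1, 3],
   [1, 2, 3, 2, 1, 0, 4, 3, 2, 5, 1, 0, 2, 3],
   [1, 0, 2, 1, 3, 2, 3, 4, 3, 2, 1, 3, 5, 1, 0],
   [1, 0, 2, 3, 2, 1, 4, 3, 2, 1, 3, 5, 1, 2],
   [1, 2, 3, 2, 1, 0, 1, 4, 3, 2, 1, 5, 1, 0],
   [1, 2, 3, 2, 1, 0, 1, 4, 3, 2, 1, 5, 1, 2],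
   [1, 0, 2, 1, 3, 2, 3, 4, 3, 2, 5, 1, 0, 1, 0],
   [1, 0, 1, 2, 1, 3, 2, 1, 4, 3, 2, 1, 3, 5, 1],
   [1, 2, 3, 2, 1, 0, 1, 4, 3, 2, 5, 1, 0, 1],
   [1, 2, 3, 2, 1, 0, 1, 4, 3, 2, 5, 1, 0, 2],
   [1, 0, 2, 1, 3, 2, 3, 4, 3, 2, 5, 1, 0, 1, 0, 5],
   [1, 2, 3, 2, 1, 0, 1, 4, 3, 2, 5, 1, 2, 3],
   [1, 0, 2, 1, 3, 2, 3, 4, 3, 2, 5, 1, 0, 1, 2, 5],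
   [1, 0, 2, 1, 3, 2, 4, 3, 5, 1, 0, 1, 2, 1],
   [1, 0, 2, 1, 3, 2, 4, 3, 5, 1, 0, 1, 2, 3],
   [1, 0, 2, 1, 3, 2, 4, 3, 5, 1, 0, 2, 1, 0],
   [1, 0, 2, 1, 3, 2, 4, 3, 5, 1, 0, 2, 1, 3],
   [1, 0, 2, 1, 3, 2, 4, 3, 5, 1, 0, 2, 1, 5],
   [1, 0, 2, 1, 3, 2, 4, 3, 2, 1, 0, 5, 1, 2, 3, 2],
   [1, 0, 2, 1, 3, 2, 4, 3, 5, 1, 0, 2, 3, 4],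
   [1, 0, 2, 1, 3, 2, 4, 3, 5, 1, 2, 3, 2, 4],
   [1, 0, 2, 1, 3, 2, 3, 4, 3, 5, 1, 0, 2, 3, 4],
   [1, 0, 2, 1, 3, 2, 3, 4, 3, 5, 1, 0, 2, 1, 3],
   [1, 0, 2, 1, 3, 2, 1, 3, 4, 3, 5, 1, 0, 2, 3],
   [1, 0, 2, 1, 3, 2, 3, 4, 3, 5, 1, 0, 2, 1, 0],
   [1, 0, 2, 1, 3, 2, 3, 4, 3, 5, 1, 0, 2, 1, 5],
   [1, 0, 2, 1, 3, 2, 1, 3, 4, 3, 5, 1, 0, 2, 1],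
   [1, 0, 2, 3, 2, 1, 0, 4, 3, 2, 1, 0, 3, 2],
   [1, 0, 2, 3, 2, 1, 0, 4, 3, 2, 1, 0, 3, 4],
   [1, 0, 2, 3, 2, 1, 0, 4, 3, 2, 1, 0, 3, 5]]

/-- Words. -/
def caseAImgs14 : List (List ℕ) :=
  [[1, 0, 2, 3, 2, 1, 0, 4, 3, 2, 1, 0, 5, 1],
   [1, 0, 2, 3, 2, 1, 0, 4, 3, 2, 1, 3, 2, 5],
   [1, 0, 2, 3, 2, 1, 0, 4, 3, 2, 1, 3, 4, 5],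
   [1, 0, 2, 3, 2, 1, 0, 4, 3, 2, 1, 3, 5, 1],
   [1, 0, 1, 2, 3, 2, 1, 4, 3, 2, 1, 0, 1, 2, 5],
   [1, 0, 2, 3, 2, 1, 0, 4, 3, 2, 1, 5, 1, 0],
   [1, 0, 2, 3, 2, 1, 0, 4, 3, 2, 1, 5, 1, 2],
   [1, 2, 3, 2, 1, 4, 3, 2, 3, 5, 1, 2, 3, 4],
   [1, 2, 3, 2, 1, 4, 3, 2, 1, 3, 2, 3, 4, 5],
   [1, 0, 2, 3, 2, 1, 4, 3, 2, 1, 0, 5, 1, 0, 1, 0],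
   [1, 0, 2, 3, 2, 1, 0, 4, 3, 2, 3, 4, 5, 1],
   [1, 0, 2, 3, 2, 1, 0, 4, 3, 2, 3, 5, 1, 0],
   [1, 0, 2, 3, 2, 1, 0, 4, 3, 2, 3, 5, 1, 2],
   [1, 0, 2, 3, 2, 1, 4, 3, 2, 1, 0, 3, 5, 1],
   [1, 0, 2, 3, 2, 1, 0, 4, 3, 2, 5, 1, 0, 1],
   [1, 0, 2, 3, 2, 1, 0, 4, 3, 2, 5, 1, 0, 2],
   [1, 0, 2, 3, 2, 1, 4, 3, 2, 1, 0, 5, 1, 0],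
   [1, 0, 2, 3, 2, 1, 0, 4, 3, 2, 5, 1, 2, 3],
   [1, 0, 2, 3, 2, 1, 4, 3, 2, 1, 0, 5, 1, 2],
   [1, 0, 2, 3, 2, 1, 4, 3, 2, 1, 0, 1, 5, 1],
   [1, 0, 2, 3, 2, 1, 0, 4, 3, 5, 1, 0, 2, 1],
   [1, 0, 2, 3, 2, 1, 0, 4, 3, 5, 1, 0, 2, 3],
   [1, 0, 2, 3, 2, 1, 0, 4, 5, 1, 2, 3, 2, 1],
   [1, 0, 2, 3, 2, 1, 0, 4, 5, 1, 2, 3, 2, 3],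
   [1, 0, 2, 3, 2, 1, 4, 3, 2, 1, 0, 3, 4, 5],
   [1, 0, 2, 3, 2, 1, 4, 3, 2, 1, 3, 4, 5, 1],
   [1, 0, 2, 3, 2, 1, 4, 3, 2, 1, 3, 5, 1, 0],
   [1, 0, 2, 3, 2, 1, 4, 3, 2, 3, 2, 1, 4, 3],
   [1, 0, 2, 3, 2, 1, 4, 3, 2, 3, 2, 4, 3, 5],
   [1, 0, 2, 3, 2, 1, 4, 3, 2, 3, 4, 5, 1, 0],
   [1, 0, 2, 3, 2, 1, 4, 3, 2, 3, 4, 5, 1, 2],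
   [1, 2, 3, 2, 1, 0, 1, 4, 3, 2, 5, 1, 0, 1, 2, 5],
   [1, 0, 2, 3, 2, 1, 4, 3, 2, 3, 5, 1, 0, 2],
   [1, 0, 2, 1, 3, 2, 1, 4, 3, 2, 5, 1, 0, 1, 5],
   [1, 0, 1, 2, 1, 3, 2, 1, 4, 3, 2, 5, 1, 0, 2, 3],
   [1, 0, 1, 2, 3, 2, 4, 3, 2, 1, 0, 1, 2, 5, 1, 0],
   [1, 0, 2, 1, 3, 2, 1, 4, 3, 2, 5, 1, 0, 1, 0],
   [1, 2, 3, 2, 1, 4, 3, 2, 1, 3, 2, 3, 4, 5, 1],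
   [1, 0, 2, 1, 3, 2, 4, 3, 2, 5, 1, 0, 1, 2, 5, 1],
   [1, 0, 2, 3, 2, 1, 4, 3, 2, 1, 0, 5, 1, 0, 1],
   [1, 0, 2, 3, 2, 4, 3, 2, 1, 0, 5, 1, 0, 1],
   [1, 0, 2, 3, 2, 4, 3, 2, 1, 0, 5, 1, 0, 2],
   [1, 0, 2, 3, 2, 4, 3, 2, 1, 0, 5, 1, 2, 3],
   [1, 2, 3, 2, 1, 0, 4, 3, 2, 1, 0, 1, 0, 3],
   [1, 2, 3, 2, 1, 0, 4, 3, 2, 1, 0, 1, 3, 2],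
   [1, 2, 3, 2, 1, 0, 4, 3, 2, 1, 0, 1, 3, 4],
   [1, 2, 3, 2, 1, 0, 4, 3, 2, 1, 0, 3, 2, 4],
   [1, 2, 3, 2, 1, 0, 4, 3, 2, 1, 0, 3, 4, 5],
   [1, 2, 3, 2, 1, 0, 4, 3, 2, 1, 3, 2, 4, 5],
   [1, 2, 3, 2, 1, 0, 4, 3, 2, 1, 3, 2, 5, 1],
   [1, 2, 3, 2, 1, 0, 4, 3, 2, 1, 3, 4, 5, 1],
   [1, 2, 3, 2, 1, 0, 4, 3, 2, 1, 0, 3, 2, 4, 5],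
   [1, 2, 3, 2, 1, 0, 4, 3, 2, 1, 3, 5, 1, 0],
   [1, 2, 3, 2, 1, 0, 4, 3, 2, 1, 3, 2, 3, 5, 1, 2],
   [1, 2, 3, 2, 1, 0, 4, 3, 2, 3, 4, 5, 1, 0],
   [1, 2, 3, 2, 1, 0, 4, 3, 2, 3, 4, 5, 1, 2],
   [1, 2, 3, 2, 1, 4, 3, 2, 1, 0, 3, 4, 5, 1],
   [1, 2, 3, 2, 1, 0, 4, 3, 2, 3, 5, 1, 0, 1],
   [1, 2, 3, 2, 1, 0, 4, 3, 2, 5, 1, 0, 1, 0],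
   [1, 2, 3, 2, 1, 0, 4, 3, 2, 5, 1, 0, 1, 2],
   [1, 2, 3, 2, 1, 0, 4, 3, 2, 5, 1, 0, 2, 1],
   [1, 2, 3, 2, 1, 4, 3, 2, 1, 0, 5, 1, 0, 2],
   [1, 2, 3, 2, 1, 0, 4, 3, 5, 1, 0, 1, 2, 3],
   [1, 2, 3, 2, 1, 4, 3, 2, 1, 0, 1, 0, 3, 2]]

/-- Words. -/
def caseAImgs15 : List (List ℕ) :=
  [[1, 2, 3, 2, 1, 4, 3, 2, 1, 0, 1, 0, 3, 4],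
   [1, 2, 3, 2, 1, 4, 3, 2, 1, 0, 1, 0, 3, 5],
   [1, 2, 3, 2, 1, 4, 3, 2, 1, 0, 1, 3, 2, 1],
   [1, 2, 3, 2, 1, 4, 3, 2, 1, 0, 1, 3, 2, 3],
   [1, 2, 3, 2, 1, 4, 3, 2, 1, 0, 1, 3, 2, 5],
   [1, 0, 2, 1, 3, 2, 1, 3, 4, 3, 2, 1, 3, 2, 3],
   [1, 2, 3, 2, 1, 4, 3, 2, 1, 0, 1, 3, 4, 5],
   [1, 2, 3, 2, 1, 4, 3, 2, 3, 5, 1, 0, 1, 0],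
   [1, 2, 3, 2, 1, 4, 3, 2, 1, 0, 3, 2, 1, 4],
   [1, 2, 3, 2, 1, 4, 3, 2, 1, 0, 3, 2, 4, 5],
   [1, 2, 3, 2, 1, 4, 3, 2, 1, 3, 2, 4, 5, 1],
   [1, 2, 3, 2, 1, 4, 3, 2, 1, 3, 2, 5, 1, 2],
   [1, 2, 3, 2, 1, 4, 3, 2, 1, 3, 4, 5, 1, 0],
   [1, 2, 3, 2, 1, 4, 3, 2, 1, 3, 4, 5, 1, 2],
   [1, 2, 3, 2, 1, 0, 4, 3, 2, 3, 4, 5, 1, 0, 2],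
   [1, 2, 3, 2, 1, 0, 4, 3, 2, 3, 5, 1, 0, 1, 5],
   [1, 2, 3, 2, 1, 4, 3, 2, 1, 5, 1, 0, 2, 1],
   [1, 0, 2, 1, 3, 2, 1, 3, 4, 3, 2, 5, 1, 2, 3],
   [1, 2, 3, 2, 1, 4, 3, 2, 3, 4, 5, 1, 0, 1],
   [1, 2, 3, 2, 1, 4, 3, 2, 3, 4, 5, 1, 0, 2],
   [1, 2, 3, 2, 1, 0, 4, 3, 2, 1, 3, 4, 5, 1, 0, 1],
   [1, 2, 3, 2, 1, 4, 3, 2, 3, 4, 5, 1, 2, 3],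
   [1, 2, 3, 2, 1, 4, 3, 2, 1, 3, 2, 4, 5, 1, 0],
   [1, 2, 3, 2, 1, 4, 3, 2, 3, 5, 1, 0, 1, 2],
   [1, 2, 3, 2, 1, 4, 3, 2, 5, 1, 0, 2, 1, 0],
   [1, 0, 1, 2, 3, 2, 1, 4, 3, 2, 3, 2, 1, 5, 1, 0],
   [1, 0, 1, 2, 3, 2, 1, 4, 3, 2, 1, 0, 1, 5, 1, 0],
   [1, 2, 3, 2, 1, 4, 3, 2, 1, 3, 2, 3, 5, 1, 2],
   [1, 2, 3, 2, 1, 4, 3, 2, 1, 0, 5, 1, 0, 1, 2, 3, 2],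
   [1, 2, 3, 2, 1, 4, 3, 2, 1, 0, 5, 1, 0, 1, 2],
   [1, 2, 3, 2, 4, 3, 2, 1, 0, 1, 5, 1, 0, 1],
   [1, 2, 3, 2, 4, 3, 2, 1, 0, 1, 5, 1, 0, 2],
   [1, 2, 3, 2, 4, 3, 2, 1, 0, 5, 1, 0, 1, 2],
   [1, 2, 3, 2, 4, 3, 2, 1, 0, 5, 1, 0, 2, 1],
   [1, 2, 3, 2, 4, 3, 2, 1, 0, 5, 1, 0, 2, 3],
   [1, 2, 3, 2, 4, 3, 2, 1, 0, 5, 1, 2, 3, 4],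
   [1, 2, 3, 2, 4, 3, 2, 5, 1, 0, 1, 0, 2, 5],
   [1, 2, 3, 2, 4, 3, 2, 1, 5, 1, 0, 1, 0, 2],
   [1, 2, 3, 2, 4, 3, 2, 1, 5, 1, 0, 1, 0, 5],
   [1, 2, 3, 2, 4, 3, 2, 1, 5, 1, 0, 1, 2, 1],
   [1, 2, 3, 2, 4, 3, 2, 1, 5, 1, 0, 1, 2, 3],
   [1, 2, 3, 2, 4, 3, 2, 1, 5, 1, 0, 1, 2, 5],
   [1, 0, 1, 2, 3, 2, 4, 3, 2, 1, 0, 5, 1, 0, 2],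
   [1, 2, 3, 2, 4, 3, 2, 1, 5, 1, 0, 2, 1, 0],
   [1, 2, 3, 2, 4, 3, 2, 1, 5, 1, 0, 2, 1, 5],
   [1, 0, 1, 2, 1, 3, 2, 4, 3, 2, 5, 1, 0, 2, 1],
   [1, 2, 3, 2, 4, 3, 2, 5, 1, 0, 1, 2, 1, 5],
   [1, 2, 3, 2, 4, 3, 2, 5, 1, 0, 1, 2, 5, 1],
   [1, 2, 3, 2, 4, 3, 2, 5, 1, 0, 2, 1, 0, 5],
   [1, 0, 2, 1, 3, 2, 4, 3, 2, 1, 0, 1, 2, 3, 5],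
   [1, 0, 2, 1, 3, 2, 3, 4, 3, 2, 1, 0, 1, 3, 5],
   [1, 2, 3, 2, 4, 3, 2, 1, 0, 1, 0, 5, 1, 0, 2],
   [1, 2, 3, 2, 4, 3, 2, 1, 0, 1, 0, 5, 1, 2, 3],
   [1, 2, 3, 2, 4, 3, 2, 1, 0, 5, 1, 0, 1, 2, 5],
   [1, 0, 1, 2, 1, 3, 2, 1, 4, 3, 2, 1, 5, 1, 0],
   [1, 0, 1, 2, 1, 3, 2, 1, 4, 3, 2, 1, 5, 1, 2],
   [1, 0, 1, 2, 1, 3, 2, 4, 3, 2, 1, 0, 5, 1, 2],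
   [1, 0, 1, 2, 1, 3, 2, 1, 4, 3, 2, 3, 5, 1, 0],
   [1, 0, 1, 2, 1, 3, 2, 1, 4, 3, 2, 5, 1, 0, 1],
   [1, 0, 1, 2, 1, 3, 2, 1, 4, 3, 2, 5, 1, 0, 2],
   [1, 0, 2, 3, 2, 1, 4, 3, 2, 3, 5, 1, 2, 3, 2],
   [1, 0, 1, 2, 1, 3, 2, 1, 4, 3, 2, 5, 1, 2, 3],
   [1, 0, 2, 3, 2, 1, 4, 3, 2, 3, 5, 1, 0, 2, 3],
   [1, 0, 1, 2, 3, 2, 1, 4, 3, 2, 3, 5, 1, 0, 1]]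

/-- Words. -/
def caseAImgs16 : List (List ℕ) :=
  [[1, 0, 1, 2, 1, 3, 2, 1, 4, 3, 5, 1, 2, 3, 4],
   [1, 0, 1, 2, 1, 3, 2, 4, 3, 2, 1, 0, 5, 1, 0],
   [1, 0, 1, 2, 1, 3, 2, 4, 3, 2, 1, 5, 1, 0, 1],
   [1, 0, 1, 2, 1, 3, 2, 4, 3, 2, 1, 5, 1, 0, 2],
   [1, 0, 1, 2, 1, 3, 2, 4, 3, 2, 1, 5, 1, 2, 3],
   [1, 0, 1, 2, 1, 3, 2, 1, 4, 3, 2, 1, 0, 5, 1, 0],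
   [1, 0, 1, 2, 1, 3, 2, 4, 3, 2, 5, 1, 0, 1, 0],
   [1, 0, 1, 2, 1, 3, 2, 4, 3, 2, 5, 1, 0, 1, 2],
   [1, 0, 1, 2, 1, 3, 2, 4, 3, 2, 5, 1, 0, 1, 5],
   [1, 2, 3, 2, 4, 3, 2, 1, 0, 5, 1, 0, 1, 2, 5, 1],
   [1, 0, 1, 2, 1, 3, 2, 4, 3, 2, 5, 1, 2, 3, 2],
   [1, 0, 1, 2, 1, 3, 2, 4, 3, 2, 5, 1, 2, 3, 4],
   [1, 0, 2, 1, 3, 2, 4, 3, 2, 1, 0, 5, 1, 2, 3, 4],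
   [1, 0, 2, 1, 3, 2, 3, 4, 3, 5, 1, 2, 3, 2, 4],
   [1, 0, 1, 2, 3, 2, 1, 4, 3, 2, 1, 0, 5, 1, 0],
   [1, 0, 1, 2, 3, 2, 1, 4, 3, 2, 1, 0, 3, 5, 1],
   [1, 0, 1, 2, 3, 2, 1, 4, 3, 2, 1, 0, 1, 0, 5],
   [1, 0, 1, 2, 3, 2, 1, 4, 3, 2, 1, 0, 1, 5, 1],
   [1, 0, 2, 3, 2, 1, 0, 4, 3, 2, 1, 0, 3, 2, 5],
   [1, 0, 1, 2, 3, 2, 1, 4, 3, 2, 1, 0, 5, 1, 2],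
   [1, 0, 1, 2, 1, 3, 2, 1, 4, 3, 2, 5, 1, 0, 2, 1],
   [1, 0, 1, 2, 3, 2, 1, 4, 3, 2, 1, 3, 5, 1, 0],
   [1, 2, 3, 2, 1, 4, 3, 2, 1, 5, 1, 0, 2, 1, 0],
   [1, 0, 1, 2, 3, 2, 1, 4, 3, 2, 1, 5, 1, 0, 1],
   [1, 2, 3, 2, 1, 0, 4, 3, 5, 1, 0, 1, 2, 3, 4],
   [1, 0, 1, 2, 3, 2, 1, 4, 3, 2, 3, 2, 1, 5, 1],
   [1, 0, 1, 2, 3, 2, 1, 4, 3, 2, 3, 2, 5, 1, 0],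
   [1, 0, 1, 2, 3, 2, 1, 4, 3, 2, 3, 5, 1, 0, 2],
   [1, 0, 1, 2, 1, 3, 2, 1, 4, 3, 2, 3, 5, 1, 0, 2],
   [1, 0, 1, 2, 3, 2, 1, 4, 3, 2, 5, 1, 0, 1, 0],
   [1, 0, 1, 2, 1, 3, 2, 1, 4, 3, 2, 1, 3, 5, 1, 0],
   [1, 2, 3, 2, 4, 3, 2, 1, 5, 1, 0, 2, 1, 0, 5],
   [1, 0, 2, 1, 3, 2, 4, 3, 2, 5, 1, 0, 1, 0, 5],
   [1, 0, 2, 1, 3, 2, 4, 3, 2, 5, 1, 0, 1, 2, 5],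
   [1, 0, 2, 1, 3, 2, 3, 2, 4, 3, 2, 5, 1, 0, 1],
   [1, 0, 2, 1, 3, 2, 3, 2, 4, 3, 2, 5, 1, 0, 2],
   [1, 0, 2, 1, 3, 2, 3, 2, 4, 3, 2, 5, 1, 2, 3],
   [1, 0, 2, 1, 3, 2, 3, 2, 4, 3, 2, 1, 5, 1, 2],
   [1, 0, 1, 2, 3, 2, 4, 3, 2, 1, 0, 1, 0, 2, 5],
   [1, 0, 1, 2, 3, 2, 4, 3, 2, 1, 0, 1, 2, 5, 1],
   [1, 0, 1, 2, 3, 2, 4, 3, 2, 1, 0, 1, 5, 1, 2],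
   [1, 0, 1, 2, 3, 2, 4, 3, 2, 1, 0, 5, 1, 2, 3],
   [1, 0, 2, 1, 3, 2, 1, 4, 3, 2, 3, 5, 1, 2, 3],
   [1, 0, 2, 1, 3, 2, 1, 4, 3, 2, 3, 5, 1, 0, 2],
   [1, 2, 3, 2, 4, 3, 2, 5, 1, 0, 1, 0, 5, 1, 2],
   [1, 0, 1, 2, 3, 2, 1, 4, 3, 2, 3, 5, 1, 0, 2, 1],
   [1, 2, 3, 2, 4, 3, 2, 1, 0, 5, 1, 0, 1, 0, 2],
   [1, 0, 2, 1, 3, 2, 1, 0, 1, 4, 3, 2, 1, 0, 5],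
   [1, 0, 2, 1, 3, 2, 1, 0, 1, 4, 3, 2, 1, 3, 2],
   [1, 0, 2, 1, 3, 2, 1, 0, 1, 4, 3, 2, 1, 3, 5],
   [1, 0, 2, 1, 3, 2, 1, 0, 1, 4, 3, 2, 3, 5, 1],
   [1, 0, 2, 1, 3, 2, 1, 3, 4, 3, 2, 1, 0, 1, 5],
   [1, 0, 2, 1, 3, 2, 1, 3, 4, 3, 2, 1, 0, 3, 2],
   [1, 0, 2, 1, 3, 2, 1, 3, 4, 3, 2, 1, 3, 2, 5],
   [1, 0, 2, 1, 3, 2, 1, 3, 4, 3, 2, 1, 3, 5, 1],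
   [1, 0, 2, 1, 3, 2, 1, 3, 4, 3, 2, 1, 5, 1, 0],
   [1, 2, 3, 2, 1, 4, 3, 2, 3, 4, 5, 1, 0, 2, 3],
   [1, 0, 2, 1, 3, 2, 1, 3, 4, 3, 2, 3, 4, 5, 1],
   [1, 0, 2, 1, 3, 2, 1, 3, 4, 3, 2, 3, 5, 1, 0],
   [1, 0, 2, 1, 3, 2, 1, 3, 4, 3, 2, 3, 5, 1, 2],
   [1, 0, 2, 1, 3, 2, 1, 3, 4, 3, 2, 5, 1, 0, 1],
   [1, 0, 2, 1, 3, 2, 1, 3, 4, 3, 2, 5, 1, 0, 2],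
   [1, 0, 2, 1, 3, 2, 1, 3, 4, 3, 5, 1, 2, 3, 4],
   [1, 0, 2, 1, 3, 2, 1, 4, 3, 2, 1, 3, 5, 1, 2]]

/-- Words. -/
def caseAImgs17 : List (List ℕ) :=
  [[1, 2, 3, 2, 1, 4, 3, 2, 3, 4, 5, 1, 2, 3, 4],
   [1, 0, 2, 1, 3, 2, 1, 0, 4, 3, 2, 5, 1, 0, 1, 2],
   [1, 0, 2, 3, 2, 1, 0, 4, 3, 2, 1, 3, 5, 1, 0],
   [1, 0, 2, 1, 3, 2, 1, 4, 3, 2, 3, 4, 5, 1, 2],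
   [1, 0, 2, 1, 3, 2, 1, 4, 3, 2, 5, 1, 0, 1, 2],
   [1, 0, 2, 1, 3, 2, 1, 4, 3, 2, 5, 1, 0, 2, 1],
   [1, 0, 2, 1, 3, 2, 1, 4, 3, 5, 1, 0, 2, 1, 0],
   [1, 0, 2, 1, 3, 2, 1, 4, 3, 5, 1, 0, 2, 1, 3],
   [1, 0, 2, 1, 3, 2, 1, 4, 3, 5, 1, 0, 2, 1, 5],
   [1, 0, 2, 1, 3, 2, 1, 0, 4, 3, 2, 5, 1, 0, 1, 2, 3],
   [1, 0, 2, 1, 3, 2, 1, 4, 3, 5, 1, 0, 2, 3, 4],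
   [1, 0, 2, 1, 3, 2, 3, 2, 4, 3, 2, 1, 0, 5, 1],
   [1, 0, 1, 2, 3, 2, 1, 4, 3, 2, 3, 2, 1, 0, 5, 1],
   [1, 0, 2, 1, 3, 2, 3, 4, 3, 2, 1, 0, 1, 5, 1],
   [1, 0, 2, 1, 3, 2, 3, 4, 3, 2, 1, 0, 3, 5, 1],
   [1, 0, 2, 1, 3, 2, 3, 4, 3, 2, 1, 0, 5, 1, 0],
   [1, 0, 2, 1, 3, 2, 3, 4, 3, 2, 1, 0, 5, 1, 2],
   [1, 0, 2, 1, 3, 2, 4, 3, 2, 1, 0, 5, 1, 0, 2],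
   [1, 0, 2, 1, 3, 2, 3, 4, 3, 2, 1, 3, 2, 3, 2],
   [1, 0, 2, 1, 3, 2, 3, 4, 5, 1, 2, 3, 2, 1, 3],
   [1, 0, 2, 1, 3, 2, 3, 4, 3, 2, 1, 5, 1, 0, 2],
   [1, 0, 2, 1, 3, 2, 3, 4, 3, 2, 1, 5, 1, 2, 3],
   [1, 0, 2, 3, 2, 1, 4, 3, 2, 3, 4, 5, 1, 0, 2, 3],
   [1, 0, 2, 3, 2, 1, 4, 3, 2, 3, 4, 5, 1, 2, 3, 2],
   [1, 0, 2, 1, 3, 2, 3, 4, 3, 2, 3, 5, 1, 0, 2],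
   [1, 0, 1, 2, 3, 2, 1, 4, 3, 2, 3, 2, 5, 1, 0, 2],
   [1, 0, 2, 1, 3, 2, 3, 4, 3, 2, 5, 1, 0, 1, 2],
   [1, 0, 2, 1, 3, 2, 3, 4, 3, 2, 5, 1, 0, 2, 1],
   [1, 0, 2, 1, 3, 2, 3, 4, 3, 2, 5, 1, 0, 2, 3],
   [1, 0, 2, 3, 2, 1, 0, 4, 3, 5, 1, 0, 2, 1, 5],
   [1, 0, 2, 1, 3, 2, 4, 3, 5, 1, 0, 1, 2, 1, 5],
   [1, 0, 2, 1, 3, 2, 3, 4, 3, 2, 5, 1, 2, 3, 2],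
   [1, 0, 2, 1, 3, 2, 3, 4, 3, 2, 5, 1, 2, 3, 4],
   [1, 0, 2, 1, 3, 2, 3, 2, 4, 3, 2, 5, 1, 0, 2, 3, 2],
   [1, 0, 2, 3, 2, 1, 0, 4, 3, 5, 1, 0, 2, 1, 0],
   [1, 0, 2, 1, 3, 2, 3, 4, 5, 1, 2, 3, 2, 3, 4],
   [1, 0, 2, 1, 3, 2, 4, 3, 2, 1, 0, 1, 0, 5, 1],
   [1, 0, 2, 1, 3, 2, 4, 3, 2, 1, 0, 1, 2, 5, 1],
   [1, 0, 2, 1, 3, 2, 4, 3, 2, 1, 0, 1, 5, 1, 0],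
   [1, 0, 2, 1, 3, 2, 4, 3, 2, 1, 0, 1, 5, 1, 2],
   [1, 0, 2, 1, 3, 2, 3, 4, 3, 2, 1, 0, 1, 5, 1, 2],
   [1, 0, 2, 1, 3, 2, 4, 3, 2, 1, 0, 5, 1, 0, 1],
   [1, 0, 2, 1, 3, 2, 4, 3, 2, 1, 0, 5, 1, 2, 3],
   [1, 0, 1, 2, 1, 3, 2, 1, 4, 3, 2, 1, 5, 1, 0, 1],
   [1, 0, 2, 1, 3, 2, 4, 3, 2, 1, 5, 1, 0, 2, 1],
   [1, 2, 3, 2, 4, 3, 2, 1, 0, 5, 1, 0, 1, 0, 2, 1],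
   [1, 2, 3, 2, 4, 3, 2, 1, 5, 1, 0, 1, 0, 2, 1, 0],
   [1, 0, 1, 2, 1, 3, 2, 1, 4, 3, 2, 5, 1, 0, 2, 1, 0],
   [1, 0, 2, 3, 2, 1, 0, 4, 5, 1, 2, 3, 2, 1, 0, 1],
   [1, 2, 3, 2, 4, 3, 2, 1, 0, 1, 0, 2, 3, 5, 1, 2, 3],
   [1, 0, 1, 2, 1, 3, 2, 4, 3, 2, 5, 1, 0, 2, 3, 2],
   [1, 0, 2, 1, 3, 2, 4, 3, 2, 5, 1, 0, 1, 0, 2],
   [1, 0, 2, 1, 3, 2, 4, 3, 2, 5, 1, 0, 1, 2, 1],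
   [1, 0, 2, 1, 3, 2, 3, 2, 4, 3, 2, 1, 5, 1, 0, 2],
   [1, 0, 2, 1, 3, 2, 3, 2, 4, 3, 2, 1, 5, 1, 0, 1],
   [1, 0, 2, 3, 2, 1, 0, 4, 3, 2, 5, 1, 0, 2, 3, 4],
   [1, 2, 3, 2, 1, 0, 1, 4, 3, 2, 1, 5, 1, 2, 3],
   [1, 0, 2, 3, 2, 1, 0, 4, 3, 2, 1, 3, 2, 5, 1],
   [1, 0, 2, 3, 2, 1, 0, 4, 3, 2, 1, 5, 1, 0, 2],
   [1, 2, 3, 2, 1, 0, 4, 3, 2, 1, 5, 1, 0, 2, 1],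
   [1, 0, 1, 2, 3, 2, 1, 4, 3, 2, 1, 0, 1, 5, 1, 2, 3],
   [1, 0, 1, 2, 3, 2, 1, 4, 3, 2, 1, 0, 5, 1, 0, 2, 3],
   [1, 0, 2, 3, 2, 1, 4, 3, 2, 1, 3, 5, 1, 0, 2],
   [1, 2, 3, 2, 1, 0, 1, 4, 3, 2, 1, 5, 1, 0, 1]]

/-- Words. -/
def caseAImgs18 : List (List ℕ) :=
  [[1, 2, 3, 2, 1, 0, 1, 4, 3, 2, 1, 5, 1, 0, 2],
   [1, 0, 2, 1, 3, 2, 3, 4, 3, 2, 5, 1, 0, 1, 0, 2],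
   [1, 2, 3, 2, 1, 0, 1, 4, 3, 2, 5, 1, 0, 1, 0],
   [1, 2, 3, 2, 1, 0, 1, 4, 3, 2, 5, 1, 0, 1, 2],
   [1, 2, 3, 2, 1, 0, 1, 4, 3, 2, 5, 1, 0, 1, 5],
   [1, 0, 2, 1, 3, 2, 3, 2, 4, 3, 2, 1, 0, 5, 1, 0],
   [1, 2, 3, 2, 1, 0, 1, 4, 3, 2, 5, 1, 0, 2, 1],
   [1, 2, 3, 2, 1, 0, 1, 4, 3, 2, 5, 1, 0, 2, 3],
   [1, 0, 2, 1, 3, 2, 3, 4, 3, 2, 5, 1, 0, 1, 0, 2, 5],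
   [1, 0, 2, 1, 3, 2, 3, 4, 3, 2, 5, 1, 0, 1, 2, 3, 5],
   [1, 0, 2, 1, 3, 2, 4, 3, 5, 1, 0, 2, 1, 0, 1],
   [1, 0, 2, 1, 3, 2, 4, 3, 5, 1, 0, 2, 1, 0, 3],
   [1, 0, 2, 1, 3, 2, 4, 3, 5, 1, 0, 2, 1, 0, 5],
   [1, 0, 2, 1, 3, 2, 4, 3, 2, 1, 0, 5, 1, 0, 2, 3, 2],
   [1, 0, 2, 1, 3, 2, 4, 3, 5, 1, 0, 2, 1, 3, 2],
   [1, 0, 2, 1, 3, 2, 4, 3, 5, 1, 0, 2, 1, 3, 4],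
   [1, 0, 2, 1, 3, 2, 4, 3, 5, 1, 0, 2, 1, 3, 5],
   [1, 0, 2, 1, 3, 2, 4, 3, 2, 1, 0, 5, 1, 2, 3, 2, 3],
   [1, 2, 3, 2, 1, 0, 1, 4, 3, 2, 1, 5, 1, 0, 1, 2],
   [1, 0, 2, 1, 3, 2, 4, 3, 2, 1, 0, 1, 5, 1, 2, 3, 2],
   [1, 2, 3, 2, 4, 3, 2, 1, 0, 5, 1, 0, 2, 1, 0],
   [1, 0, 2, 1, 3, 2, 1, 3, 4, 3, 5, 1, 0, 2, 3, 4],
   [1, 0, 2, 3, 2, 4, 3, 2, 1, 0, 5, 1, 0, 2, 1],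
   [1, 0, 2, 1, 3, 2, 3, 4, 3, 5, 1, 0, 2, 1, 3, 2],
   [1, 0, 2, 1, 3, 2, 3, 4, 3, 5, 1, 0, 2, 1, 3, 5],
   [1, 0, 2, 1, 3, 2, 3, 4, 3, 5, 1, 0, 2, 1, 0, 5],
   [1, 0, 2, 1, 3, 2, 1, 3, 4, 3, 5, 1, 0, 2, 1, 5],
   [1, 0, 1, 2, 3, 2, 1, 4, 3, 2, 1, 0, 5, 1, 2, 3],
   [1, 0, 1, 2, 1, 3, 2, 4, 3, 2, 5, 1, 2, 3, 2, 3],
   [1, 0, 2, 3, 2, 1, 0, 4, 3, 2, 1, 0, 3, 4, 5],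
   [1, 0, 2, 3, 2, 1, 0, 4, 3, 2, 1, 3, 4, 5, 1],
   [1, 0, 2, 3, 2, 1, 0, 4, 3, 2, 1, 3, 5, 1, 2],
   [1, 0, 1, 2, 3, 2, 1, 4, 3, 2, 1, 0, 1, 2, 5, 1],
   [1, 0, 2, 3, 2, 1, 0, 4, 3, 2, 1, 5, 1, 2, 3],
   [1, 0, 2, 3, 2, 1, 4, 3, 2, 1, 0, 5, 1, 0, 1, 0, 2],
   [1, 0, 2, 3, 2, 1, 0, 4, 3, 2, 3, 4, 5, 1, 0],
   [1, 0, 2, 3, 2, 1, 0, 4, 3, 2, 3, 4, 5, 1, 2],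
   [1, 0, 2, 3, 2, 1, 4, 3, 2, 1, 0, 3, 4, 5, 1],
   [1, 0, 2, 3, 2, 1, 0, 4, 3, 2, 3, 5, 1, 0, 2],
   [1, 0, 2, 3, 2, 1, 4, 3, 2, 1, 0, 3, 5, 1, 0],
   [1, 0, 2, 3, 2, 1, 0, 4, 3, 2, 3, 5, 1, 2, 3],
   [1, 0, 2, 3, 2, 1, 4, 3, 2, 1, 0, 3, 5, 1, 2],
   [1, 0, 2, 3, 2, 1, 0, 4, 3, 2, 5, 1, 0, 2, 1],
   [1, 0, 2, 3, 2, 1, 0, 4, 3, 2, 5, 1, 0, 2, 3],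
   [1, 0, 2, 3, 2, 1, 4, 3, 2, 1, 0, 5, 1, 0, 2],
   [1, 0, 2, 3, 2, 1, 0, 4, 3, 2, 5, 1, 2, 3, 2],
   [1, 0, 2, 3, 2, 1, 0, 4, 3, 2, 5, 1, 2, 3, 4],
   [1, 0, 2, 3, 2, 1, 4, 3, 2, 1, 0, 5, 1, 2, 3],
   [1, 0, 2, 3, 2, 1, 0, 4, 5, 1, 2, 3, 2, 1, 0],
   [1, 0, 2, 3, 2, 1, 0, 4, 5, 1, 2, 3, 2, 1, 3],
   [1, 0, 2, 3, 2, 1, 0, 4, 5, 1, 2, 3, 2, 1, 5],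
   [1, 2, 3, 2, 1, 4, 3, 2, 1, 0, 5, 1, 0, 1, 2, 1, 3],
   [1, 0, 2, 3, 2, 1, 4, 3, 2, 1, 3, 4, 5, 1, 0],
   [1, 0, 2, 3, 2, 1, 4, 3, 2, 3, 2, 1, 4, 3, 2],
   [1, 0, 2, 3, 2, 1, 4, 3, 2, 3, 4, 5, 1, 0, 2],
   [1, 0, 2, 1, 3, 2, 1, 3, 4, 3, 2, 5, 1, 0, 1, 5],
   [1, 2, 3, 2, 4, 3, 2, 5, 1, 0, 1, 2, 5, 1, 0],
   [1, 0, 1, 2, 1, 3, 2, 1, 4, 3, 2, 5, 1, 0, 2, 1, 3],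
   [1, 0, 1, 2, 3, 2, 4, 3, 2, 1, 0, 1, 2, 5, 1, 0, 2],
   [1, 0, 2, 3, 2, 1, 4, 3, 2, 1, 0, 3, 5, 1, 0, 1],
   [1, 2, 3, 2, 1, 4, 3, 2, 1, 3, 2, 3, 4, 5, 1, 2],
   [1, 0, 2, 3, 2, 1, 4, 3, 2, 1, 0, 5, 1, 0, 1, 2],
   [1, 2, 3, 2, 1, 4, 3, 2, 1, 0, 5, 1, 0, 1, 2, 3],
   [1, 0, 2, 3, 2, 4, 3, 2, 1, 0, 5, 1, 0, 1, 2]]

/-- Words. -/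
def caseAImgs19 : List (List ℕ) :=
  [[1, 2, 3, 2, 1, 0, 4, 3, 2, 1, 0, 1, 0, 3, 2],
   [1, 2, 3, 2, 1, 0, 4, 3, 2, 1, 0, 1, 3, 2, 3],
   [1, 2, 3, 2, 1, 0, 4, 3, 2, 1, 3, 2, 4, 5, 1],
   [1, 2, 3, 2, 1, 0, 4, 3, 2, 1, 3, 4, 5, 1, 0],
   [1, 2, 3, 2, 1, 0, 4, 3, 2, 1, 3, 2, 3, 5, 1, 2, 3],
   [1, 2, 3, 2, 1, 0, 4, 3, 2, 3, 4, 5, 1, 0, 1],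
   [1, 2, 3, 2, 1, 0, 4, 3, 2, 3, 5, 1, 0, 1, 0],
   [1, 2, 3, 2, 1, 0, 4, 3, 2, 3, 5, 1, 0, 1, 2],
   [1, 0, 2, 1, 3, 2, 3, 2, 4, 3, 2, 1, 5, 1, 2, 3],
   [1, 2, 3, 2, 1, 4, 3, 2, 1, 0, 5, 1, 0, 2, 1],
   [1, 2, 3, 2, 1, 4, 3, 2, 1, 0, 1, 0, 3, 2, 1],
   [1, 2, 3, 2, 1, 4, 3, 2, 1, 0, 1, 0, 3, 2, 3],
   [1, 2, 3, 2, 1, 4, 3, 2, 1, 0, 1, 0, 3, 2, 5],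
   [1, 2, 3, 2, 1, 4, 3, 2, 1, 0, 1, 3, 2, 1, 3],
   [1, 2, 3, 2, 1, 4, 3, 2, 1, 0, 1, 3, 2, 3, 5],
   [1, 2, 3, 2, 1, 4, 3, 2, 3, 5, 1, 0, 1, 0, 2],
   [1, 2, 3, 2, 1, 4, 3, 2, 1, 3, 2, 4, 5, 1, 2],
   [1, 2, 3, 2, 1, 4, 3, 2, 1, 3, 4, 5, 1, 2, 3],
   [1, 2, 3, 2, 1, 0, 4, 3, 2, 3, 5, 1, 0, 1, 2, 1],
   [1, 2, 3, 2, 1, 4, 3, 2, 3, 4, 5, 1, 0, 1, 2],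
   [1, 2, 3, 2, 1, 4, 3, 2, 1, 3, 2, 3, 5, 1, 2, 3],
   [1, 2, 3, 2, 1, 4, 3, 2, 1, 0, 5, 1, 0, 1, 2, 1],
   [1, 2, 3, 2, 4, 3, 2, 1, 0, 1, 5, 1, 0, 1, 2],
   [1, 2, 3, 2, 4, 3, 2, 1, 0, 1, 5, 1, 0, 2, 1],
   [1, 2, 3, 2, 4, 3, 2, 1, 0, 5, 1, 0, 1, 2, 1],
   [1, 2, 3, 2, 4, 3, 2, 1, 0, 5, 1, 0, 1, 2, 3],
   [1, 2, 3, 2, 4, 3, 2, 1, 0, 5, 1, 0, 2, 1, 3],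
   [1, 2, 3, 2, 4, 3, 2, 1, 0, 5, 1, 0, 2, 1, 5],
   [1, 2, 3, 2, 4, 3, 2, 1, 5, 1, 0, 1, 2, 1, 5],
   [1, 2, 3, 2, 4, 3, 2, 1, 0, 5, 1, 0, 2, 3, 4],
   [1, 2, 3, 2, 4, 3, 2, 5, 1, 0, 1, 2, 1, 5, 1],
   [1, 2, 3, 2, 4, 3, 2, 1, 5, 1, 0, 1, 0, 2, 1],
   [1, 2, 3, 2, 4, 3, 2, 1, 5, 1, 0, 1, 0, 2, 3],
   [1, 2, 3, 2, 4, 3, 2, 1, 5, 1, 0, 1, 0, 2, 5],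
   [1, 2, 3, 2, 4, 3, 2, 1, 5, 1, 0, 1, 2, 1, 0],
   [1, 2, 3, 2, 4, 3, 2, 1, 5, 1, 0, 1, 2, 1, 3],
   [1, 0, 1, 2, 1, 3, 2, 4, 3, 2, 5, 1, 0, 1, 2, 1],
   [1, 2, 3, 2, 4, 3, 2, 1, 5, 1, 0, 1, 2, 3, 2],
   [1, 2, 3, 2, 4, 3, 2, 1, 5, 1, 0, 1, 2, 3, 4],
   [1, 2, 3, 2, 4, 3, 2, 1, 5, 1, 0, 1, 2, 3, 5],
   [1, 0, 1, 2, 3, 2, 4, 3, 2, 1, 0, 5, 1, 0, 2, 3],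
   [1, 2, 3, 2, 4, 3, 2, 1, 5, 1, 0, 1, 2, 5, 1],
   [1, 0, 1, 2, 3, 2, 4, 3, 2, 1, 0, 5, 1, 0, 2, 1],
   [1, 0, 1, 2, 1, 3, 2, 4, 3, 2, 5, 1, 0, 2, 1, 0],
   [1, 0, 1, 2, 1, 3, 2, 4, 3, 2, 5, 1, 0, 2, 1, 5],
   [1, 2, 3, 2, 4, 3, 2, 1, 5, 1, 0, 1, 2, 1, 5, 1],
   [1, 2, 3, 2, 4, 3, 2, 5, 1, 0, 2, 1, 0, 5, 1],
   [1, 0, 2, 1, 3, 2, 3, 4, 3, 2, 1, 0, 1, 3, 5, 1],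
   [1, 0, 1, 2, 3, 2, 1, 4, 3, 2, 1, 0, 1, 0, 5, 1],
   [1, 2, 3, 2, 4, 3, 2, 1, 0, 1, 0, 5, 1, 2, 3, 2],
   [1, 0, 2, 1, 3, 2, 4, 3, 2, 5, 1, 0, 1, 0, 5, 1],
   [1, 2, 3, 2, 4, 3, 2, 1, 0, 5, 1, 0, 1, 2, 3, 5],
   [1, 0, 1, 2, 1, 3, 2, 1, 4, 3, 2, 1, 5, 1, 0, 2],
   [1, 0, 1, 2, 1, 3, 2, 1, 4, 3, 2, 5, 1, 0, 1, 2],
   [1, 0, 1, 2, 1, 3, 2, 1, 4, 3, 2, 5, 1, 2, 3, 4],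
   [1, 0, 1, 2, 1, 3, 2, 4, 3, 2, 1, 0, 5, 1, 0, 1],
   [1, 0, 2, 1, 3, 2, 3, 4, 3, 2, 1, 0, 1, 5, 1, 0],
   [1, 2, 3, 2, 4, 3, 2, 1, 0, 5, 1, 0, 1, 0, 2, 3],
   [1, 0, 1, 2, 1, 3, 2, 4, 3, 2, 5, 1, 0, 1, 0, 2],
   [1, 0, 1, 2, 1, 3, 2, 4, 3, 2, 5, 1, 0, 1, 2, 3],
   [1, 0, 1, 2, 1, 3, 2, 4, 3, 2, 5, 1, 0, 1, 2, 5],
   [1, 0, 1, 2, 1, 3, 2, 4, 3, 2, 5, 1, 2, 3, 2, 4],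
   [1, 0, 2, 1, 3, 2, 3, 2, 4, 3, 2, 1, 5, 1, 0, 1, 0],
   [1, 0, 1, 2, 3, 2, 1, 4, 3, 2, 1, 0, 5, 1, 0, 2]]

/-- Words. -/
def caseAImgs20 : List (List ℕ) :=
  [[1, 0, 1, 2, 3, 2, 1, 4, 3, 2, 1, 0, 1, 5, 1, 2],
   [1, 0, 2, 3, 2, 4, 3, 2, 1, 0, 5, 1, 0, 1, 2, 1],
   [1, 0, 2, 3, 2, 1, 0, 4, 3, 2, 1, 5, 1, 0, 2, 1],
   [1, 0, 2, 1, 3, 2, 3, 4, 3, 2, 5, 1, 2, 3, 2, 3],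
   [1, 0, 2, 1, 3, 2, 3, 4, 3, 2, 5, 1, 0, 2, 3, 2],
   [1, 0, 2, 1, 3, 2, 3, 2, 4, 3, 2, 5, 1, 0, 2, 1],
   [1, 0, 2, 1, 3, 2, 3, 2, 4, 3, 2, 5, 1, 0, 2, 3],
   [1, 0, 2, 1, 3, 2, 3, 2, 4, 3, 2, 5, 1, 2, 3, 2],
   [1, 0, 1, 2, 3, 2, 4, 3, 2, 1, 0, 1, 2, 5, 1, 2],
   [1, 0, 1, 2, 3, 2, 4, 3, 2, 1, 0, 1, 5, 1, 2, 3],
   [1, 0, 1, 2, 3, 2, 4, 3, 2, 1, 0, 5, 1, 2, 3, 2],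
   [1, 0, 1, 2, 3, 2, 4, 3, 2, 1, 0, 5, 1, 2, 3, 4],
   [1, 0, 2, 1, 3, 2, 3, 4, 3, 2, 3, 5, 1, 0, 2, 1],
   [1, 0, 2, 1, 3, 2, 1, 0, 1, 4, 3, 2, 1, 3, 2, 5],
   [1, 0, 2, 1, 3, 2, 1, 0, 1, 4, 3, 2, 3, 5, 1, 2],
   [1, 0, 2, 1, 3, 2, 1, 3, 4, 3, 2, 1, 3, 2, 5, 1],
   [1, 0, 2, 1, 3, 2, 1, 3, 4, 3, 2, 1, 3, 5, 1, 2],
   [1, 2, 3, 2, 1, 0, 1, 4, 3, 2, 5, 1, 0, 2, 1, 0],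
   [1, 0, 2, 3, 2, 1, 0, 4, 3, 2, 1, 3, 4, 5, 1, 0],
   [1, 0, 2, 1, 3, 2, 1, 3, 4, 3, 2, 3, 4, 5, 1, 2],
   [1, 0, 2, 1, 3, 2, 1, 3, 4, 3, 2, 3, 5, 1, 0, 2],
   [1, 0, 2, 1, 3, 2, 1, 4, 3, 5, 1, 0, 2, 1, 0, 1],
   [1, 0, 2, 1, 3, 2, 3, 2, 4, 3, 2, 5, 1, 0, 2, 1, 3],
   [1, 0, 2, 1, 3, 2, 1, 4, 3, 5, 1, 0, 2, 1, 3, 4],
   [1, 0, 2, 3, 2, 1, 0, 4, 3, 2, 5, 1, 0, 2, 1, 3, 2],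
   [1, 0, 2, 3, 2, 1, 4, 3, 2, 1, 0, 3, 5, 1, 2, 3],
   [1, 0, 1, 2, 3, 2, 1, 4, 3, 2, 3, 2, 1, 0, 5, 1, 2],
   [1, 0, 2, 1, 3, 2, 4, 3, 2, 1, 0, 5, 1, 0, 2, 3],
   [1, 2, 3, 2, 1, 0, 1, 4, 3, 2, 5, 1, 0, 2, 1, 3],
   [1, 0, 2, 1, 3, 2, 3, 4, 3, 2, 5, 1, 0, 1, 2, 1],
   [1, 0, 2, 1, 3, 2, 3, 4, 3, 2, 5, 1, 0, 1, 2, 3],
   [1, 0, 2, 1, 3, 2, 3, 4, 3, 2, 5, 1, 2, 3, 2, 4],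
   [1, 0, 2, 3, 2, 1, 0, 4, 3, 2, 1, 5, 1, 0, 2, 3],
   [1, 0, 2, 1, 3, 2, 4, 3, 2, 1, 0, 1, 2, 5, 1, 2],
   [1, 0, 2, 1, 3, 2, 4, 3, 2, 1, 0, 1, 5, 1, 2, 3],
   [1, 0, 2, 1, 3, 2, 3, 4, 3, 2, 5, 1, 0, 1, 2, 3, 2],
   [1, 0, 2, 3, 2, 1, 0, 4, 5, 1, 2, 3, 2, 1, 0, 1, 3],
   [1, 0, 2, 1, 3, 2, 3, 2, 4, 3, 2, 1, 5, 1, 0, 2, 3],
   [1, 0, 2, 1, 3, 2, 3, 4, 3, 2, 5, 1, 0, 1, 0, 2, 3],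
   [1, 2, 3, 2, 1, 0, 1, 4, 3, 2, 1, 5, 1, 0, 2, 3],
   [1, 0, 2, 3, 2, 1, 4, 3, 2, 1, 3, 5, 1, 0, 2, 1],
   [1, 2, 3, 2, 1, 0, 1, 4, 3, 2, 1, 5, 1, 0, 2, 1],
   [1, 2, 3, 2, 1, 0, 1, 4, 3, 2, 5, 1, 0, 2, 1, 5],
   [1, 0, 2, 1, 3, 2, 4, 3, 5, 1, 0, 2, 1, 0, 5, 1],
   [1, 0, 2, 1, 3, 2, 3, 4, 3, 2, 5, 1, 0, 1, 0, 2, 3, 5],
   [1, 0, 2, 1, 3, 2, 4, 3, 5, 1, 0, 2, 1, 0, 3, 2],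
   [1, 0, 2, 1, 3, 2, 4, 3, 5, 1, 0, 2, 1, 0, 3, 5],
   [1, 2, 3, 2, 4, 3, 2, 1, 5, 1, 0, 1, 2, 1, 3, 2],
   [1, 2, 3, 2, 4, 3, 2, 1, 5, 1, 0, 1, 2, 5, 1, 0],
   [1, 2, 3, 2, 4, 3, 2, 1, 5, 1, 0, 1, 2, 1, 0, 3],
   [1, 0, 2, 3, 2, 1, 0, 4, 3, 2, 1, 5, 1, 0, 2, 1, 3],
   [1, 2, 3, 2, 4, 3, 2, 1, 5, 1, 0, 1, 2, 1, 3, 4],
   [1, 2, 3, 2, 4, 3, 2, 1, 5, 1, 0, 1, 2, 1, 0, 3, 4],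
   [1, 2, 3, 2, 4, 3, 2, 1, 5, 1, 0, 1, 0, 2, 1, 3],
   [1, 0, 1, 2, 3, 2, 1, 4, 3, 2, 1, 0, 1, 2, 5, 1, 2],
   [1, 0, 2, 3, 2, 1, 4, 3, 2, 1, 0, 3, 4, 5, 1, 2],
   [1, 0, 2, 3, 2, 1, 4, 3, 2, 1, 0, 3, 5, 1, 0, 2],
   [1, 0, 2, 3, 2, 1, 0, 4, 3, 2, 3, 5, 1, 2, 3, 2],
   [1, 0, 2, 3, 2, 1, 0, 4, 3, 2, 5, 1, 0, 2, 1, 3],
   [1, 0, 2, 3, 2, 1, 0, 4, 3, 2, 5, 1, 0, 2, 3, 2],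
   [1, 0, 2, 3, 2, 1, 0, 4, 5, 1, 2, 3, 2, 1, 0, 3],
   [1, 0, 2, 1, 3, 2, 3, 4, 3, 2, 5, 1, 2, 3, 2, 4, 3],
   [1, 0, 2, 1, 3, 2, 3, 4, 3, 2, 5, 1, 0, 1, 2, 1, 3],
   [1, 2, 3, 2, 1, 4, 3, 2, 1, 3, 2, 4, 5, 1, 2, 3]]

/-- Words. -/
def caseAImgs21 : List (List ℕ) :=
  [[1, 0, 1, 2, 3, 2, 4, 3, 2, 1, 0, 1, 2, 5, 1, 2, 3],
   [1, 0, 2, 3, 2, 4, 3, 2, 1, 0, 5, 1, 0, 1, 2, 3],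
   [1, 2, 3, 2, 1, 0, 4, 3, 2, 1, 0, 1, 0, 3, 2, 1],
   [1, 2, 3, 2, 1, 0, 4, 3, 2, 3, 4, 5, 1, 0, 1, 2],
   [1, 2, 3, 2, 1, 0, 4, 3, 2, 3, 5, 1, 0, 1, 0, 2],
   [1, 2, 3, 2, 1, 4, 3, 2, 1, 0, 1, 0, 3, 2, 1, 3],
   [1, 2, 3, 2, 1, 4, 3, 2, 3, 5, 1, 0, 1, 0, 2, 1],
   [1, 2, 3, 2, 4, 3, 2, 1, 5, 1, 0, 1, 2, 1, 3, 5, 1],
   [1, 2, 3, 2, 4, 3, 2, 1, 5, 1, 0, 1, 2, 1, 3, 5],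
   [1, 2, 3, 2, 4, 3, 2, 1, 5, 1, 0, 1, 0, 2, 3, 2],
   [1, 2, 3, 2, 4, 3, 2, 1, 5, 1, 0, 1, 0, 2, 3, 4],
   [1, 2, 3, 2, 4, 3, 2, 1, 5, 1, 0, 1, 0, 2, 3, 5],
   [1, 2, 3, 2, 4, 3, 2, 1, 5, 1, 0, 1, 2, 3, 2, 1],
   [1, 2, 3, 2, 4, 3, 2, 1, 5, 1, 0, 1, 2, 3, 2, 3],
   [1, 0, 1, 2, 3, 2, 4, 3, 2, 1, 0, 1, 5, 1, 2, 3, 2],
   [1, 2, 3, 2, 4, 3, 2, 1, 5, 1, 0, 1, 2, 3, 5, 1],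
   [1, 2, 3, 2, 1, 4, 3, 2, 1, 3, 2, 4, 5, 1, 2, 3, 2],
   [1, 0, 2, 1, 3, 2, 1, 0, 1, 4, 3, 2, 1, 3, 2, 5, 1],
   [1, 0, 2, 1, 3, 2, 1, 3, 4, 3, 2, 1, 3, 2, 5, 1, 2],
   [1, 2, 3, 2, 4, 3, 2, 1, 5, 1, 0, 1, 2, 1, 3, 2, 1],
   [1, 2, 3, 2, 1, 0, 4, 3, 2, 3, 5, 1, 0, 1, 0, 2, 1]]

/-- Words. -/
def caseAImgs : List (List ℕ) :=
  caseAImgs0 ++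
  caseAImgs1 ++
  caseAImgs2 ++
  caseAImgs3 ++
  caseAImgs4 ++
  caseAImgs5 ++
  caseAImgs6 ++
  caseAImgs7 ++
  caseAImgs8 ++
  caseAImgs9 ++
  caseAImgs10 ++
  caseAImgs11 ++
  caseAImgs12 ++
  caseAImgs13 ++
  caseAImgs14 ++
  caseAImgs15 ++
  caseAImgs16 ++
  caseAImgs17 ++
  caseAImgs18 ++
  caseAImgs19 ++
  caseAImgs20 ++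
  caseAImgs21

/-- Words. -/
def caseATws0 : List (List ℕ) :=
  [[],
   [0],
   [2],
   [5],
   [0, 5],
   [0, 2],
   [2, 3],
   [2, 5],
   [0, 2, 5],
   [2, 5, 1, 0, 1, 5, 0, 1],
   [0, 2, 3],
   [2, 3, 2],
   [2, 3, 4],
   [2, 3, 5],
   [2, 5, 1, 0, 5, 1, 0, 1],
   [0, 2, 3, 5],
   [0, 2, 1, 0, 1, 5, 0, 1],
   [2, 3, 5, 1, 0, 1, 5, 0, 1],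
   [2, 1, 0, 1, 5, 0, 1, 0],
   [2, 1, 0, 5, 1, 0, 1],
   [0, 2, 3, 2],
   [0, 2, 3, 4],
   [2, 3, 2, 4],
   [2, 3, 2, 5],
   [2, 3, 4, 5],
   [2, 3, 5, 1, 0, 5, 1, 0, 1],
   [0, 2, 1, 0, 5, 1, 0, 1],
   [0, 2, 3, 2, 5],
   [0, 2, 3, 4, 5],
   [0, 2, 3, 1, 0, 1, 5, 0, 1],
   [2, 1, 0, 1, 5, 0, 1],
   [2, 3, 5, 1, 0, 1, 5, 0, 1, 2],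
   [2, 3, 4, 5, 1, 0, 1, 5, 0, 1],
   [2, 1, 0, 1, 5, 0, 1, 0, 3],
   [2, 3, 1, 0, 5, 1, 0, 1],
   [2, 1, 0, 1, 5, 0, 1, 2],
   [0, 2, 3, 2, 4],
   [2, 3, 2, 4, 3],
   [2, 3, 2, 4, 5],
   [0, 2, 3, 1, 0, 1, 5, 0, 1, 2],
   [2, 3, 1, 0, 5, 1, 0, 1, 2, 0],
   [2, 3, 4, 5, 1, 0, 5, 1, 0, 1],
   [0, 2, 3, 1, 0, 5, 1, 0, 1],
   [0, 2, 3, 1, 0, 1, 5, 0, 1, 2, 3],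
   [0, 2, 3, 2, 4, 5],
   [0, 2, 3, 4, 1, 0, 1, 5, 0, 1],
   [2, 3, 1, 0, 1, 5, 0, 1],
   [2, 3, 1, 0, 5, 1, 0, 1, 2, 3, 2],
   [2, 3, 4, 5, 1, 0, 1, 5, 0, 1, 2],
   [2, 1, 0, 1, 5, 0, 1, 0, 3, 2],
   [2, 3, 1, 0, 5, 1, 0, 1, 2],
   [2, 1, 0, 1, 5, 0, 1, 0, 3, 4],
   [2, 3, 4, 1, 0, 5, 1, 0, 1],
   [2, 1, 0, 1, 5, 0, 1, 2, 3],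
   [0, 2, 3, 2, 4, 3],
   [2, 3, 1, 0, 1, 5, 0, 1, 2],
   [2, 3, 2, 4, 3, 2],
   [2, 3, 2, 4, 3, 5],
   [0, 2, 3, 1, 0, 1, 5, 0, 1, 2, 4],
   [2, 3, 1, 0, 5, 1, 0, 1, 2, 0, 3],
   [2, 3, 1, 0, 5, 1, 0, 1, 2, 0, 4],
   [0, 2, 3, 1, 0, 5, 1, 0, 1, 2],
   [0, 2, 3, 4, 1, 0, 5, 1, 0, 1],
   [0, 2, 3, 1, 0, 1, 5, 0, 1, 2, 3, 4]]

/-- Words. -/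
def caseATws1 : List (List ℕ) :=
  [[2, 3, 1, 0, 1, 5, 0, 1, 2, 3],
   [0, 2, 3, 2, 4, 3, 5],
   [2, 3, 4, 1, 0, 1, 5, 0, 1],
   [2, 3, 1, 0, 5, 1, 0, 1, 2, 3],
   [2, 3, 1, 0, 5, 1, 0, 1, 2, 3, 2, 4],
   [2, 1, 0, 1, 5, 0, 1, 0, 3, 2, 3],
   [2, 3, 4, 5, 1, 0, 1, 5, 0, 1, 2, 3],
   [2, 1, 0, 1, 5, 0, 1, 0, 3, 2, 4],
   [2, 3, 1, 0, 5, 1, 0, 1, 2, 4],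
   [2, 3, 2, 1, 0, 1, 5, 0, 1, 2],
   [2, 1, 0, 1, 5, 0, 1, 2, 3, 2],
   [2, 1, 0, 1, 5, 0, 1, 2, 3, 4],
   [0, 2, 3, 2, 4, 3, 2],
   [2, 3, 1, 0, 1, 5, 0, 1, 2, 4],
   [2, 3, 2, 4, 3, 2, 5],
   [0, 2, 3, 1, 0, 1, 5, 0, 1, 2, 4, 3],
   [2, 3, 1, 0, 5, 1, 0, 1, 2, 0, 3, 4],
   [0, 2, 3, 1, 0, 5, 1, 0, 1, 2, 3],
   [2, 3, 1, 0, 5, 1, 0, 1, 2, 0, 4, 3],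
   [0, 2, 3, 1, 0, 5, 1, 0, 1, 2, 4],
   [2, 3, 2, 1, 0, 1, 5, 0, 1],
   [0, 2, 3, 1, 0, 1, 5, 0, 1, 2, 3, 4, 3],
   [2, 3, 1, 0, 1, 5, 0, 1, 2, 3, 4],
   [2, 1, 0, 1, 5, 0, 1, 2, 3, 2, 3],
   [0, 2, 3, 2, 4, 3, 2, 5],
   [0, 2, 3, 2, 1, 0, 1, 5, 0, 1, 2],
   [2, 3, 1, 0, 5, 1, 0, 1, 2, 3, 4],
   [2, 3, 1, 0, 5, 1, 0, 1, 2, 3, 2, 4, 3],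
   [2, 1, 0, 1, 5, 0, 1, 0, 3, 2, 3, 4],
   [0, 2, 3, 2, 1, 0, 5, 1, 0, 1, 2],
   [2, 3, 4, 5, 1, 0, 1, 5, 0, 1, 2, 3, 2],
   [2, 1, 0, 1, 5, 0, 1, 0, 3, 2, 4, 3],
   [2, 3, 1, 0, 5, 1, 0, 1, 2, 4, 3],
   [2, 3, 2, 1, 0, 1, 5, 0, 1, 2, 4],
   [2, 1, 0, 1, 5, 0, 1, 2, 3, 2, 4],
   [2, 3, 2, 1, 0, 1, 5, 0, 1, 0, 2],
   [2, 3, 2, 1, 0, 5, 1, 0, 1, 2, 5],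
   [2, 3, 1, 0, 1, 5, 0, 1, 2, 4, 3],
   [2, 3, 4, 1, 2, 3, 2, 5, 1, 0, 2, 3, 1, 2, 0, 1, 4, 0, 3, 2],
   [0, 2, 3, 1, 0, 1, 5, 0, 1, 2, 4, 3, 2],
   [2, 3, 1, 0, 5, 1, 0, 1, 2, 0, 3, 4, 3],
   [0, 2, 3, 1, 0, 5, 1, 0, 1, 2, 3, 4],
   [0, 2, 3, 2, 1, 0, 1, 5, 0, 1],
   [2, 3, 1, 0, 5, 1, 0, 1, 2, 0, 4, 3, 2],
   [0, 2, 3, 1, 0, 5, 1, 0, 1, 2, 4, 3],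
   [2, 3, 2, 4, 1, 0, 1, 5, 0, 1],
   [2, 3, 2, 1, 0, 1, 5, 0, 1, 0],
   [2, 3, 2, 1, 0, 5, 1, 0, 1, 5],
   [0, 2, 3, 1, 0, 1, 5, 0, 1, 2, 3, 4, 3, 2],
   [2, 3, 1, 0, 1, 5, 0, 1, 2, 3, 4, 3],
   [2, 1, 0, 1, 5, 0, 1, 2, 3, 2, 3, 4],
   [2, 3, 4, 1, 2, 3, 2, 5, 1, 0, 2, 3, 1, 2, 0, 1, 3, 0, 4, 3, 2],
   [2, 3, 2, 5, 1, 0, 1, 5, 0, 1],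
   [2, 3, 2, 1, 0, 5, 1, 0, 1, 2, 0],
   [0, 2, 3, 2, 1, 0, 1, 5, 0, 1, 2, 4],
   [2, 3, 2, 1, 0, 5, 1, 0, 1, 2, 3],
   [2, 3, 1, 0, 5, 1, 0, 1, 2, 3, 4, 3],
   [2, 3, 1, 0, 5, 1, 0, 1, 2, 3, 2, 4, 3, 2],
   [2, 1, 0, 1, 5, 0, 1, 0, 3, 2, 3, 4, 3],
   [0, 2, 3, 2, 1, 0, 5, 1, 0, 1, 2, 4],
   [0, 2, 3, 2, 1, 0, 5, 1, 0, 1],
   [2, 3, 4, 1, 2, 3, 2, 5, 1, 0, 2, 3, 1, 2, 0, 1, 4, 0],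
   [2, 1, 0, 1, 5, 0, 1, 0, 3, 2, 4, 3, 2],
   [2, 3, 1, 0, 5, 1, 0, 1, 2, 4, 3, 2]]

/-- Words. -/
def caseATws2 : List (List ℕ) :=
  [[2, 3, 2, 1, 0, 1, 5, 0, 1, 2, 4, 3],
   [2, 1, 0, 1, 5, 0, 1, 2, 3, 2, 4, 3],
   [2, 3, 2, 1, 0, 1, 5, 0, 1, 0, 2, 4],
   [2, 3, 2, 1, 0, 5, 1, 0, 1, 2, 4, 5],
   [2, 3, 2, 5, 1, 0, 5, 1, 0, 1],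
   [2, 3, 2, 1, 0, 5, 1, 0, 1, 2],
   [2, 1, 0, 1, 5, 0, 1, 2, 3, 2, 4, 1, 0, 2, 1, 3, 2, 0, 1, 5, 2, 3, 2, 1],
   [2, 3, 2, 1, 0, 5, 1, 0, 1],
   [2, 3, 2, 4, 5, 1, 0, 2, 1, 3, 2, 0, 1, 5, 2, 3, 2, 1],
   [2, 3, 1, 0, 1, 5, 0, 1, 2, 4, 3, 2],
   [2, 3, 2, 4, 3, 2, 1, 0, 2, 1, 3, 2, 0, 1, 5, 2, 3, 2, 1, 2, 3, 2, 4, 3, 2],
   [0, 2, 3, 4, 1, 2, 3, 2, 5, 1, 0, 2, 3, 1, 2, 0, 1, 4, 3, 2],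
   [2, 3, 4, 1, 2, 3, 2, 5, 1, 0, 2, 3, 1, 2, 0, 1, 4, 3, 2],
   [2, 3, 4, 1, 2, 3, 2, 5, 1, 0, 2, 3, 1, 2, 0, 1, 4, 0, 3],
   [0, 2, 3, 4, 1, 0, 5, 1, 0, 1, 1, 2, 3, 2, 5, 1, 0, 2, 3, 1, 2, 0, 1, 4, 3, 2],
   [2, 3, 1, 0, 5, 1, 0, 1, 2, 0, 3, 4, 3, 2],
   [0, 2, 3, 1, 0, 5, 1, 0, 1, 2, 3, 4, 3],
   [0, 2, 3, 2, 4, 1, 0, 1, 5, 0, 1],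
   [0, 2, 3, 1, 0, 1, 5, 0, 1, 2, 4, 1, 2, 3, 2, 5, 1, 0, 2, 3, 1, 2, 0, 1],
   [0, 2, 3, 1, 0, 5, 1, 0, 1, 2, 4, 3, 2],
   [2, 3, 2, 4, 3, 1, 0, 1, 5, 0, 1],
   [2, 3, 2, 1, 0, 1, 5, 0, 1, 0, 4],
   [2, 3, 2, 1, 0, 5, 1, 0, 1, 5, 4],
   [2, 3, 4, 1, 2, 3, 2, 5, 1, 0, 2, 3, 1, 2, 0, 1, 3, 0, 4, 3],
   [0, 2, 3, 1, 0, 1, 5, 0, 1, 2, 3, 4, 3, 2, 3],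
   [2, 3, 1, 0, 1, 5, 0, 1, 2, 3, 4, 3, 2],
   [2, 1, 0, 1, 5, 0, 1, 2, 3, 2, 3, 4, 3],
   [2, 3, 4, 1, 2, 3, 2, 5, 1, 0, 2, 3, 1, 2, 0, 1, 3, 4, 3, 2],
   [0, 2, 3, 4, 1, 2, 3, 2, 5, 1, 0, 2, 3, 1, 2, 0, 1, 3, 4, 3, 2],
   [0, 2, 3, 4, 1, 2, 3, 2, 5, 1, 0, 2, 3, 1, 2, 0, 1, 4, 3, 2, 1, 0, 5, 1, 0, 1],
   [2, 3, 2, 4, 5, 1, 0, 1, 5, 0, 1],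
   [2, 3, 2, 1, 0, 5, 1, 0, 1, 2, 0, 4],
   [2, 3, 4, 1, 2, 3, 2, 5, 1, 0, 2, 3, 1, 2, 0, 1, 2, 0, 4],
   [0, 2, 3, 2, 1, 0, 1, 5, 0, 1, 2, 4, 3],
   [2, 3, 2, 1, 0, 5, 1, 0, 1, 2, 3, 4],
   [2, 3, 1, 0, 5, 1, 0, 1, 2, 3, 4, 3, 2],
   [2, 3, 4, 5, 1, 2, 3, 2, 5, 1, 0, 2, 3, 1, 2, 0, 1],
   [2, 3, 1, 0, 5, 1, 0, 1, 2, 3, 2, 4, 3, 2, 3],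
   [2, 1, 0, 1, 5, 0, 1, 0, 3, 2, 3, 4, 3, 2],
   [0, 2, 3, 2, 1, 0, 5, 1, 0, 1, 2, 4, 3],
   [0, 2, 3, 2, 4, 1, 0, 5, 1, 0, 1],
   [2, 3, 4, 1, 2, 3, 2, 5, 1, 0, 2, 3, 1, 2, 0, 1, 4],
   [0, 2, 3, 4, 1, 2, 3, 2, 5, 1, 0, 2, 3, 1, 2, 0, 1, 4],
   [0, 2, 3, 4, 1, 0, 5, 1, 0, 1, 1, 2, 3, 2, 5, 1, 0, 2, 3, 1, 2, 0, 1, 4],
   [2, 3, 2, 4, 5, 1, 0, 2, 1, 3, 2, 0, 1, 5, 2, 3, 2, 1, 2, 3],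
   [2, 3, 2, 1, 0, 5, 1, 0, 1, 2, 4, 1, 0, 2, 1, 3, 2, 0, 1, 5, 2, 3, 2, 1],
   [2, 1, 0, 1, 5, 0, 1, 2, 3, 2, 4, 3, 2],
   [2, 3, 2, 1, 0, 1, 5, 0, 1, 0, 2, 4, 3],
   [2, 3, 2, 1, 0, 1, 5, 0, 1, 2, 4, 3, 2],
   [2, 3, 2, 1, 0, 5, 1, 0, 1, 2, 4, 3, 5],
   [2, 3, 2, 4, 5, 1, 0, 5, 1, 0, 1],
   [2, 3, 2, 1, 0, 5, 1, 0, 1, 2, 4],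
   [2, 1, 0, 1, 5, 0, 1, 2, 3, 2, 4, 1, 0, 2, 1, 3, 2, 0, 1, 5, 2, 3, 2, 1, 4],
   [2, 3, 4, 5, 1, 0, 2, 1, 3, 2, 0, 1, 5, 2, 3, 2, 1],
   [2, 3, 4, 1, 2, 3, 2, 5, 1, 0, 2, 3, 1, 2, 0, 1, 4, 0, 3, 2, 1, 0, 5, 1, 0, 1],
   [2, 3, 1, 0, 5, 1, 0, 1, 2, 0, 4, 1, 0, 2, 1, 3, 2, 0, 1, 5, 2, 3, 2, 1],
   [2, 3, 2, 4, 1, 0, 2, 1, 3, 2, 0, 1, 5, 2, 3, 2, 1, 3, 2, 1, 0, 5, 1, 0, 1],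
   [0, 2, 3, 1, 0, 5, 1, 0, 1, 2, 4, 1, 0, 2, 1, 3, 2, 0, 1, 5, 2, 3, 2, 1],
   [2, 3, 2, 1, 0, 5, 1, 0, 1, 5, 4, 3, 2, 1, 0, 2, 1, 3, 2, 0, 1, 5, 2, 3, 2, 1],
   [2, 3, 2, 4, 1, 2, 3, 2, 5, 1, 0, 2, 3, 1, 2, 0, 1, 3, 0, 2],
   [2, 3, 2, 4, 1, 0, 5, 1, 0, 1],
   [2, 3, 2, 4, 3, 2, 1, 0, 2, 1, 3, 2, 0, 1, 5, 2, 3, 2, 1, 0, 2, 4, 3],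
   [2, 3, 2, 4, 1, 0, 2, 1, 3, 2, 0, 1, 5, 2, 3, 2, 1, 0],
   [2, 3, 2, 4, 5, 1, 0, 2, 1, 3, 2, 0, 1, 5, 2, 3, 2, 1, 3]]

/-- Words. -/
def caseATws3 : List (List ℕ) :=
  [[0, 2, 3, 2, 4, 1, 0, 2, 1, 3, 2, 0, 1, 5, 2, 3, 2, 1],
   [2, 3, 2, 4, 5, 1, 0, 2, 1, 3, 2, 0, 1, 5, 2, 3, 2, 1, 2],
   [2, 3, 2, 4, 1, 2, 3, 2, 5, 1, 0, 2, 3, 1, 2, 0, 1, 2, 3, 2, 5],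
   [2, 3, 2, 4, 3, 2, 1, 0, 2, 1, 3, 2, 0, 1, 5, 2, 3, 2, 1, 2, 3, 2, 4, 3],
   [0, 2, 3, 2, 4, 3, 2, 1, 0, 2, 1, 3, 2, 0, 1, 5, 2, 3, 2, 1, 2, 3, 4, 2, 3, 2],
   [2, 3, 4, 1, 2, 3, 2, 5, 1, 0, 2, 3, 1, 2, 0, 1, 4, 3, 2, 5],
   [0, 2, 3, 4, 1, 2, 3, 2, 5, 1, 0, 2, 3, 1, 2, 0, 1, 4, 3],
   [2, 3, 4, 1, 2, 3, 2, 5, 1, 0, 2, 3, 1, 2, 0, 1, 4, 3],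
   [0, 2, 3, 4, 1, 0, 5, 1, 0, 1, 1, 2, 3, 2, 5, 1, 0, 2, 3, 1, 2, 0, 1, 4, 3],
   [2, 3, 4, 1, 0, 5, 1, 0, 1, 1, 2, 3, 2, 5, 1, 0, 2, 3, 1, 2, 0, 1, 4, 3, 2],
   [2, 3, 2, 1, 0, 1, 5, 0, 1, 2, 4, 1, 2, 3, 2, 5, 1, 0, 2, 3, 1, 2, 0, 1],
   [2, 3, 1, 0, 5, 1, 0, 1, 2, 0, 3, 4, 3, 2, 3],
   [0, 2, 3, 1, 0, 5, 1, 0, 1, 2, 3, 4, 3, 2],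
   [0, 2, 3, 2, 4, 3, 1, 0, 1, 5, 0, 1],
   [2, 3, 1, 0, 1, 5, 0, 1, 2, 4, 1, 2, 3, 2, 5, 1, 0, 2, 3, 1, 2, 0, 1],
   [2, 1, 0, 1, 5, 0, 1, 0, 3, 2, 4, 1, 2, 3, 2, 5, 1, 0, 2, 3, 1, 2, 0, 1],
   [2, 3, 1, 0, 1, 5, 0, 1, 2, 4, 1, 2, 3, 2, 5, 1, 0, 2, 3, 1, 2, 0, 1, 2],
   [2, 3, 2, 4, 3, 2, 1, 2, 3, 2, 5, 1, 0, 2, 3, 1, 2, 0, 1, 3, 4, 5],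
   [2, 3, 2, 1, 0, 1, 5, 0, 1, 0, 4, 3],
   [2, 3, 2, 4, 3, 1, 0, 1, 5, 0, 1, 2],
   [2, 3, 2, 1, 0, 5, 1, 0, 1, 5, 4, 3],
   [2, 3, 4, 1, 2, 3, 2, 5, 1, 0, 2, 3, 1, 2, 0, 1, 3, 4, 3],
   [2, 3, 4, 1, 2, 3, 2, 5, 1, 0, 2, 3, 1, 2, 0, 1, 3, 0, 4],
   [0, 2, 3, 4, 1, 2, 3, 2, 5, 1, 0, 2, 3, 1, 2, 0, 1, 3, 4, 3],
   [2, 3, 2, 4, 3, 2, 1, 0, 2, 1, 3, 2, 0, 1, 5, 2, 3, 2, 1, 2, 3, 4, 3, 2, 3],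
   [2, 3, 1, 0, 5, 1, 0, 1, 2, 3, 4, 3, 2, 3],
   [2, 3, 1, 0, 1, 5, 0, 1, 2, 3, 4, 3, 2, 3],
   [2, 3, 4, 5, 1, 0, 2, 1, 3, 2, 0, 1, 5, 2, 3, 2, 1, 2],
   [2, 1, 0, 1, 5, 0, 1, 2, 3, 2, 3, 4, 3, 2],
   [2, 3, 4, 1, 2, 3, 2, 5, 1, 0, 2, 3, 1, 2, 0, 1, 3, 4, 3, 2, 5],
   [2, 3, 4, 1, 2, 3, 2, 5, 1, 0, 2, 3, 1, 2, 0, 1, 4, 3, 2, 5, 1, 0, 5, 1, 0, 1],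
   [2, 3, 4, 1, 2, 3, 2, 5, 1, 0, 2, 3, 1, 2, 0, 1, 4, 3, 2, 1, 0, 5, 1, 0, 1],
   [0, 2, 3, 4, 1, 0, 1, 5, 0, 1, 1, 2, 3, 2, 5, 1, 0, 2, 3, 1, 2, 0, 1],
   [2, 3, 2, 4, 3, 5, 1, 0, 1, 5, 0, 1],
   [2, 3, 4, 1, 2, 3, 2, 5, 1, 0, 2, 3, 1, 2, 0, 1, 2, 0],
   [2, 3, 2, 1, 0, 5, 1, 0, 1, 2, 0, 4, 3],
   [2, 3, 4, 1, 2, 3, 2, 5, 1, 0, 2, 3, 1, 2, 0, 1, 2, 4],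
   [2, 3, 4, 1, 2, 3, 2, 5, 1, 0, 2, 3, 1, 2, 0, 1, 3, 2, 4],
   [0, 2, 3, 4, 1, 2, 3, 2, 5, 1, 0, 2, 3, 1, 2, 0, 1, 2, 4],
   [2, 3, 2, 4, 3, 2, 1, 0, 2, 1, 3, 2, 0, 1, 5, 2, 3, 2, 1, 0, 2, 3, 4],
   [2, 3, 2, 1, 0, 5, 1, 0, 1, 2, 3, 4, 3],
   [0, 2, 3, 2, 1, 0, 1, 5, 0, 1, 2, 4, 3, 2],
   [2, 3, 2, 1, 0, 5, 1, 0, 1, 2, 4, 1, 0, 2, 1, 3, 2, 0, 1, 5, 2, 3, 2, 1, 4],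
   [2, 3, 4, 1, 2, 3, 2, 5, 1, 0, 2, 3, 1, 2, 0, 1],
   [2, 3, 4, 1, 2, 3, 2, 5, 1, 0, 2, 3, 1, 2, 0, 1, 3, 0],
   [0, 2, 3, 4, 1, 2, 3, 2, 5, 1, 0, 2, 3, 1, 2, 0, 1],
   [0, 2, 3, 4, 1, 0, 5, 1, 0, 1, 1, 2, 3, 2, 5, 1, 0, 2, 3, 1, 2, 0, 1],
   [2, 1, 0, 1, 5, 0, 1, 0, 3, 2, 3, 4, 3, 2, 3],
   [2, 3, 2, 4, 5, 1, 0, 2, 1, 3, 2, 0, 1, 5, 2, 3, 2, 1, 2, 3, 4],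
   [0, 2, 3, 2, 1, 0, 5, 1, 0, 1, 2, 4, 3, 2],
   [0, 2, 3, 2, 4, 3, 1, 0, 5, 1, 0, 1],
   [2, 3, 2, 4, 5, 1, 0, 2, 1, 3, 2, 0, 1, 5, 2, 3, 2, 1, 2, 1, 0, 5, 1, 0, 1],
   [2, 3, 4, 1, 2, 3, 2, 5, 1, 0, 2, 3, 1, 2, 0, 1, 4, 5],
   [2, 3, 2, 4, 3, 2, 1, 0, 2, 1, 3, 2, 0, 1, 5, 2, 3, 2, 1, 2, 3, 2, 4],
   [2, 3, 2, 4, 1, 0, 2, 1, 3, 2, 0, 1, 5, 2, 3, 2, 1, 0, 2, 3],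
   [0, 2, 3, 2, 4, 3, 2, 1, 0, 2, 1, 3, 2, 0, 1, 5, 2, 3, 2, 1, 2, 3, 4, 2],
   [2, 3, 1, 0, 1, 5, 0, 1, 2, 4, 1, 2, 3, 2, 5, 1, 0, 2, 3, 1, 2, 0, 1, 2, 3],
   [2, 3, 4, 1, 0, 5, 1, 0, 1, 1, 2, 3, 2, 5, 1, 0, 2, 3, 1, 2, 0, 1, 4],
   [0, 2, 3, 2, 4, 1, 0, 2, 1, 3, 2, 0, 1, 5, 2, 3, 2, 1, 2, 3],
   [2, 3, 2, 4, 5, 1, 0, 2, 1, 3, 2, 0, 1, 5, 2, 3, 2, 1, 2, 3, 2],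
   [2, 3, 2, 4, 1, 2, 3, 2, 5, 1, 0, 2, 3, 1, 2, 0, 1, 2, 5],
   [2, 3, 1, 0, 1, 5, 0, 1, 2, 4, 1, 2, 3, 2, 5, 1, 0, 2, 3, 1, 2, 0, 1, 3],
   [2, 3, 2, 1, 0, 5, 1, 0, 1, 2, 0, 4, 1, 0, 2, 1, 3, 2, 0, 1, 5, 2, 3, 2, 1],
   [2, 3, 2, 4, 3, 2, 1, 2, 3, 2, 5, 1, 0, 2, 3, 1, 2, 0, 1, 3, 4, 3, 5]]

/-- Words. -/
def caseATws4 : List (List ℕ) :=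
  [[2, 3, 2, 4, 3, 5, 1, 0, 5, 1, 0, 1],
   [2, 3, 2, 1, 0, 1, 5, 0, 1, 0, 2, 4, 3, 2],
   [2, 3, 2, 1, 0, 1, 5, 0, 1, 2, 4, 3, 2, 3],
   [2, 3, 2, 1, 0, 5, 1, 0, 1, 2, 4, 3, 2, 5],
   [2, 3, 2, 1, 0, 5, 1, 0, 1, 2, 4, 3],
   [2, 3, 4, 1, 2, 3, 2, 5, 1, 0, 2, 3, 1, 2, 0, 1, 3, 2, 4, 1, 0, 1, 5, 0, 1],
   [2, 3, 4, 1, 2, 3, 2, 5, 1, 0, 2, 3, 1, 2, 0, 1, 2, 4, 5, 1, 0, 1, 5, 0, 1],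
   [0, 2, 3, 1, 0, 5, 1, 0, 1, 2, 4, 1, 0, 2, 1, 3, 2, 0, 1, 5, 2, 3, 2, 1, 4],
   [0, 2, 3, 2, 4, 1, 2, 3, 2, 5, 1, 0, 2, 3, 1, 2, 0, 1, 3, 2, 4, 1, 0, 1, 5, 0, 1],
   [2, 3, 2, 4, 1, 2, 3, 2, 5, 1, 0, 2, 3, 1, 2, 0, 1, 3, 0, 2, 4],
   [2, 3, 2, 4, 3, 2, 1, 0, 2, 1, 3, 2, 0, 1, 5, 2, 3, 2, 1, 0, 2, 3, 4, 3],
   [2, 3, 4, 1, 0, 2, 1, 3, 2, 0, 1, 5, 2, 3, 2, 1, 0],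
   [0, 2, 3, 4, 1, 0, 2, 1, 3, 2, 0, 1, 5, 2, 3, 2, 1, 1, 0, 5, 1, 0, 1],
   [2, 3, 4, 5, 1, 0, 2, 1, 3, 2, 0, 1, 5, 2, 3, 2, 1, 3],
   [0, 2, 3, 4, 1, 0, 2, 1, 3, 2, 0, 1, 5, 2, 3, 2, 1],
   [2, 3, 4, 1, 0, 2, 1, 3, 2, 0, 1, 5, 2, 3, 2, 1, 1, 0, 1, 5, 0, 1],
   [2, 3, 2, 4, 3, 2, 1, 0, 2, 1, 3, 2, 0, 1, 5, 2, 3, 2, 1, 2, 3, 2, 3, 4, 3],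
   [2, 3, 2, 4, 5, 1, 0, 2, 1, 3, 2, 0, 1, 5, 2, 3, 2, 1, 1, 0, 5, 1, 0, 1],
   [2, 3, 4, 1, 2, 3, 2, 5, 1, 0, 2, 3, 1, 2, 0, 1, 3, 2, 3, 1, 0, 1, 5, 0, 1],
   [2, 3, 1, 0, 5, 1, 0, 1, 2, 4, 1, 0, 2, 1, 3, 2, 0, 1, 5, 2, 3, 2, 1],
   [2, 3, 2, 4, 1, 2, 3, 2, 5, 1, 0, 2, 3, 1, 2, 0, 1, 3, 2, 1, 0, 1, 5, 0, 1],
   [2, 3, 2, 4, 1, 0, 2, 1, 3, 2, 0, 1, 5, 2, 3, 2, 1, 3, 2, 1, 0, 5, 1, 0, 1, 2],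
   [0, 2, 3, 1, 0, 5, 1, 0, 1, 2, 4, 3, 1, 0, 2, 1, 3, 2, 0, 1, 5, 2, 3, 2, 1],
   [2, 3, 2, 4, 3, 1, 0, 1, 5, 0, 1, 2, 1, 2, 3, 2, 5, 1, 0, 2, 3, 1, 2, 0, 1],
   [0, 2, 3, 2, 4, 1, 2, 3, 2, 5, 1, 0, 2, 3, 1, 2, 0, 1, 3, 2],
   [2, 3, 2, 4, 3, 1, 0, 5, 1, 0, 1, 2, 1, 0, 2, 1, 3, 2, 0, 1, 5, 2, 3, 2, 1],
   [0, 2, 3, 2, 4, 3, 1, 0, 5, 1, 0, 1, 2, 1, 0, 2, 1, 3, 2, 0, 1, 5, 2, 3, 2, 1],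
   [2, 3, 2, 4, 1, 2, 3, 2, 5, 1, 0, 2, 3, 1, 2, 0, 1, 3, 0, 2, 3],
   [2, 3, 2, 4, 1, 2, 3, 2, 5, 1, 0, 2, 3, 1, 2, 0, 1, 3, 2],
   [2, 3, 2, 4, 1, 2, 3, 2, 5, 1, 0, 2, 3, 1, 2, 0, 1, 3, 0],
   [2, 3, 2, 4, 1, 0, 2, 1, 3, 2, 0, 1, 5, 2, 3, 2, 1, 3, 2, 3],
   [2, 3, 2, 4, 3, 1, 0, 5, 1, 0, 1],
   [2, 3, 2, 4, 3, 2, 1, 0, 2, 1, 3, 2, 0, 1, 5, 2, 3, 2, 1, 2, 4, 3],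
   [2, 3, 2, 4, 3, 2, 1, 0, 2, 1, 3, 2, 0, 1, 5, 2, 3, 2, 1, 2, 3, 2, 3],
   [2, 3, 2, 4, 3, 2, 1, 0, 2, 1, 3, 2, 0, 1, 5, 2, 3, 2, 1, 0, 2, 4],
   [2, 3, 2, 4, 3, 2, 5, 1, 0, 2, 1, 3, 2, 0, 1, 5, 2, 3, 2, 1, 2, 4, 3],
   [2, 3, 4, 1, 2, 3, 2, 5, 1, 0, 2, 3, 1, 2, 0, 1, 3, 2],
   [2, 3, 2, 4, 1, 0, 2, 1, 3, 2, 0, 1, 5, 2, 3, 2, 1, 0, 3],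
   [2, 3, 2, 4, 1, 0, 2, 1, 3, 2, 0, 1, 5, 2, 3, 2, 1],
   [2, 3, 2, 4, 1, 0, 2, 1, 3, 2, 0, 1, 5, 2, 3, 2, 1, 0, 2],
   [2, 3, 2, 4, 1, 2, 3, 2, 5, 1, 0, 2, 3, 1, 2, 0, 1, 2, 0, 3, 2],
   [2, 3, 2, 4, 3, 1, 0, 2, 1, 3, 2, 0, 1, 5, 2, 3, 2, 1, 0],
   [0, 2, 3, 2, 4, 1, 0, 2, 1, 3, 2, 0, 1, 5, 2, 3, 2, 1, 3],
   [2, 3, 2, 4, 5, 1, 0, 2, 1, 3, 2, 0, 1, 5, 2, 3, 2, 1, 3, 2],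
   [0, 2, 3, 2, 4, 1, 2, 3, 2, 5, 1, 0, 2, 3, 1, 2, 0, 1, 3, 2, 3, 2],
   [0, 2, 3, 4, 1, 2, 3, 2, 5, 1, 0, 2, 3, 1, 2, 0, 1, 3, 2],
   [0, 2, 3, 2, 4, 1, 0, 2, 1, 3, 2, 0, 1, 5, 2, 3, 2, 1, 2],
   [0, 2, 3, 2, 4, 1, 2, 3, 2, 5, 1, 0, 2, 3, 1, 2, 0, 1, 2, 3, 2],
   [2, 3, 2, 4, 1, 2, 3, 2, 5, 1, 0, 2, 3, 1, 2, 0, 1, 2, 3, 5],
   [2, 3, 2, 4, 1, 2, 3, 2, 5, 1, 0, 2, 3, 1, 2, 0, 1, 2, 3, 2],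
   [0, 2, 3, 2, 4, 3, 2, 1, 0, 2, 1, 3, 2, 0, 1, 5, 2, 3, 2, 1, 2, 3, 4, 2, 3],
   [2, 3, 4, 1, 2, 3, 2, 5, 1, 0, 2, 3, 1, 2, 0, 1, 3, 0, 4, 3, 2, 1, 0, 1, 5, 0, 1],
   [2, 3, 4, 1, 2, 3, 2, 5, 1, 0, 2, 3, 1, 2, 0, 1, 4, 3, 5],
   [2, 3, 2, 1, 0, 1, 5, 0, 1, 2, 4, 3, 1, 2, 3, 2, 5, 1, 0, 2, 3, 1, 2, 0, 1],
   [2, 3, 4, 1, 0, 5, 1, 0, 1, 1, 2, 3, 2, 5, 1, 0, 2, 3, 1, 2, 0, 1, 4, 3],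
   [2, 3, 2, 4, 3, 2, 1, 0, 1, 5, 0, 1],
   [2, 3, 2, 1, 0, 1, 5, 0, 1, 2, 4, 1, 2, 3, 2, 5, 1, 0, 2, 3, 1, 2, 0, 1, 3],
   [2, 3, 2, 1, 0, 5, 1, 0, 1, 2, 3, 4, 1, 2, 3, 2, 5, 1, 0, 2, 3, 1, 2, 0, 1],
   [0, 2, 3, 1, 0, 5, 1, 0, 1, 2, 3, 4, 3, 2, 3],
   [2, 3, 2, 4, 3, 2, 1, 2, 3, 2, 5, 1, 0, 2, 3, 1, 2, 0, 1, 3, 5],
   [0, 2, 3, 2, 4, 3, 1, 0, 1, 5, 0, 1, 2],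
   [2, 3, 4, 5, 1, 0, 1, 5, 0, 1, 2, 1, 2, 3, 2, 5, 1, 0, 2, 3, 1, 2, 0, 1],
   [2, 3, 2, 4, 3, 2, 1, 2, 3, 2, 5, 1, 0, 2, 3, 1, 2, 0, 1, 3, 4],
   [2, 3, 2, 1, 0, 1, 5, 0, 1, 0, 2, 4, 1, 2, 3, 2, 5, 1, 0, 2, 3, 1, 2, 0, 1]]

/-- Words. -/
def caseATws5 : List (List ℕ) :=
  [[0, 2, 3, 2, 4, 3, 2, 1, 2, 3, 2, 5, 1, 0, 2, 3, 1, 2, 0, 1, 3, 4],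
   [2, 3, 2, 4, 3, 1, 2, 3, 2, 5, 1, 0, 2, 3, 1, 2, 0, 1, 3, 2, 4, 3, 5],
   [0, 2, 3, 4, 1, 0, 2, 1, 3, 2, 0, 1, 5, 2, 3, 2, 1, 3, 2, 3, 2, 4],
   [2, 3, 2, 1, 0, 1, 5, 0, 1, 0, 4, 3, 2],
   [2, 3, 2, 4, 3, 1, 0, 1, 5, 0, 1, 2, 3],
   [2, 3, 2, 1, 0, 5, 1, 0, 1, 5, 4, 3, 2],
   [2, 3, 2, 4, 1, 2, 3, 2, 5, 1, 0, 2, 3, 1, 2, 0, 1, 2, 4, 3, 1, 0, 1, 5, 0, 1],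
   [2, 3, 4, 1, 2, 3, 2, 5, 1, 0, 2, 3, 1, 2, 0, 1, 3, 4],
   [2, 3, 4, 1, 2, 3, 2, 5, 1, 0, 2, 3, 1, 2, 0, 1, 3, 4, 3, 5],
   [2, 3, 4, 1, 2, 3, 2, 5, 1, 0, 2, 3, 1, 2, 0, 1, 2, 4, 3],
   [0, 2, 3, 4, 1, 2, 3, 2, 5, 1, 0, 2, 3, 1, 2, 0, 1, 3, 4],
   [2, 3, 2, 4, 3, 2, 1, 0, 2, 1, 3, 2, 0, 1, 5, 2, 3, 2, 1, 2, 3, 4, 3, 2],
   [2, 3, 4, 1, 0, 2, 1, 3, 2, 0, 1, 5, 2, 3, 2, 1, 0, 2],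
   [0, 2, 3, 2, 4, 3, 2, 1, 0, 2, 1, 3, 2, 0, 1, 5, 2, 3, 2, 1, 2, 3, 4, 2, 3, 4],
   [2, 3, 4, 1, 0, 5, 1, 0, 1, 1, 2, 3, 2, 5, 1, 0, 2, 3, 1, 2, 0, 1, 3, 4, 3],
   [2, 3, 2, 1, 0, 1, 5, 0, 1, 2, 4, 1, 2, 3, 2, 5, 1, 0, 2, 3, 1, 2, 0, 1, 3, 4],
   [2, 1, 0, 1, 5, 0, 1, 2, 3, 2, 3, 4, 3, 2, 3],
   [2, 3, 4, 5, 1, 0, 2, 1, 3, 2, 0, 1, 5, 2, 3, 2, 1, 2, 3],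
   [0, 2, 3, 4, 1, 0, 2, 1, 3, 2, 0, 1, 5, 2, 3, 2, 1, 2],
   [2, 3, 2, 4, 1, 2, 3, 2, 5, 1, 0, 2, 3, 1, 2, 0, 1, 2, 3, 4, 5],
   [2, 3, 2, 4, 3, 2, 1, 2, 3, 2, 5, 1, 0, 2, 3, 1, 2, 0, 1, 4, 3, 5],
   [2, 3, 4, 1, 2, 3, 2, 5, 1, 0, 2, 3, 1, 2, 0, 1, 4, 0, 3, 2, 1, 0, 1, 5, 0, 1],
   [0, 2, 3, 2, 4, 3, 2, 1, 0, 1, 5, 0, 1],
   [2, 3, 2, 4, 1, 0, 1, 5, 0, 1, 1, 2, 3, 2, 5, 1, 0, 2, 3, 1, 2, 0, 1],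
   [2, 3, 4, 1, 0, 1, 5, 0, 1, 1, 2, 3, 2, 5, 1, 0, 2, 3, 1, 2, 0, 1],
   [2, 1, 0, 1, 5, 0, 1, 0, 3, 4, 1, 2, 3, 2, 5, 1, 0, 2, 3, 1, 2, 0, 1],
   [0, 2, 3, 2, 4, 3, 2, 1, 0, 2, 1, 3, 2, 0, 1, 5, 2, 3, 2, 1, 2, 3, 4],
   [2, 3, 2, 4, 3, 5, 1, 0, 1, 5, 0, 1, 2],
   [2, 3, 4, 1, 2, 3, 2, 5, 1, 0, 2, 3, 1, 2, 0, 1, 2],
   [2, 3, 4, 1, 2, 3, 2, 5, 1, 0, 2, 3, 1, 2, 0, 1, 2, 0, 3],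
   [0, 2, 3, 4, 1, 2, 3, 2, 5, 1, 0, 2, 3, 1, 2, 0, 1, 2],
   [2, 3, 2, 4, 3, 2, 1, 0, 2, 1, 3, 2, 0, 1, 5, 2, 3, 2, 1, 0, 2, 3],
   [2, 3, 2, 1, 0, 5, 1, 0, 1, 2, 0, 4, 3, 2],
   [2, 3, 2, 4, 1, 2, 3, 2, 5, 1, 0, 2, 3, 1, 2, 0, 1, 3, 2, 4, 3, 1, 0, 1, 5, 0, 1],
   [2, 3, 4, 1, 2, 3, 2, 5, 1, 0, 2, 3, 1, 2, 0, 1, 2, 4, 5],
   [2, 3, 2, 4, 3, 2, 1, 0, 2, 1, 3, 2, 0, 1, 5, 2, 3, 2, 1, 2, 3, 4],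
   [0, 2, 3, 4, 1, 2, 3, 2, 5, 1, 0, 2, 3, 1, 2, 0, 1, 2, 4, 3],
   [2, 3, 2, 4, 3, 2, 5, 1, 0, 2, 1, 3, 2, 0, 1, 5, 2, 3, 2, 1, 2, 3, 4],
   [2, 3, 2, 1, 0, 5, 1, 0, 1, 2, 3, 4, 3, 2],
   [0, 2, 3, 2, 1, 0, 1, 5, 0, 1, 2, 4, 3, 2, 3],
   [2, 3, 1, 0, 1, 5, 0, 1, 2, 4, 1, 2, 3, 2, 5, 1, 0, 2, 3, 1, 2, 0, 1, 3, 4],
   [0, 2, 3, 1, 0, 5, 1, 0, 1, 2, 4, 1, 0, 2, 1, 3, 2, 0, 1, 5, 2, 3, 2, 1, 4, 2],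
   [2, 3, 1, 0, 1, 5, 0, 1, 2, 4, 1, 2, 3, 2, 5, 1, 0, 2, 3, 1, 2, 0, 1, 2, 3, 4],
   [2, 3, 4, 5, 1, 0, 2, 1, 3, 2, 0, 1, 5, 2, 3, 2, 1, 2, 1, 0, 5, 1, 0, 1],
   [2, 3, 4, 1, 2, 3, 2, 5, 1, 0, 2, 3, 1, 2, 0, 1, 3],
   [2, 3, 4, 1, 2, 3, 2, 5, 1, 0, 2, 3, 1, 2, 0, 1, 5],
   [2, 3, 2, 4, 3, 2, 1, 0, 2, 1, 3, 2, 0, 1, 5, 2, 3, 2, 1, 2, 3, 2],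
   [2, 3, 4, 1, 2, 3, 2, 5, 1, 0, 2, 3, 1, 2, 0, 1, 3, 0, 2],
   [0, 2, 3, 4, 1, 2, 3, 2, 5, 1, 0, 2, 3, 1, 2, 0, 1, 3],
   [2, 3, 2, 4, 3, 2, 1, 0, 2, 1, 3, 2, 0, 1, 5, 2, 3, 2, 1, 2, 4, 3, 2],
   [2, 3, 2, 4, 1, 0, 2, 1, 3, 2, 0, 1, 5, 2, 3, 2, 1, 0, 2, 3, 4],
   [2, 1, 0, 1, 5, 0, 1, 2, 3, 4, 1, 2, 3, 2, 5, 1, 0, 2, 3, 1, 2, 0, 1],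
   [2, 3, 4, 1, 0, 5, 1, 0, 1, 1, 2, 3, 2, 5, 1, 0, 2, 3, 1, 2, 0, 1],
   [2, 3, 4, 5, 1, 0, 2, 1, 3, 2, 0, 1, 5, 2, 3, 2, 1, 2, 3, 4],
   [0, 2, 3, 2, 4, 1, 0, 2, 1, 3, 2, 0, 1, 5, 2, 3, 2, 1, 2, 3, 4],
   [2, 3, 2, 4, 5, 1, 0, 2, 1, 3, 2, 0, 1, 5, 2, 3, 2, 1, 2, 3, 2, 4],
   [2, 3, 2, 4, 1, 2, 3, 2, 5, 1, 0, 2, 3, 1, 2, 0, 1, 2, 4, 5],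
   [0, 2, 3, 2, 1, 0, 5, 1, 0, 1, 2, 4, 3, 2, 3],
   [0, 2, 3, 2, 4, 3, 1, 0, 5, 1, 0, 1, 2],
   [2, 3, 2, 4, 1, 0, 2, 1, 3, 2, 0, 1, 5, 2, 3, 2, 1, 0, 2, 1, 0, 5, 1, 0, 1],
   [2, 3, 4, 1, 0, 2, 1, 3, 2, 0, 1, 5, 2, 3, 2, 1, 0, 2, 1, 0, 5, 1, 0, 1],
   [2, 3, 2, 4, 1, 0, 2, 1, 3, 2, 0, 1, 5, 2, 3, 2, 1, 2, 1, 0, 5, 1, 0, 1],
   [2, 3, 4, 1, 2, 3, 2, 5, 1, 0, 2, 3, 1, 2, 0, 1, 4, 0, 3, 1, 0, 1, 5, 0, 1],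
   [2, 3, 2, 4, 1, 0, 2, 1, 3, 2, 0, 1, 5, 2, 3, 2, 1, 2, 3]]

/-- Words. -/
def caseATws6 : List (List ℕ) :=
  [[2, 3, 2, 4, 1, 0, 2, 1, 3, 2, 0, 1, 5, 2, 3, 2, 1, 0, 2, 3, 2],
   [2, 3, 2, 4, 1, 2, 3, 2, 5, 1, 0, 2, 3, 1, 2, 0, 1, 2, 0],
   [2, 3, 4, 1, 0, 2, 1, 3, 2, 0, 1, 5, 2, 3, 2, 1, 3, 2, 4, 3, 1, 0, 5, 1, 0, 1],
   [2, 3, 4, 5, 1, 0, 2, 1, 3, 2, 0, 1, 5, 2, 3, 2, 1, 3, 2, 3, 4, 3],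
   [2, 3, 4, 1, 0, 2, 1, 3, 2, 0, 1, 5, 2, 3, 2, 1, 0, 2, 3, 2, 4, 3],
   [0, 2, 3, 2, 4, 1, 0, 2, 1, 3, 2, 0, 1, 5, 2, 3, 2, 1, 2, 3, 2],
   [0, 2, 3, 2, 4, 1, 2, 3, 2, 5, 1, 0, 2, 3, 1, 2, 0, 1, 2],
   [0, 2, 3, 2, 4, 1, 0, 2, 1, 3, 2, 0, 1, 5, 2, 3, 2, 1, 3, 2, 3, 2],
   [2, 3, 2, 4, 1, 2, 3, 2, 5, 1, 0, 2, 3, 1, 2, 0, 1, 5],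
   [2, 3, 2, 4, 1, 2, 3, 2, 5, 1, 0, 2, 3, 1, 2, 0, 1, 2],
   [2, 3, 1, 0, 5, 1, 0, 1, 2, 4, 1, 0, 2, 1, 3, 2, 0, 1, 5, 2, 3, 2, 1, 2],
   [2, 3, 2, 4, 3, 2, 1, 2, 3, 2, 5, 1, 0, 2, 3, 1, 2, 0, 1, 3, 4, 3],
   [2, 3, 2, 1, 0, 1, 5, 0, 1, 2, 4, 1, 2, 3, 2, 5, 1, 0, 2, 3, 1, 2, 0, 1, 3, 5],
   [0, 2, 3, 2, 4, 3, 2, 1, 2, 3, 2, 5, 1, 0, 2, 3, 1, 2, 0, 1, 3, 4, 3],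
   [0, 2, 3, 2, 4, 1, 2, 3, 2, 5, 1, 0, 2, 3, 1, 2, 0, 1, 4, 3, 2, 3, 4],
   [0, 2, 3, 4, 1, 0, 2, 1, 3, 2, 0, 1, 5, 2, 3, 2, 1, 3, 2, 3, 2, 4, 3],
   [2, 3, 2, 4, 3, 1, 0, 5, 1, 0, 1, 2, 0],
   [2, 3, 2, 4, 1, 0, 5, 1, 0, 1, 1, 0, 2, 1, 3, 2, 0, 1, 5, 2, 3, 2, 1, 4],
   [2, 3, 2, 4, 3, 1, 0, 1, 5, 0, 1, 2, 3, 2],
   [2, 3, 2, 1, 0, 1, 5, 0, 1, 0, 4, 3, 2, 3],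
   [2, 3, 2, 1, 0, 1, 5, 0, 1, 2, 4, 3, 2, 3, 4],
   [0, 2, 3, 2, 4, 3, 1, 0, 5, 1, 0, 1, 2, 3, 2],
   [2, 3, 2, 4, 1, 0, 5, 1, 0, 1, 1, 0, 2, 1, 3, 2, 0, 1, 5, 2, 3, 2, 1],
   [2, 3, 2, 1, 0, 5, 1, 0, 1, 2, 4, 3, 2],
   [2, 3, 4, 5, 1, 0, 2, 1, 3, 2, 0, 1, 5, 2, 3, 2, 1, 1, 0, 5, 1, 0, 1],
   [2, 3, 4, 1, 2, 3, 2, 5, 1, 0, 2, 3, 1, 2, 0, 1, 2, 0, 4, 1, 0, 1, 5, 0, 1],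
   [2, 3, 1, 0, 5, 1, 0, 1, 2, 4, 1, 0, 2, 1, 3, 2, 0, 1, 5, 2, 3, 2, 1, 4],
   [2, 3, 2, 4, 1, 2, 3, 2, 5, 1, 0, 2, 3, 1, 2, 0, 1, 3, 2, 4, 1, 0, 1, 5, 0, 1],
   [2, 3, 2, 4, 1, 2, 3, 2, 5, 1, 0, 2, 3, 1, 2, 0, 1, 2, 4, 1, 0, 1, 5, 0, 1],
   [2, 3, 4, 1, 2, 3, 2, 5, 1, 0, 2, 3, 1, 2, 0, 1, 2, 5, 1, 0, 1, 5, 0, 1],
   [0, 2, 3, 4, 1, 2, 3, 2, 5, 1, 0, 2, 3, 1, 2, 0, 1, 2, 4, 1, 0, 1, 5, 0, 1],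
   [2, 3, 2, 4, 3, 1, 2, 3, 2, 5, 1, 0, 2, 3, 1, 2, 0, 1, 2, 4, 5, 1, 0, 1, 5, 0, 1],
   [0, 2, 3, 2, 4, 1, 2, 3, 2, 5, 1, 0, 2, 3, 1, 2, 0, 1, 3, 2, 4],
   [2, 3, 2, 4, 3, 1, 0, 5, 1, 0, 1, 2, 1, 0, 2, 1, 3, 2, 0, 1, 5, 2, 3, 2, 1, 4],
   [2, 3, 2, 4, 1, 2, 3, 2, 5, 1, 0, 2, 3, 1, 2, 0, 1, 3, 2, 4, 5, 1, 0, 1, 5, 0, 1],
   [2, 3, 2, 4, 3, 1, 2, 3, 2, 5, 1, 0, 2, 3, 1, 2, 0, 1, 2, 4],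
   [2, 3, 2, 4, 1, 2, 3, 2, 5, 1, 0, 2, 3, 1, 2, 0, 1, 3, 2, 4],
   [2, 3, 2, 4, 1, 2, 3, 2, 5, 1, 0, 2, 3, 1, 2, 0, 1, 3, 0, 4],
   [2, 3, 2, 4, 1, 0, 2, 1, 3, 2, 0, 1, 5, 2, 3, 2, 1, 3, 2, 3, 4],
   [2, 3, 2, 4, 3, 2, 1, 0, 2, 1, 3, 2, 0, 1, 5, 2, 3, 2, 1, 2, 3, 4, 3],
   [2, 3, 2, 4, 3, 2, 1, 0, 2, 1, 3, 2, 0, 1, 5, 2, 3, 2, 1, 2, 3, 2, 3, 4],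
   [2, 3, 2, 4, 3, 2, 5, 1, 0, 2, 1, 3, 2, 0, 1, 5, 2, 3, 2, 1, 2, 3, 4, 3],
   [2, 3, 2, 4, 1, 0, 2, 1, 3, 2, 0, 1, 5, 2, 3, 2, 1, 1, 0, 5, 1, 0, 1],
   [2, 3, 4, 1, 0, 2, 1, 3, 2, 0, 1, 5, 2, 3, 2, 1, 0, 3],
   [2, 3, 4, 1, 0, 2, 1, 3, 2, 0, 1, 5, 2, 3, 2, 1],
   [2, 3, 2, 4, 1, 2, 3, 2, 5, 1, 0, 2, 3, 1, 2, 0, 1, 2, 0, 3, 2, 4],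
   [2, 3, 4, 1, 0, 2, 1, 3, 2, 0, 1, 5, 2, 3, 2, 1, 1, 0, 5, 1, 0, 1],
   [2, 3, 4, 1, 0, 2, 1, 3, 2, 0, 1, 5, 2, 3, 2, 1, 1, 0, 5, 1, 0, 1, 2],
   [2, 3, 4, 1, 0, 2, 1, 3, 2, 0, 1, 5, 2, 3, 2, 1, 0, 1, 0, 5, 1, 0, 1],
   [0, 2, 3, 2, 4, 3, 2, 1, 0, 2, 1, 3, 2, 0, 1, 5, 2, 3, 2, 1, 2, 3, 4, 3],
   [2, 3, 4, 5, 1, 0, 2, 1, 3, 2, 0, 1, 5, 2, 3, 2, 1, 3, 4],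
   [0, 2, 3, 4, 1, 0, 2, 1, 3, 2, 0, 1, 5, 2, 3, 2, 1, 3],
   [2, 3, 4, 5, 1, 0, 2, 1, 3, 2, 0, 1, 5, 2, 3, 2, 1, 3, 2],
   [2, 3, 4, 1, 0, 2, 1, 3, 2, 0, 1, 5, 2, 3, 2, 1, 3, 1, 0, 1, 5, 0, 1],
   [0, 2, 3, 4, 1, 2, 3, 2, 5, 1, 0, 2, 3, 1, 2, 0, 1, 3, 2, 4],
   [0, 2, 3, 2, 4, 1, 2, 3, 2, 5, 1, 0, 2, 3, 1, 2, 0, 1, 2, 3, 2, 4],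
   [2, 3, 2, 4, 1, 2, 3, 2, 5, 1, 0, 2, 3, 1, 2, 0, 1, 2, 3, 2, 4],
   [2, 3, 2, 4, 1, 0, 2, 1, 3, 2, 0, 1, 5, 2, 3, 2, 1, 0, 1, 0, 5, 1, 0, 1],
   [2, 3, 2, 4, 3, 5, 1, 0, 1, 5, 0, 1, 1, 2, 3, 2, 5, 1, 0, 2, 3, 1, 2, 0, 1],
   [2, 3, 2, 4, 1, 2, 3, 2, 5, 1, 0, 2, 3, 1, 2, 0, 1, 3, 2, 3, 1, 0, 1, 5, 0, 1],
   [2, 3, 1, 0, 5, 1, 0, 1, 2, 4, 3, 1, 0, 2, 1, 3, 2, 0, 1, 5, 2, 3, 2, 1],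
   [2, 3, 1, 0, 5, 1, 0, 1, 2, 4, 1, 0, 2, 1, 3, 2, 0, 1, 5, 2, 3, 2, 1, 3],
   [2, 3, 2, 4, 3, 2, 1, 0, 2, 1, 3, 2, 0, 1, 5, 2, 3, 2, 1, 2, 1, 0, 5, 1, 0, 1],
   [2, 3, 1, 0, 5, 1, 0, 1, 2, 4, 1, 0, 2, 1, 3, 2, 0, 1, 5, 2, 3, 2, 1, 3, 2, 0]]

/-- Words. -/
def caseATws7 : List (List ℕ) :=
  [[2, 1, 0, 1, 5, 0, 1, 2, 3, 2, 4, 3, 1, 0, 2, 1, 3, 2, 0, 1, 5, 2, 3, 2, 1],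
   [0, 2, 3, 2, 4, 1, 2, 3, 2, 5, 1, 0, 2, 3, 1, 2, 0, 1, 3, 2, 3],
   [2, 3, 1, 0, 5, 1, 0, 1, 2, 4, 1, 0, 2, 1, 3, 2, 0, 1, 5, 2, 3, 2, 1, 3, 2],
   [2, 3, 2, 4, 1, 2, 3, 2, 5, 1, 0, 2, 3, 1, 2, 0, 1, 3, 2, 5],
   [0, 2, 3, 2, 4, 1, 2, 3, 2, 5, 1, 0, 2, 3, 1, 2, 0, 1, 3],
   [2, 3, 2, 4, 5, 1, 0, 2, 1, 3, 2, 0, 1, 5, 2, 3, 2, 1, 3, 2, 3],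
   [2, 3, 2, 4, 3, 1, 2, 3, 2, 5, 1, 0, 2, 3, 1, 2, 0, 1, 2, 3],
   [2, 3, 2, 4, 1, 2, 3, 2, 5, 1, 0, 2, 3, 1, 2, 0, 1, 3, 2, 3],
   [2, 3, 2, 4, 1, 2, 3, 2, 5, 1, 0, 2, 3, 1, 2, 0, 1, 2, 3, 2, 3],
   [2, 3, 2, 4, 1, 0, 2, 1, 3, 2, 0, 1, 5, 2, 3, 2, 1, 3, 2],
   [2, 3, 2, 4, 1, 2, 3, 2, 5, 1, 0, 2, 3, 1, 2, 0, 1, 3],
   [2, 3, 2, 4, 1, 0, 2, 1, 3, 2, 0, 1, 5, 2, 3, 2, 1, 0, 3, 2, 3],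
   [2, 3, 2, 4, 5, 1, 2, 3, 2, 5, 1, 0, 2, 3, 1, 2, 0, 1],
   [2, 3, 2, 4, 1, 0, 2, 1, 3, 2, 0, 1, 5, 2, 3, 2, 1, 3, 2, 3, 2],
   [0, 2, 3, 2, 4, 1, 0, 2, 1, 3, 2, 0, 1, 5, 2, 3, 2, 1, 3, 2, 3],
   [2, 3, 2, 4, 3, 1, 0, 5, 1, 0, 1, 2],
   [2, 3, 2, 4, 3, 2, 1, 0, 2, 1, 3, 2, 0, 1, 5, 2, 3, 2, 1, 2, 4],
   [0, 2, 3, 2, 4, 3, 2, 1, 0, 2, 1, 3, 2, 0, 1, 5, 2, 3, 2, 1, 2, 4, 3],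
   [2, 1, 0, 1, 5, 0, 1, 2, 3, 4, 1, 2, 3, 2, 5, 1, 0, 2, 3, 1, 2, 0, 1, 3],
   [2, 3, 2, 4, 3, 2, 1, 0, 2, 1, 3, 2, 0, 1, 5, 2, 3, 2, 1, 0, 3],
   [2, 3, 2, 4, 3, 2, 1, 0, 2, 1, 3, 2, 0, 1, 5, 2, 3, 2, 1, 0, 2],
   [2, 3, 2, 4, 3, 2, 5, 1, 0, 2, 1, 3, 2, 0, 1, 5, 2, 3, 2, 1, 2, 4],
   [2, 3, 4, 1, 2, 3, 2, 5, 1, 0, 2, 3, 1, 2, 0, 1, 3, 2, 3],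
   [2, 3, 4, 1, 2, 3, 2, 5, 1, 0, 2, 3, 1, 2, 0, 1, 3, 2, 5],
   [2, 3, 2, 4, 3, 1, 0, 1, 5, 0, 1, 1, 2, 3, 2, 5, 1, 0, 2, 3, 1, 2, 0, 1],
   [2, 3, 2, 4, 3, 5, 1, 0, 2, 1, 3, 2, 0, 1, 5, 2, 3, 2, 1],
   [2, 3, 2, 4, 1, 0, 2, 1, 3, 2, 0, 1, 5, 2, 3, 2, 1, 3],
   [2, 3, 2, 4, 1, 0, 2, 1, 3, 2, 0, 1, 5, 2, 3, 2, 1, 0, 3, 2],
   [2, 3, 2, 4, 1, 2, 3, 2, 5, 1, 0, 2, 3, 1, 2, 0, 1, 3, 2, 3, 2],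
   [2, 3, 2, 4, 1, 0, 2, 1, 3, 2, 0, 1, 5, 2, 3, 2, 1, 2],
   [2, 3, 2, 4, 1, 2, 3, 2, 5, 1, 0, 2, 3, 1, 2, 0, 1, 2, 0, 3],
   [2, 3, 2, 4, 3, 1, 0, 2, 1, 3, 2, 0, 1, 5, 2, 3, 2, 1],
   [2, 3, 2, 4, 3, 1, 0, 2, 1, 3, 2, 0, 1, 5, 2, 3, 2, 1, 0, 2],
   [2, 3, 2, 4, 3, 1, 2, 3, 2, 5, 1, 0, 2, 3, 1, 2, 0, 1, 2, 3, 2, 5],
   [0, 2, 3, 4, 1, 2, 3, 2, 5, 1, 0, 2, 3, 1, 2, 0, 1, 3, 2, 3],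
   [0, 2, 3, 2, 4, 1, 0, 2, 1, 3, 2, 0, 1, 5, 2, 3, 2, 1, 3, 2],
   [0, 2, 3, 2, 4, 1, 2, 3, 2, 5, 1, 0, 2, 3, 1, 2, 0, 1, 2, 3, 2, 3],
   [2, 3, 4, 1, 0, 2, 1, 3, 2, 0, 1, 5, 2, 3, 2, 1, 0, 2, 3, 2, 4],
   [0, 2, 3, 2, 4, 1, 2, 3, 2, 5, 1, 0, 2, 3, 1, 2, 0, 1, 2, 3],
   [2, 3, 2, 4, 1, 2, 3, 2, 5, 1, 0, 2, 3, 1, 2, 0, 1, 2, 3],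
   [2, 3, 2, 4, 3, 5, 1, 0, 1, 5, 0, 1, 2, 3],
   [2, 3, 2, 4, 3, 2, 1, 0, 5, 1, 0, 1],
   [2, 3, 4, 1, 2, 3, 2, 5, 1, 0, 2, 3, 1, 2, 0, 1, 3, 4, 3, 2, 5, 1, 0, 1, 5, 0, 1],
   [2, 3, 2, 4, 1, 2, 3, 2, 5, 1, 0, 2, 3, 1, 2, 0, 1, 4, 0, 3, 2, 3, 1, 0, 1, 5, 0, 1],
   [2, 3, 4, 1, 2, 3, 2, 5, 1, 0, 2, 3, 1, 2, 0, 1, 3, 4, 3, 2, 1, 0, 1, 5, 0, 1],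
   [2, 3, 4, 1, 2, 3, 2, 5, 1, 0, 2, 3, 1, 2, 0, 1, 4, 3, 2, 5, 1, 0, 1, 5, 0, 1],
   [2, 3, 4, 1, 2, 3, 2, 5, 1, 0, 2, 3, 1, 2, 0, 1, 4, 0, 1, 0, 1, 5, 0, 1],
   [2, 3, 2, 4, 3, 1, 2, 3, 2, 5, 1, 0, 2, 3, 1, 2, 0, 1, 2, 5, 1, 0, 1, 5, 0, 1],
   [0, 2, 3, 2, 1, 0, 1, 5, 0, 1, 2, 4, 3, 1, 2, 3, 2, 5, 1, 0, 2, 3, 1, 2, 0, 1],
   [2, 3, 2, 4, 1, 0, 2, 1, 3, 2, 0, 1, 5, 2, 3, 2, 1, 2, 3, 1, 0, 5, 1, 0, 1],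
   [2, 3, 1, 0, 1, 5, 0, 1, 2, 4, 3, 1, 2, 3, 2, 5, 1, 0, 2, 3, 1, 2, 0, 1],
   [2, 3, 4, 5, 1, 0, 2, 1, 3, 2, 0, 1, 5, 2, 3, 2, 1, 3, 2, 3, 4],
   [2, 3, 2, 4, 3, 2, 1, 0, 1, 5, 0, 1, 0],
   [2, 3, 2, 4, 3, 2, 1, 0, 1, 5, 0, 1, 2],
   [2, 3, 2, 4, 3, 2, 1, 0, 5, 1, 0, 1, 5],
   [2, 3, 2, 4, 3, 2, 1, 2, 3, 2, 5, 1, 0, 2, 3, 1, 2, 0, 1, 3],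
   [2, 3, 2, 4, 3, 2, 1, 2, 3, 2, 5, 1, 0, 2, 3, 1, 2, 0, 1, 5],
   [0, 2, 3, 2, 4, 3, 2, 1, 2, 3, 2, 5, 1, 0, 2, 3, 1, 2, 0, 1, 3],
   [2, 3, 2, 4, 3, 2, 1, 2, 3, 2, 5, 1, 0, 2, 3, 1, 2, 0, 1, 3, 2, 5],
   [0, 2, 3, 4, 1, 0, 2, 1, 3, 2, 0, 1, 5, 2, 3, 2, 1, 3, 2, 3, 2],
   [0, 2, 3, 2, 4, 3, 1, 0, 1, 5, 0, 1, 2, 3],
   [2, 3, 4, 1, 0, 2, 1, 3, 2, 0, 1, 5, 2, 3, 2, 1, 0, 3, 2, 3],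
   [2, 3, 2, 4, 3, 2, 1, 2, 3, 2, 5, 1, 0, 2, 3, 1, 2, 0, 1, 3, 0, 4],
   [2, 3, 2, 4, 3, 1, 2, 3, 2, 5, 1, 0, 2, 3, 1, 2, 0, 1, 3, 2, 4, 3]]

/-- Words. -/
def caseATws8 : List (List ℕ) :=
  [[2, 3, 4, 1, 0, 2, 1, 3, 2, 0, 1, 5, 2, 3, 2, 1, 2, 3, 2, 3, 4],
   [2, 3, 4, 1, 0, 2, 1, 3, 2, 0, 1, 5, 2, 3, 2, 1, 0, 3, 2, 3, 4],
   [2, 3, 2, 4, 3, 1, 2, 3, 2, 5, 1, 0, 2, 3, 1, 2, 0, 1, 3, 0, 2],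
   [0, 2, 3, 2, 4, 3, 1, 2, 3, 2, 5, 1, 0, 2, 3, 1, 2, 0, 1, 3, 2, 4, 3],
   [0, 2, 3, 4, 1, 0, 2, 1, 3, 2, 0, 1, 5, 2, 3, 2, 1, 2, 3, 2, 3, 4],
   [2, 3, 2, 4, 3, 1, 2, 3, 2, 5, 1, 0, 2, 3, 1, 2, 0, 1, 3, 2, 4, 5],
   [0, 2, 3, 4, 1, 0, 2, 1, 3, 2, 0, 1, 5, 2, 3, 2, 1, 3, 2, 3, 4],
   [2, 3, 4, 1, 0, 2, 1, 3, 2, 0, 1, 5, 2, 3, 2, 1, 3, 2, 3, 2, 4],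
   [2, 3, 2, 4, 3, 1, 0, 1, 5, 0, 1, 2, 3, 4],
   [2, 3, 2, 1, 0, 5, 1, 0, 1, 5, 4, 3, 2, 3],
   [2, 1, 0, 1, 5, 0, 1, 2, 3, 4, 1, 0, 2, 1, 3, 2, 0, 1, 5, 2, 3, 2, 1],
   [0, 2, 3, 2, 4, 1, 2, 3, 2, 5, 1, 0, 2, 3, 1, 2, 0, 1, 2, 4, 3, 1, 0, 1, 5, 0, 1],
   [2, 3, 2, 4, 1, 0, 2, 1, 3, 2, 0, 1, 5, 2, 3, 2, 1, 2, 3, 4, 1, 0, 5, 1, 0, 1],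
   [2, 3, 4, 1, 2, 3, 2, 5, 1, 0, 2, 3, 1, 2, 0, 1, 3, 4, 5],
   [2, 3, 4, 5, 1, 2, 3, 2, 5, 1, 0, 2, 3, 1, 2, 0, 1, 1, 0, 1, 5, 0, 1],
   [2, 3, 4, 1, 0, 2, 1, 3, 2, 0, 1, 5, 2, 3, 2, 1, 0, 2, 3],
   [2, 1, 0, 1, 5, 0, 1, 2, 3, 4, 1, 2, 3, 2, 5, 1, 0, 2, 3, 1, 2, 0, 1, 3, 4],
   [2, 3, 4, 1, 0, 5, 1, 0, 1, 1, 2, 3, 2, 5, 1, 0, 2, 3, 1, 2, 0, 1, 3, 4],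
   [2, 3, 4, 1, 0, 2, 1, 3, 2, 0, 1, 5, 2, 3, 2, 1, 2],
   [2, 3, 2, 4, 1, 2, 3, 2, 5, 1, 0, 2, 3, 1, 2, 0, 1, 2, 0, 3, 4],
   [2, 3, 2, 4, 3, 5, 1, 0, 1, 5, 0, 1, 2, 3, 4],
   [2, 3, 4, 5, 1, 0, 2, 1, 3, 2, 0, 1, 5, 2, 3, 2, 1, 3, 2, 3],
   [0, 2, 3, 1, 0, 5, 1, 0, 1, 2, 4, 1, 0, 2, 1, 3, 2, 0, 1, 5, 2, 3, 2, 1, 4, 2, 3],
   [2, 3, 2, 4, 3, 2, 1, 2, 3, 2, 5, 1, 0, 2, 3, 1, 2, 0, 1, 4, 5],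
   [0, 2, 3, 4, 1, 0, 2, 1, 3, 2, 0, 1, 5, 2, 3, 2, 1, 2, 3],
   [2, 3, 4, 5, 1, 0, 2, 1, 3, 2, 0, 1, 5, 2, 3, 2, 1, 2, 3, 2],
   [2, 3, 2, 4, 3, 2, 1, 2, 3, 2, 5, 1, 0, 2, 3, 1, 2, 0, 1, 2, 5],
   [2, 3, 4, 1, 0, 2, 1, 3, 2, 0, 1, 5, 2, 3, 2, 1, 0, 2, 3, 2],
   [0, 2, 3, 2, 4, 1, 2, 3, 2, 5, 1, 0, 2, 3, 1, 2, 0, 1, 2, 3, 4],
   [2, 3, 4, 5, 1, 0, 2, 1, 3, 2, 0, 1, 5, 2, 3, 2, 1, 2, 3, 2, 4, 3],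
   [2, 3, 2, 4, 1, 2, 3, 2, 5, 1, 0, 2, 3, 1, 2, 0, 1, 2, 3, 4],
   [0, 2, 3, 2, 4, 3, 2, 1, 2, 3, 2, 5, 1, 0, 2, 3, 1, 2, 0, 1, 4, 3],
   [0, 2, 3, 2, 4, 1, 2, 3, 2, 5, 1, 0, 2, 3, 1, 2, 0, 1, 4, 3, 2, 3],
   [2, 3, 2, 4, 3, 2, 1, 2, 3, 2, 5, 1, 0, 2, 3, 1, 2, 0, 1, 4, 3],
   [2, 3, 4, 1, 2, 3, 2, 5, 1, 0, 2, 3, 1, 2, 0, 1, 4, 3, 2, 1, 0, 1, 5, 0, 1],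
   [2, 3, 4, 1, 2, 3, 2, 5, 1, 0, 2, 3, 1, 2, 0, 1, 4, 0, 3, 2, 1, 0, 1, 5, 0, 1, 2],
   [2, 3, 2, 4, 3, 2, 5, 1, 0, 1, 5, 0, 1],
   [0, 2, 3, 2, 4, 3, 2, 1, 0, 1, 5, 0, 1, 2],
   [2, 3, 2, 4, 3, 2, 5, 1, 0, 5, 1, 0, 1],
   [2, 3, 4, 1, 0, 1, 5, 0, 1, 1, 2, 3, 2, 5, 1, 0, 2, 3, 1, 2, 0, 1, 2],
   [2, 3, 2, 4, 3, 1, 0, 2, 1, 3, 2, 0, 1, 5, 2, 3, 2, 1, 1, 0, 5, 1, 0, 1],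
   [2, 3, 2, 4, 5, 1, 0, 1, 5, 0, 1, 1, 2, 3, 2, 5, 1, 0, 2, 3, 1, 2, 0, 1],
   [0, 2, 3, 2, 4, 3, 2, 1, 0, 2, 1, 3, 2, 0, 1, 5, 2, 3, 2, 1, 2, 3],
   [2, 3, 4, 5, 1, 0, 1, 5, 0, 1, 1, 2, 3, 2, 5, 1, 0, 2, 3, 1, 2, 0, 1],
   [2, 3, 2, 4, 3, 1, 2, 3, 2, 5, 1, 0, 2, 3, 1, 2, 0, 1, 2, 0, 1, 0, 1, 5, 0, 1],
   [2, 3, 4, 1, 2, 3, 2, 5, 1, 0, 2, 3, 1, 2, 0, 1, 2, 3],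
   [2, 3, 4, 1, 2, 3, 2, 5, 1, 0, 2, 3, 1, 2, 0, 1, 2, 5],
   [2, 3, 2, 4, 3, 2, 1, 0, 2, 1, 3, 2, 0, 1, 5, 2, 3, 2, 1, 2, 3],
   [2, 3, 4, 1, 2, 3, 2, 5, 1, 0, 2, 3, 1, 2, 0, 1, 2, 0, 3, 2],
   [0, 2, 3, 4, 1, 2, 3, 2, 5, 1, 0, 2, 3, 1, 2, 0, 1, 2, 3],
   [2, 3, 2, 4, 3, 2, 5, 1, 0, 2, 1, 3, 2, 0, 1, 5, 2, 3, 2, 1, 2, 3],
   [2, 3, 2, 4, 3, 1, 0, 5, 1, 0, 1, 2, 3, 2],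
   [2, 3, 2, 4, 3, 1, 2, 3, 2, 5, 1, 0, 2, 3, 1, 2, 0, 1, 2, 4, 1, 0, 1, 5, 0, 1],
   [2, 3, 2, 4, 3, 1, 0, 2, 1, 3, 2, 0, 1, 5, 2, 3, 2, 1, 2, 3, 4],
   [2, 3, 2, 4, 1, 2, 3, 2, 5, 1, 0, 2, 3, 1, 2, 0, 1, 2, 0, 3, 2, 4, 3],
   [0, 2, 3, 2, 4, 3, 1, 2, 3, 2, 5, 1, 0, 2, 3, 1, 2, 0, 1, 4, 3],
   [0, 2, 3, 2, 4, 3, 1, 0, 1, 5, 0, 1, 2, 3, 2],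
   [0, 2, 3, 2, 1, 0, 1, 5, 0, 1, 2, 4, 3, 2, 3, 4],
   [2, 3, 1, 0, 5, 1, 0, 1, 2, 4, 1, 0, 2, 1, 3, 2, 0, 1, 5, 2, 3, 2, 1, 2, 4],
   [2, 3, 1, 0, 5, 1, 0, 1, 2, 4, 1, 0, 2, 1, 3, 2, 0, 1, 5, 2, 3, 2, 1, 2, 4, 3],
   [2, 3, 4, 1, 0, 2, 1, 3, 2, 0, 1, 5, 2, 3, 2, 1, 2, 1, 0, 5, 1, 0, 1],
   [2, 3, 4, 1, 2, 3, 2, 5, 1, 0, 2, 3, 1, 2, 0, 1, 3, 5],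
   [2, 3, 4, 1, 0, 5, 1, 0, 1, 1, 0, 2, 1, 3, 2, 0, 1, 5, 2, 3, 2, 1, 4, 3, 5],
   [2, 3, 4, 1, 2, 3, 2, 5, 1, 0, 2, 3, 1, 2, 0, 1, 2, 3, 4]]

/-- Words. -/
def caseATws9 : List (List ℕ) :=
  [[2, 3, 4, 1, 0, 2, 1, 3, 2, 0, 1, 5, 2, 3, 2, 1, 0, 2, 3, 4],
   [2, 3, 4, 1, 0, 5, 1, 0, 1, 1, 2, 3, 2, 5, 1, 0, 2, 3, 1, 2, 0, 1, 3],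
   [2, 3, 2, 4, 1, 0, 2, 1, 3, 2, 0, 1, 5, 2, 3, 2, 1, 2, 3, 4],
   [2, 3, 2, 4, 1, 0, 2, 1, 3, 2, 0, 1, 5, 2, 3, 2, 1, 0, 2, 3, 2, 4],
   [2, 3, 2, 4, 1, 2, 3, 2, 5, 1, 0, 2, 3, 1, 2, 0, 1, 2, 0, 4],
   [2, 3, 4, 5, 1, 0, 2, 1, 3, 2, 0, 1, 5, 2, 3, 2, 1, 3, 2, 4, 3],
   [0, 2, 3, 4, 1, 0, 2, 1, 3, 2, 0, 1, 5, 2, 3, 2, 1, 2, 3, 4],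
   [2, 3, 4, 5, 1, 0, 2, 1, 3, 2, 0, 1, 5, 2, 3, 2, 1, 2, 3, 2, 4],
   [2, 3, 2, 4, 1, 2, 3, 2, 5, 1, 0, 2, 3, 1, 2, 0, 1, 2, 4, 3, 5],
   [2, 3, 4, 1, 0, 2, 1, 3, 2, 0, 1, 5, 2, 3, 2, 1, 3, 2, 3, 2, 4, 3],
   [0, 2, 3, 2, 4, 1, 0, 2, 1, 3, 2, 0, 1, 5, 2, 3, 2, 1, 2, 3, 2, 4],
   [0, 2, 3, 2, 4, 1, 2, 3, 2, 5, 1, 0, 2, 3, 1, 2, 0, 1, 2, 4],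
   [2, 3, 2, 4, 5, 1, 0, 2, 1, 3, 2, 0, 1, 5, 2, 3, 2, 1, 2, 3, 2, 4, 3],
   [2, 3, 2, 4, 1, 2, 3, 2, 5, 1, 0, 2, 3, 1, 2, 0, 1, 4, 5],
   [2, 3, 2, 4, 1, 2, 3, 2, 5, 1, 0, 2, 3, 1, 2, 0, 1, 2, 4],
   [0, 2, 3, 2, 1, 0, 5, 1, 0, 1, 2, 4, 3, 2, 3, 4],
   [0, 2, 3, 2, 4, 3, 1, 0, 5, 1, 0, 1, 2, 3],
   [2, 3, 4, 1, 0, 2, 1, 3, 2, 0, 1, 5, 2, 3, 2, 1, 2, 1, 0, 5, 1, 0, 1, 2],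
   [0, 2, 3, 1, 0, 1, 5, 0, 1, 2, 4, 3, 1, 2, 3, 2, 5, 1, 0, 2, 3, 1, 2, 0, 1],
   [0, 2, 3, 4, 1, 0, 2, 1, 3, 2, 0, 1, 5, 2, 3, 2, 1, 2, 1, 0, 5, 1, 0, 1],
   [2, 3, 4, 1, 2, 3, 2, 5, 1, 0, 2, 3, 1, 2, 0, 1, 4, 3, 1, 0, 1, 5, 0, 1],
   [2, 3, 4, 1, 2, 3, 2, 5, 1, 0, 2, 3, 1, 2, 0, 1, 4, 3, 5, 1, 0, 1, 5, 0, 1],
   [2, 3, 4, 1, 2, 3, 2, 5, 1, 0, 2, 3, 1, 2, 0, 1, 4, 0, 3, 1, 0, 1, 5, 0, 1, 2],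
   [2, 1, 0, 1, 5, 0, 1, 2, 3, 4, 1, 0, 2, 1, 3, 2, 0, 1, 5, 2, 3, 2, 1, 4, 3, 2],
   [2, 3, 2, 4, 1, 0, 2, 1, 3, 2, 0, 1, 5, 2, 3, 2, 1, 2, 3, 2],
   [2, 3, 4, 1, 0, 2, 1, 3, 2, 0, 1, 5, 2, 3, 2, 1, 0, 3, 2, 3, 4, 3],
   [0, 2, 3, 4, 1, 0, 2, 1, 3, 2, 0, 1, 5, 2, 3, 2, 1, 3, 2, 3, 4, 3],
   [2, 3, 2, 4, 3, 1, 0, 2, 1, 3, 2, 0, 1, 5, 2, 3, 2, 1, 2, 3, 2, 3, 4],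
   [0, 2, 3, 2, 4, 3, 1, 2, 3, 2, 5, 1, 0, 2, 3, 1, 2, 0, 1, 3, 2, 4],
   [2, 3, 4, 1, 0, 2, 1, 3, 2, 0, 1, 5, 2, 3, 2, 1, 2, 3, 2, 4, 3],
   [2, 3, 4, 1, 0, 2, 1, 3, 2, 0, 1, 5, 2, 3, 2, 1, 0, 2, 3, 2, 4, 3, 2],
   [2, 3, 2, 4, 1, 2, 3, 2, 5, 1, 0, 2, 3, 1, 2, 0, 1, 4, 3, 2, 3, 2],
   [2, 3, 2, 4, 1, 0, 2, 1, 3, 2, 0, 1, 5, 2, 3, 2, 1, 2, 3, 2, 4, 3],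
   [0, 2, 3, 2, 4, 1, 0, 2, 1, 3, 2, 0, 1, 5, 2, 3, 2, 1, 2, 3, 2, 3],
   [0, 2, 3, 2, 4, 1, 2, 3, 2, 5, 1, 0, 2, 3, 1, 2, 0, 1],
   [0, 2, 3, 4, 1, 0, 5, 1, 0, 1, 1, 0, 2, 1, 3, 2, 0, 1, 5, 2, 3, 2, 1],
   [0, 2, 3, 2, 4, 1, 0, 2, 1, 3, 2, 0, 1, 5, 2, 3, 2, 1, 3, 2, 3, 2, 4],
   [2, 3, 2, 4, 1, 2, 3, 2, 5, 1, 0, 2, 3, 1, 2, 0, 1, 3, 5],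
   [2, 3, 2, 4, 3, 5, 1, 0, 5, 1, 0, 1, 1, 0, 2, 1, 3, 2, 0, 1, 5, 2, 3, 2, 1],
   [2, 3, 2, 4, 1, 2, 3, 2, 5, 1, 0, 2, 3, 1, 2, 0, 1],
   [2, 3, 4, 1, 0, 2, 1, 3, 2, 0, 1, 5, 2, 3, 2, 1, 2, 3, 4],
   [2, 3, 4, 1, 0, 2, 1, 3, 2, 0, 1, 5, 2, 3, 2, 1, 0, 3, 2],
   [2, 3, 2, 4, 1, 2, 3, 2, 5, 1, 0, 2, 3, 1, 2, 0, 1, 4, 3, 2, 3, 2, 4],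
   [2, 3, 2, 4, 1, 2, 3, 2, 5, 1, 0, 2, 3, 1, 2, 0, 1, 4, 0, 3, 2, 3, 4],
   [2, 3, 4, 1, 0, 2, 1, 3, 2, 0, 1, 5, 2, 3, 2, 1, 2, 3, 2, 3, 4, 3],
   [2, 3, 2, 4, 3, 2, 1, 2, 3, 2, 5, 1, 0, 2, 3, 1, 2, 0, 1],
   [2, 3, 2, 4, 3, 1, 2, 3, 2, 5, 1, 0, 2, 3, 1, 2, 0, 1, 3, 0, 2, 3],
   [2, 3, 2, 4, 1, 2, 3, 2, 5, 1, 0, 2, 3, 1, 2, 0, 1, 4, 3, 2, 3, 4, 5],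
   [0, 2, 3, 4, 1, 0, 2, 1, 3, 2, 0, 1, 5, 2, 3, 2, 1, 2, 3, 2, 3, 4, 3],
   [0, 2, 3, 2, 4, 3, 1, 2, 3, 2, 5, 1, 0, 2, 3, 1, 2, 0, 1, 3, 4, 3, 2],
   [0, 2, 3, 4, 1, 0, 2, 1, 3, 2, 0, 1, 5, 2, 3, 2, 1, 3, 2, 3, 2, 4, 3, 2],
   [2, 1, 0, 1, 5, 0, 1, 2, 3, 4, 1, 0, 2, 1, 3, 2, 0, 1, 5, 2, 3, 2, 1, 4],
   [2, 3, 2, 4, 3, 1, 0, 5, 1, 0, 1, 2, 0, 3],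
   [0, 2, 3, 2, 4, 1, 0, 5, 1, 0, 1, 1, 0, 2, 1, 3, 2, 0, 1, 5, 2, 3, 2, 1, 4],
   [2, 3, 2, 4, 1, 0, 5, 1, 0, 1, 1, 0, 2, 1, 3, 2, 0, 1, 5, 2, 3, 2, 1, 4, 3],
   [0, 2, 3, 4, 1, 0, 5, 1, 0, 1, 1, 0, 2, 1, 3, 2, 0, 1, 5, 2, 3, 2, 1, 4, 2],
   [2, 3, 2, 4, 1, 2, 3, 2, 5, 1, 0, 2, 3, 1, 2, 0, 1, 3, 0, 4, 1, 0, 1, 5, 0, 1],
   [2, 3, 2, 4, 3, 1, 0, 1, 5, 0, 1, 2, 3, 2, 4],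
   [2, 3, 2, 1, 0, 1, 5, 0, 1, 0, 4, 3, 2, 3, 4],
   [0, 2, 3, 2, 4, 3, 1, 0, 5, 1, 0, 1, 2, 3, 2, 4],
   [2, 3, 2, 4, 3, 1, 2, 3, 2, 5, 1, 0, 2, 3, 1, 2, 0, 1, 1, 0, 1, 5, 0, 1],
   [2, 3, 2, 1, 0, 5, 1, 0, 1, 2, 4, 3, 2, 3],
   [0, 2, 3, 2, 4, 1, 0, 5, 1, 0, 1, 1, 0, 2, 1, 3, 2, 0, 1, 5, 2, 3, 2, 1],
   [2, 3, 2, 4, 5, 1, 0, 5, 1, 0, 1, 1, 0, 2, 1, 3, 2, 0, 1, 5, 2, 3, 2, 1]]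

/-- Words. -/
def caseATws10 : List (List ℕ) :=
  [[0, 2, 3, 2, 4, 3, 1, 2, 3, 2, 5, 1, 0, 2, 3, 1, 2, 0, 1, 3, 4, 3],
   [0, 2, 3, 2, 4, 1, 2, 3, 2, 5, 1, 0, 2, 3, 1, 2, 0, 1, 2, 4, 1, 0, 1, 5, 0, 1],
   [2, 3, 4, 1, 2, 3, 2, 5, 1, 0, 2, 3, 1, 2, 0, 1, 2, 0, 1, 0, 1, 5, 0, 1],
   [2, 3, 4, 1, 2, 3, 2, 5, 1, 0, 2, 3, 1, 2, 0, 1, 2, 4, 1, 0, 1, 5, 0, 1],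
   [2, 3, 4, 1, 0, 2, 1, 3, 2, 0, 1, 5, 2, 3, 2, 1, 2, 3, 4, 1, 0, 5, 1, 0, 1],
   [0, 2, 3, 4, 1, 2, 3, 2, 5, 1, 0, 2, 3, 1, 2, 0, 1, 2, 1, 0, 1, 5, 0, 1],
   [2, 3, 2, 4, 3, 1, 2, 3, 2, 5, 1, 0, 2, 3, 1, 2, 0, 1, 2, 4, 5],
   [0, 2, 3, 2, 4, 3, 1, 2, 3, 2, 5, 1, 0, 2, 3, 1, 2, 0, 1, 2, 4, 1, 0, 1, 5, 0, 1],
   [2, 3, 2, 4, 1, 2, 3, 2, 5, 1, 0, 2, 3, 1, 2, 0, 1, 3, 2, 4, 5],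
   [0, 2, 3, 2, 4, 1, 2, 3, 2, 5, 1, 0, 2, 3, 1, 2, 0, 1, 3, 4],
   [2, 3, 2, 4, 5, 1, 0, 2, 1, 3, 2, 0, 1, 5, 2, 3, 2, 1, 3, 2, 3, 4],
   [2, 3, 2, 4, 3, 1, 2, 3, 2, 5, 1, 0, 2, 3, 1, 2, 0, 1, 2],
   [2, 3, 2, 4, 1, 2, 3, 2, 5, 1, 0, 2, 3, 1, 2, 0, 1, 3, 2, 4, 3],
   [2, 3, 2, 4, 3, 1, 2, 3, 2, 5, 1, 0, 2, 3, 1, 2, 0, 1, 4],
   [0, 2, 3, 2, 4, 3, 1, 0, 2, 1, 3, 2, 0, 1, 5, 2, 3, 2, 1, 2, 3, 4],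
   [2, 3, 2, 4, 1, 2, 3, 2, 5, 1, 0, 2, 3, 1, 2, 0, 1, 3, 4],
   [2, 3, 2, 4, 1, 0, 2, 1, 3, 2, 0, 1, 5, 2, 3, 2, 1, 0, 3, 2, 3, 4],
   [2, 3, 2, 4, 1, 2, 3, 2, 5, 1, 0, 2, 3, 1, 2, 0, 1, 3, 0, 4, 3],
   [2, 3, 2, 4, 1, 0, 2, 1, 3, 2, 0, 1, 5, 2, 3, 2, 1, 3, 2, 3, 2, 4],
   [0, 2, 3, 2, 4, 1, 0, 2, 1, 3, 2, 0, 1, 5, 2, 3, 2, 1, 3, 2, 3, 4],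
   [2, 3, 2, 4, 1, 2, 3, 2, 5, 1, 0, 2, 3, 1, 2, 0, 1, 4, 0],
   [0, 2, 3, 2, 4, 3, 1, 2, 3, 2, 5, 1, 0, 2, 3, 1, 2, 0, 1, 4, 3, 2],
   [2, 3, 4, 1, 0, 2, 1, 3, 2, 0, 1, 5, 2, 3, 2, 1, 0, 3, 4],
   [2, 3, 4, 1, 0, 2, 1, 3, 2, 0, 1, 5, 2, 3, 2, 1, 3],
   [2, 3, 4, 1, 0, 2, 1, 3, 2, 0, 1, 5, 2, 3, 2, 1, 1, 0, 5, 1, 0, 1, 2, 3],
   [0, 2, 3, 4, 1, 0, 2, 1, 3, 2, 0, 1, 5, 2, 3, 2, 1, 3, 4],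
   [2, 3, 4, 5, 1, 0, 2, 1, 3, 2, 0, 1, 5, 2, 3, 2, 1, 3, 2, 4],
   [0, 2, 3, 2, 4, 3, 1, 2, 3, 2, 5, 1, 0, 2, 3, 1, 2, 0, 1, 3, 2, 3, 2],
   [0, 2, 3, 4, 1, 0, 2, 1, 3, 2, 0, 1, 5, 2, 3, 2, 1, 3, 2],
   [0, 2, 3, 2, 4, 1, 2, 3, 2, 5, 1, 0, 2, 3, 1, 2, 0, 1, 2, 3, 2, 4, 3],
   [0, 2, 3, 2, 4, 3, 1, 2, 3, 2, 5, 1, 0, 2, 3, 1, 2, 0, 1, 3, 2, 3, 4],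
   [2, 3, 2, 4, 1, 2, 3, 2, 5, 1, 0, 2, 3, 1, 2, 0, 1, 2, 3, 2, 4, 3],
   [0, 2, 3, 2, 4, 3, 2, 1, 0, 5, 1, 0, 1],
   [2, 3, 2, 1, 0, 1, 5, 0, 1, 0, 4, 3, 1, 2, 3, 2, 5, 1, 0, 2, 3, 1, 2, 0, 1],
   [2, 3, 2, 4, 3, 2, 1, 0, 1, 5, 0, 1, 0, 1, 2, 3, 2, 5, 1, 0, 2, 3, 1, 2, 0, 1],
   [2, 3, 2, 4, 3, 1, 0, 2, 1, 3, 2, 0, 1, 5, 2, 3, 2, 1, 0, 1, 0, 5, 1, 0, 1],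
   [2, 3, 1, 0, 5, 1, 0, 1, 2, 4, 3, 1, 0, 2, 1, 3, 2, 0, 1, 5, 2, 3, 2, 1, 2],
   [2, 3, 4, 1, 2, 3, 2, 5, 1, 0, 2, 3, 1, 2, 0, 1, 2, 3, 1, 0, 1, 5, 0, 1],
   [2, 1, 0, 1, 5, 0, 1, 2, 3, 2, 4, 3, 1, 0, 2, 1, 3, 2, 0, 1, 5, 2, 3, 2, 1, 2],
   [2, 3, 2, 4, 3, 1, 2, 3, 2, 5, 1, 0, 2, 3, 1, 2, 0, 1, 2, 3, 5],
   [2, 3, 4, 1, 2, 3, 2, 5, 1, 0, 2, 3, 1, 2, 0, 1, 2, 3, 1, 0, 1, 5, 0, 1, 2],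
   [2, 3, 2, 4, 1, 2, 3, 2, 5, 1, 0, 2, 3, 1, 2, 0, 1, 3, 2, 3, 5],
   [2, 3, 2, 4, 1, 2, 3, 2, 5, 1, 0, 2, 3, 1, 2, 0, 1, 3, 2, 3, 4],
   [2, 3, 2, 4, 3, 1, 2, 3, 2, 5, 1, 0, 2, 3, 1, 2, 0, 1, 2, 3, 2],
   [0, 2, 3, 2, 4, 3, 1, 0, 2, 1, 3, 2, 0, 1, 5, 2, 3, 2, 1, 2],
   [2, 3, 4, 1, 0, 2, 1, 3, 2, 0, 1, 5, 2, 3, 2, 1, 2, 3, 2, 4, 3, 2, 3],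
   [2, 3, 2, 4, 1, 0, 2, 1, 3, 2, 0, 1, 5, 2, 3, 2, 1, 2, 3, 2, 3],
   [2, 3, 2, 4, 3, 1, 0, 5, 1, 0, 1, 2, 3],
   [2, 3, 2, 4, 3, 2, 1, 0, 2, 1, 3, 2, 0, 1, 5, 2, 3, 2, 1, 3],
   [2, 3, 2, 4, 3, 2, 1, 0, 2, 1, 3, 2, 0, 1, 5, 2, 3, 2, 1, 2],
   [0, 2, 3, 2, 4, 3, 2, 1, 0, 2, 1, 3, 2, 0, 1, 5, 2, 3, 2, 1, 2, 4],
   [2, 3, 2, 4, 3, 1, 0, 1, 5, 0, 1, 1, 2, 3, 2, 5, 1, 0, 2, 3, 1, 2, 0, 1, 2],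
   [2, 3, 2, 4, 3, 2, 1, 0, 2, 1, 3, 2, 0, 1, 5, 2, 3, 2, 1, 0],
   [2, 3, 2, 4, 3, 2, 5, 1, 0, 2, 1, 3, 2, 0, 1, 5, 2, 3, 2, 1, 3],
   [2, 3, 4, 1, 2, 3, 2, 5, 1, 0, 2, 3, 1, 2, 0, 1, 3, 2, 3, 2],
   [2, 3, 2, 4, 3, 2, 5, 1, 0, 2, 1, 3, 2, 0, 1, 5, 2, 3, 2, 1, 2],
   [0, 2, 3, 4, 1, 2, 3, 2, 5, 1, 0, 2, 3, 1, 2, 0, 1, 2, 3, 4],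
   [2, 3, 4, 1, 0, 1, 5, 0, 1, 1, 2, 3, 2, 5, 1, 0, 2, 3, 1, 2, 0, 1, 2, 3],
   [0, 2, 3, 2, 4, 3, 1, 0, 2, 1, 3, 2, 0, 1, 5, 2, 3, 2, 1],
   [2, 3, 2, 4, 3, 5, 1, 0, 2, 1, 3, 2, 0, 1, 5, 2, 3, 2, 1, 2],
   [2, 3, 2, 4, 1, 2, 3, 2, 5, 1, 0, 2, 3, 1, 2, 0, 1, 3, 2, 3, 2, 4],
   [2, 3, 2, 4, 3, 2, 1, 2, 3, 2, 5, 1, 0, 2, 3, 1, 2, 0, 1, 2],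
   [2, 3, 4, 1, 2, 3, 2, 5, 1, 0, 2, 3, 1, 2, 0, 1, 2, 3, 5],
   [2, 3, 2, 4, 3, 1, 0, 2, 1, 3, 2, 0, 1, 5, 2, 3, 2, 1, 2]]

/-- Words. -/
def caseATws11 : List (List ℕ) :=
  [[0, 2, 3, 2, 4, 3, 1, 2, 3, 2, 5, 1, 0, 2, 3, 1, 2, 0, 1, 2, 3, 2],
   [2, 3, 2, 4, 3, 1, 0, 2, 1, 3, 2, 0, 1, 5, 2, 3, 2, 1, 0, 2, 3],
   [0, 2, 3, 4, 1, 2, 3, 2, 5, 1, 0, 2, 3, 1, 2, 0, 1, 3, 2, 3, 2],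
   [2, 3, 4, 1, 0, 2, 1, 3, 2, 0, 1, 5, 2, 3, 2, 1, 2, 3, 2, 4],
   [2, 3, 2, 4, 3, 2, 1, 2, 3, 2, 5, 1, 0, 2, 3, 1, 2, 0, 1, 4, 0],
   [0, 2, 3, 4, 1, 2, 3, 2, 5, 1, 0, 2, 3, 1, 2, 0, 1, 1, 0, 1, 5, 0, 1],
   [0, 2, 3, 4, 1, 2, 3, 2, 5, 1, 0, 2, 3, 1, 2, 0, 1, 4, 3, 2, 1, 0, 1, 5, 0, 1],
   [2, 3, 2, 4, 3, 2, 1, 0, 5, 1, 0, 1, 2],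
   [0, 2, 3, 2, 4, 3, 1, 2, 3, 2, 5, 1, 0, 2, 3, 1, 2, 0, 1, 4, 1, 0, 1, 5, 0, 1],
   [2, 3, 2, 4, 1, 2, 3, 2, 5, 1, 0, 2, 3, 1, 2, 0, 1, 4, 3, 2, 3, 5, 1, 0, 1, 5, 0, 1],
   [0, 2, 3, 4, 1, 2, 3, 2, 5, 1, 0, 2, 3, 1, 2, 0, 1, 3, 4, 3, 2, 1, 0, 1, 5, 0, 1],
   [0, 2, 3, 2, 4, 1, 2, 3, 2, 5, 1, 0, 2, 3, 1, 2, 0, 1, 4, 1, 0, 1, 5, 0, 1],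
   [2, 3, 2, 4, 1, 2, 3, 2, 5, 1, 0, 2, 3, 1, 2, 0, 1, 4, 0, 3, 2, 1, 0, 1, 5, 0, 1],
   [2, 3, 2, 4, 1, 2, 3, 2, 5, 1, 0, 2, 3, 1, 2, 0, 1, 4, 3, 2, 3, 1, 0, 1, 5, 0, 1],
   [2, 3, 4, 1, 2, 3, 2, 5, 1, 0, 2, 3, 1, 2, 0, 1, 4, 3, 2, 5, 1, 0, 1, 5, 0, 1, 2],
   [2, 3, 4, 1, 2, 3, 2, 5, 1, 0, 2, 3, 1, 2, 0, 1, 4, 5, 1, 0, 1, 5, 0, 1],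
   [2, 3, 4, 1, 2, 3, 2, 5, 1, 0, 2, 3, 1, 2, 0, 1, 4, 1, 0, 1, 5, 0, 1],
   [0, 2, 3, 2, 4, 3, 2, 1, 2, 3, 2, 5, 1, 0, 2, 3, 1, 2, 0, 1, 4, 1, 0, 1, 5, 0, 1],
   [0, 2, 3, 2, 4, 3, 1, 2, 3, 2, 5, 1, 0, 2, 3, 1, 2, 0, 1, 2, 1, 0, 1, 5, 0, 1],
   [2, 3, 4, 1, 0, 2, 1, 3, 2, 0, 1, 5, 2, 3, 2, 1, 2, 1, 0, 5, 1, 0, 1, 2, 3],
   [2, 3, 4, 1, 2, 3, 2, 5, 1, 0, 2, 3, 1, 2, 0, 1, 2, 1, 0, 1, 5, 0, 1, 2],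
   [2, 3, 4, 1, 0, 2, 1, 3, 2, 0, 1, 5, 2, 3, 2, 1, 2, 3, 1, 0, 5, 1, 0, 1],
   [2, 3, 2, 4, 3, 2, 1, 0, 1, 5, 0, 1, 0, 2],
   [2, 3, 2, 4, 3, 2, 1, 0, 1, 5, 0, 1, 2, 3],
   [2, 3, 2, 4, 3, 2, 1, 0, 5, 1, 0, 1, 2, 5],
   [2, 3, 2, 4, 3, 2, 1, 2, 3, 2, 5, 1, 0, 2, 3, 1, 2, 0, 1, 3, 0],
   [2, 3, 2, 4, 3, 2, 1, 2, 3, 2, 5, 1, 0, 2, 3, 1, 2, 0, 1, 3, 2],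
   [2, 3, 4, 1, 0, 2, 1, 3, 2, 0, 1, 5, 2, 3, 2, 1, 2, 3, 2, 3],
   [0, 2, 3, 2, 4, 3, 2, 1, 2, 3, 2, 5, 1, 0, 2, 3, 1, 2, 0, 1],
   [2, 3, 2, 4, 3, 1, 2, 3, 2, 5, 1, 0, 2, 3, 1, 2, 0, 1, 3, 0, 2, 4],
   [0, 2, 3, 2, 4, 3, 2, 1, 2, 3, 2, 5, 1, 0, 2, 3, 1, 2, 0, 1, 3, 2],
   [0, 2, 3, 4, 1, 0, 2, 1, 3, 2, 0, 1, 5, 2, 3, 2, 1, 2, 3, 2, 3],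
   [2, 3, 2, 4, 3, 1, 2, 3, 2, 5, 1, 0, 2, 3, 1, 2, 0, 1, 3, 2, 3, 4, 5],
   [0, 2, 3, 4, 1, 0, 2, 1, 3, 2, 0, 1, 5, 2, 3, 2, 1, 3, 2, 3],
   [2, 3, 4, 1, 0, 2, 1, 3, 2, 0, 1, 5, 2, 3, 2, 1, 3, 2, 3, 2],
   [0, 2, 3, 2, 4, 3, 1, 0, 1, 5, 0, 1, 2, 3, 4],
   [2, 3, 4, 1, 0, 2, 1, 3, 2, 0, 1, 5, 2, 3, 2, 1, 3, 2, 3],
   [0, 2, 3, 4, 1, 2, 3, 2, 5, 1, 0, 2, 3, 1, 2, 0, 1, 4, 3, 1, 0, 1, 5, 0, 1, 2],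
   [2, 3, 2, 4, 3, 1, 2, 3, 2, 5, 1, 0, 2, 3, 1, 2, 0, 1, 3, 0, 2, 4, 3],
   [2, 3, 2, 4, 3, 1, 2, 3, 2, 5, 1, 0, 2, 3, 1, 2, 0, 1, 3, 2, 4],
   [2, 3, 4, 1, 0, 2, 1, 3, 2, 0, 1, 5, 2, 3, 2, 1, 3, 2, 3, 4],
   [2, 3, 2, 4, 3, 1, 2, 3, 2, 5, 1, 0, 2, 3, 1, 2, 0, 1, 3, 2],
   [2, 3, 2, 4, 3, 1, 2, 3, 2, 5, 1, 0, 2, 3, 1, 2, 0, 1, 3, 0],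
   [0, 2, 3, 2, 4, 3, 1, 2, 3, 2, 5, 1, 0, 2, 3, 1, 2, 0, 1, 3, 2],
   [2, 3, 4, 1, 0, 2, 1, 3, 2, 0, 1, 5, 2, 3, 2, 1, 3, 2, 4, 3],
   [2, 3, 2, 4, 3, 1, 2, 3, 2, 5, 1, 0, 2, 3, 1, 2, 0, 1, 3, 4, 5],
   [2, 3, 2, 4, 3, 1, 2, 3, 2, 5, 1, 0, 2, 3, 1, 2, 0, 1, 3, 2, 5],
   [0, 2, 3, 2, 4, 3, 2, 1, 0, 5, 1, 0, 1, 1, 0, 2, 1, 3, 2, 0, 1, 5, 2, 3, 2, 1],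
   [2, 3, 2, 1, 0, 5, 1, 0, 1, 5, 4, 3, 2, 3, 4],
   [2, 3, 4, 1, 2, 3, 2, 5, 1, 0, 2, 3, 1, 2, 0, 1, 5, 1, 0, 1, 5, 0, 1],
   [2, 3, 4, 5, 1, 0, 5, 1, 0, 1, 1, 0, 2, 1, 3, 2, 0, 1, 5, 2, 3, 2, 1],
   [2, 3, 4, 1, 0, 2, 1, 3, 2, 0, 1, 5, 2, 3, 2, 1, 2, 1, 0, 5, 1, 0, 1, 2, 3, 4],
   [2, 3, 4, 1, 2, 3, 2, 5, 1, 0, 2, 3, 1, 2, 0, 1, 1, 0, 1, 5, 0, 1],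
   [2, 3, 4, 1, 2, 3, 2, 5, 1, 0, 2, 3, 1, 2, 0, 1, 2, 1, 0, 1, 5, 0, 1, 2, 4],
   [0, 2, 3, 2, 4, 1, 2, 3, 2, 5, 1, 0, 2, 3, 1, 2, 0, 1, 1, 0, 1, 5, 0, 1],
   [0, 2, 3, 2, 4, 3, 2, 1, 2, 3, 2, 5, 1, 0, 2, 3, 1, 2, 0, 1, 1, 0, 1, 5, 0, 1],
   [2, 3, 4, 1, 0, 2, 1, 3, 2, 0, 1, 5, 2, 3, 2, 1, 2, 3],
   [2, 3, 2, 4, 3, 2, 1, 2, 3, 2, 5, 1, 0, 2, 3, 1, 2, 0, 1, 2, 0],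
   [2, 3, 2, 4, 1, 2, 3, 2, 5, 1, 0, 2, 3, 1, 2, 0, 1, 2, 4, 3],
   [2, 3, 2, 4, 3, 1, 0, 5, 1, 0, 1, 2, 3, 4],
   [2, 3, 2, 4, 3, 2, 1, 2, 3, 2, 5, 1, 0, 2, 3, 1, 2, 0, 1, 4],
   [0, 2, 3, 2, 4, 3, 2, 1, 2, 3, 2, 5, 1, 0, 2, 3, 1, 2, 0, 1, 4],
   [0, 2, 3, 4, 1, 0, 2, 1, 3, 2, 0, 1, 5, 2, 3, 2, 1, 2, 3, 2],
   [0, 2, 3, 2, 4, 3, 2, 1, 2, 3, 2, 5, 1, 0, 2, 3, 1, 2, 0, 1, 2]]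

/-- Words. -/
def caseATws12 : List (List ℕ) :=
  [[2, 3, 4, 1, 0, 2, 1, 3, 2, 0, 1, 5, 2, 3, 2, 1, 2, 3, 2],
   [2, 3, 2, 4, 3, 2, 5, 1, 2, 3, 2, 5, 1, 0, 2, 3, 1, 2, 0, 1],
   [0, 2, 3, 4, 1, 2, 3, 2, 5, 1, 0, 2, 3, 1, 2, 0, 1, 4, 1, 0, 1, 5, 0, 1],
   [0, 2, 3, 4, 1, 0, 2, 1, 3, 2, 0, 1, 5, 2, 3, 2, 1, 2, 3, 2, 4, 3],
   [2, 3, 4, 5, 1, 0, 2, 1, 3, 2, 0, 1, 5, 2, 3, 2, 1, 2, 3, 2, 4, 3, 2],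
   [2, 3, 2, 4, 1, 2, 3, 2, 5, 1, 0, 2, 3, 1, 2, 0, 1, 2, 3, 2, 4, 3, 2],
   [2, 3, 2, 4, 1, 2, 3, 2, 5, 1, 0, 2, 3, 1, 2, 0, 1, 4, 3, 2, 3, 5],
   [0, 2, 3, 2, 4, 1, 2, 3, 2, 5, 1, 0, 2, 3, 1, 2, 0, 1, 4, 3, 2],
   [2, 3, 2, 4, 1, 2, 3, 2, 5, 1, 0, 2, 3, 1, 2, 0, 1, 4, 0, 3, 2, 3],
   [2, 3, 4, 1, 2, 3, 2, 5, 1, 0, 2, 3, 1, 2, 0, 1, 4, 3, 2, 1, 0, 1, 5, 0, 1, 2],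
   [2, 3, 4, 1, 2, 3, 2, 5, 1, 0, 2, 3, 1, 2, 0, 1, 4, 0, 3, 2, 1, 0, 1, 5, 0, 1, 2, 3],
   [2, 3, 2, 4, 3, 2, 5, 1, 0, 1, 5, 0, 1, 2],
   [0, 2, 3, 2, 4, 3, 2, 1, 0, 1, 5, 0, 1, 2, 3],
   [2, 3, 2, 4, 3, 2, 1, 0, 5, 1, 0, 1, 2, 0],
   [2, 3, 2, 1, 0, 1, 5, 0, 1, 0, 4, 1, 2, 3, 2, 5, 1, 0, 2, 3, 1, 2, 0, 1],
   [2, 3, 2, 4, 3, 1, 0, 2, 1, 3, 2, 0, 1, 5, 2, 3, 2, 1, 1, 0, 5, 1, 0, 1, 2],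
   [2, 3, 2, 4, 3, 5, 1, 0, 2, 1, 3, 2, 0, 1, 5, 2, 3, 2, 1, 1, 0, 5, 1, 0, 1],
   [0, 2, 3, 2, 4, 3, 2, 1, 0, 2, 1, 3, 2, 0, 1, 5, 2, 3, 2, 1, 2],
   [2, 3, 2, 4, 3, 1, 2, 3, 2, 5, 1, 0, 2, 3, 1, 2, 0, 1, 2, 1, 0, 1, 5, 0, 1],
   [2, 3, 4, 1, 2, 3, 2, 5, 1, 0, 2, 3, 1, 2, 0, 1, 2, 3, 2],
   [0, 2, 3, 4, 1, 2, 3, 2, 5, 1, 0, 2, 3, 1, 2, 0, 1, 2, 3, 2],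
   [2, 3, 2, 4, 3, 1, 0, 2, 1, 3, 2, 0, 1, 5, 2, 3, 2, 1, 2, 3],
   [2, 3, 2, 4, 3, 1, 2, 3, 2, 5, 1, 0, 2, 3, 1, 2, 0, 1, 3, 2, 3, 2],
   [2, 3, 2, 4, 3, 1, 0, 5, 1, 0, 1, 2, 3, 2, 4],
   [2, 3, 2, 4, 3, 1, 0, 2, 1, 3, 2, 0, 1, 5, 2, 3, 2, 1, 0, 2, 3, 4],
   [2, 3, 2, 4, 3, 1, 0, 2, 1, 3, 2, 0, 1, 5, 2, 3, 2, 1, 2, 3, 2, 4],
   [0, 2, 3, 2, 4, 3, 1, 2, 3, 2, 5, 1, 0, 2, 3, 1, 2, 0, 1, 2, 4],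
   [2, 3, 2, 4, 3, 1, 2, 3, 2, 5, 1, 0, 2, 3, 1, 2, 0, 1, 3, 2, 3, 4],
   [2, 3, 2, 4, 3, 1, 2, 3, 2, 5, 1, 0, 2, 3, 1, 2, 0, 1, 3, 4],
   [2, 3, 2, 4, 3, 1, 2, 3, 2, 5, 1, 0, 2, 3, 1, 2, 0, 1, 4, 3, 5],
   [0, 2, 3, 2, 4, 3, 1, 2, 3, 2, 5, 1, 0, 2, 3, 1, 2, 0, 1, 4],
   [2, 3, 2, 4, 3, 1, 2, 3, 2, 5, 1, 0, 2, 3, 1, 2, 0, 1, 4, 0, 3],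
   [2, 3, 2, 4, 3, 1, 0, 2, 1, 3, 2, 0, 1, 5, 2, 3, 2, 1, 2, 3, 2, 4, 3],
   [0, 2, 3, 2, 4, 3, 1, 0, 1, 5, 0, 1, 2, 3, 2, 4],
   [2, 3, 4, 1, 0, 2, 1, 3, 2, 0, 1, 5, 2, 3, 2, 1, 0, 3, 2, 4],
   [2, 3, 4, 1, 0, 2, 1, 3, 2, 0, 1, 5, 2, 3, 2, 1, 0, 3, 2, 4, 3],
   [2, 3, 4, 1, 0, 5, 1, 0, 1, 1, 0, 2, 1, 3, 2, 0, 1, 5, 2, 3, 2, 1, 4, 3],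
   [2, 3, 4, 1, 0, 5, 1, 0, 1, 1, 0, 2, 1, 3, 2, 0, 1, 5, 2, 3, 2, 1, 4, 5],
   [2, 1, 0, 1, 5, 0, 1, 2, 3, 4, 1, 0, 2, 1, 3, 2, 0, 1, 5, 2, 3, 2, 1, 4, 3],
   [2, 3, 4, 1, 0, 5, 1, 0, 1, 1, 0, 2, 1, 3, 2, 0, 1, 5, 2, 3, 2, 1, 4, 3, 2, 5],
   [2, 3, 4, 1, 2, 3, 2, 5, 1, 0, 2, 3, 1, 2, 0, 1, 4, 3, 5, 1, 0, 1, 5, 0, 1, 2],
   [2, 3, 4, 1, 2, 3, 2, 5, 1, 0, 2, 3, 1, 2, 0, 1, 2, 3, 2, 3],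
   [2, 3, 2, 4, 1, 2, 3, 2, 5, 1, 0, 2, 3, 1, 2, 0, 1, 2, 0, 4, 3],
   [2, 3, 2, 4, 1, 0, 2, 1, 3, 2, 0, 1, 5, 2, 3, 2, 1, 2, 3, 2, 4],
   [2, 3, 2, 4, 1, 0, 2, 1, 3, 2, 0, 1, 5, 2, 3, 2, 1, 0, 2, 3, 2, 4, 3],
   [0, 2, 3, 4, 1, 0, 2, 1, 3, 2, 0, 1, 5, 2, 3, 2, 1, 3, 2, 4, 3],
   [2, 3, 2, 4, 3, 1, 0, 2, 1, 3, 2, 0, 1, 5, 2, 3, 2, 1, 2, 3, 2, 3],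
   [0, 2, 3, 4, 1, 0, 2, 1, 3, 2, 0, 1, 5, 2, 3, 2, 1, 2, 3, 2, 4],
   [0, 2, 3, 2, 4, 1, 2, 3, 2, 5, 1, 0, 2, 3, 1, 2, 0, 1, 2, 4, 3],
   [2, 3, 4, 1, 0, 2, 1, 3, 2, 0, 1, 5, 2, 3, 2, 1, 3, 2, 3, 2, 4, 3, 2],
   [2, 3, 2, 4, 1, 0, 2, 1, 3, 2, 0, 1, 5, 2, 3, 2, 1, 2, 3, 2, 3, 4, 3],
   [0, 2, 3, 2, 4, 1, 0, 2, 1, 3, 2, 0, 1, 5, 2, 3, 2, 1, 2, 3, 2, 4, 3],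
   [0, 2, 3, 2, 4, 1, 2, 3, 2, 5, 1, 0, 2, 3, 1, 2, 0, 1, 4],
   [0, 2, 3, 4, 1, 0, 5, 1, 0, 1, 1, 0, 2, 1, 3, 2, 0, 1, 5, 2, 3, 2, 1, 4],
   [0, 2, 3, 4, 1, 0, 2, 1, 3, 2, 0, 1, 5, 2, 3, 2, 1, 2, 3, 2, 4, 3, 2, 3],
   [0, 2, 3, 2, 4, 1, 0, 2, 1, 3, 2, 0, 1, 5, 2, 3, 2, 1, 3, 2, 3, 2, 4, 3],
   [2, 3, 2, 4, 1, 2, 3, 2, 5, 1, 0, 2, 3, 1, 2, 0, 1, 4, 3, 5],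
   [2, 3, 2, 4, 1, 2, 3, 2, 5, 1, 0, 2, 3, 1, 2, 0, 1, 4],
   [0, 2, 3, 2, 4, 3, 1, 0, 5, 1, 0, 1, 2, 3, 4],
   [2, 3, 2, 4, 3, 2, 1, 0, 5, 1, 0, 1, 2, 3, 2],
   [2, 3, 2, 4, 3, 2, 5, 1, 0, 1, 5, 0, 1, 2, 3],
   [0, 2, 3, 4, 1, 2, 3, 2, 5, 1, 0, 2, 3, 1, 2, 0, 1, 4, 3, 1, 0, 1, 5, 0, 1],
   [2, 3, 4, 1, 2, 3, 2, 5, 1, 0, 2, 3, 1, 2, 0, 1, 4, 3, 1, 0, 1, 5, 0, 1, 2],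
   [2, 3, 4, 1, 0, 5, 1, 0, 1, 1, 0, 2, 1, 3, 2, 0, 1, 5, 2, 3, 2, 1, 4, 3, 2]]

/-- Words. -/
def caseATws13 : List (List ℕ) :=
  [[2, 3, 2, 4, 3, 1, 0, 5, 1, 0, 1, 2, 0, 3, 4],
   [2, 3, 2, 4, 3, 2, 1, 2, 3, 2, 5, 1, 0, 2, 3, 1, 2, 0, 1, 3, 4, 1, 0, 1, 5, 0, 1],
   [0, 2, 3, 4, 1, 0, 5, 1, 0, 1, 1, 0, 2, 1, 3, 2, 0, 1, 5, 2, 3, 2, 1, 4, 3, 2],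
   [0, 2, 3, 2, 4, 1, 0, 2, 1, 3, 2, 0, 1, 5, 2, 3, 2, 1, 2, 3, 2, 3, 4],
   [2, 3, 4, 1, 0, 2, 1, 3, 2, 0, 1, 5, 2, 3, 2, 1, 3, 2, 3, 4, 3],
   [2, 3, 4, 1, 0, 2, 1, 3, 2, 0, 1, 5, 2, 3, 2, 1, 0, 3, 2, 3, 4, 3, 2],
   [2, 3, 2, 4, 3, 2, 1, 2, 3, 2, 5, 1, 0, 2, 3, 1, 2, 0, 1, 1, 0, 1, 5, 0, 1],
   [0, 2, 3, 4, 1, 0, 2, 1, 3, 2, 0, 1, 5, 2, 3, 2, 1, 3, 2, 3, 4, 3, 2],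
   [2, 3, 2, 4, 3, 1, 0, 2, 1, 3, 2, 0, 1, 5, 2, 3, 2, 1, 2, 3, 2, 3, 4, 3],
   [0, 2, 3, 2, 4, 3, 1, 2, 3, 2, 5, 1, 0, 2, 3, 1, 2, 0, 1, 3, 4],
   [2, 3, 4, 1, 0, 2, 1, 3, 2, 0, 1, 5, 2, 3, 2, 1, 2, 3, 2, 4, 3, 2],
   [2, 3, 2, 4, 1, 0, 2, 1, 3, 2, 0, 1, 5, 2, 3, 2, 1, 2, 3, 2, 4, 3, 2],
   [2, 3, 2, 4, 1, 2, 3, 2, 5, 1, 0, 2, 3, 1, 2, 0, 1, 4, 3, 2, 3],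
   [2, 3, 2, 4, 3, 2, 5, 1, 0, 5, 1, 0, 1, 1, 0, 2, 1, 3, 2, 0, 1, 5, 2, 3, 2, 1],
   [2, 3, 2, 4, 1, 2, 3, 2, 5, 1, 0, 2, 3, 1, 2, 0, 1, 4, 3],
   [2, 3, 2, 4, 3, 1, 2, 3, 2, 5, 1, 0, 2, 3, 1, 2, 0, 1, 3, 0, 4, 3, 2],
   [2, 3, 4, 1, 0, 5, 1, 0, 1, 1, 0, 2, 1, 3, 2, 0, 1, 5, 2, 3, 2, 1],
   [2, 3, 2, 4, 1, 2, 3, 2, 5, 1, 0, 2, 3, 1, 2, 0, 1, 3, 4, 5],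
   [2, 3, 2, 4, 5, 1, 2, 3, 2, 5, 1, 0, 2, 3, 1, 2, 0, 1, 1, 0, 1, 5, 0, 1],
   [2, 3, 4, 1, 2, 3, 2, 5, 1, 0, 2, 3, 1, 2, 0, 1, 1, 0, 1, 5, 0, 1, 2, 3],
   [2, 3, 2, 4, 3, 1, 0, 5, 1, 0, 1, 1, 0, 2, 1, 3, 2, 0, 1, 5, 2, 3, 2, 1],
   [2, 3, 4, 1, 0, 2, 1, 3, 2, 0, 1, 5, 2, 3, 2, 1, 3, 2],
   [0, 2, 3, 2, 4, 1, 2, 3, 2, 5, 1, 0, 2, 3, 1, 2, 0, 1, 3, 4, 1, 0, 1, 5, 0, 1, 2],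
   [2, 3, 2, 4, 1, 2, 3, 2, 5, 1, 0, 2, 3, 1, 2, 0, 1, 4, 3, 2, 3, 4],
   [2, 3, 4, 1, 0, 2, 1, 3, 2, 0, 1, 5, 2, 3, 2, 1, 2, 3, 2, 3, 4, 3, 2],
   [2, 3, 2, 4, 3, 1, 2, 3, 2, 5, 1, 0, 2, 3, 1, 2, 0, 1, 3, 2, 3],
   [2, 3, 2, 4, 3, 1, 2, 3, 2, 5, 1, 0, 2, 3, 1, 2, 0, 1, 2, 3, 2, 3],
   [0, 2, 3, 2, 4, 3, 1, 2, 3, 2, 5, 1, 0, 2, 3, 1, 2, 0, 1, 3, 2, 3],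
   [2, 3, 4, 1, 0, 2, 1, 3, 2, 0, 1, 5, 2, 3, 2, 1, 3, 2, 4],
   [2, 3, 2, 4, 3, 1, 0, 2, 1, 3, 2, 0, 1, 5, 2, 3, 2, 1, 0, 2, 3, 2],
   [2, 3, 2, 4, 3, 1, 2, 3, 2, 5, 1, 0, 2, 3, 1, 2, 0, 1, 3, 4, 3, 2, 5],
   [0, 2, 3, 4, 1, 0, 2, 1, 3, 2, 0, 1, 5, 2, 3, 2, 1, 2, 3, 2, 3, 4, 3, 2],
   [0, 2, 3, 4, 1, 0, 2, 1, 3, 2, 0, 1, 5, 2, 3, 2, 1, 3, 2, 3, 2, 4, 3, 2, 3],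
   [0, 2, 3, 2, 4, 1, 0, 5, 1, 0, 1, 1, 0, 2, 1, 3, 2, 0, 1, 5, 2, 3, 2, 1, 4, 3],
   [2, 3, 4, 1, 0, 5, 1, 0, 1, 1, 0, 2, 1, 3, 2, 0, 1, 5, 2, 3, 2, 1, 2, 4],
   [2, 3, 4, 1, 2, 3, 2, 5, 1, 0, 2, 3, 1, 2, 0, 1, 1, 0, 1, 5, 0, 1, 2, 3, 4],
   [2, 3, 2, 4, 1, 0, 5, 1, 0, 1, 1, 0, 2, 1, 3, 2, 0, 1, 5, 2, 3, 2, 1, 4, 3, 2],
   [2, 3, 2, 4, 3, 1, 2, 3, 2, 5, 1, 0, 2, 3, 1, 2, 0, 1, 4, 3, 1, 0, 1, 5, 0, 1],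
   [0, 2, 3, 4, 1, 0, 5, 1, 0, 1, 1, 0, 2, 1, 3, 2, 0, 1, 5, 2, 3, 2, 1, 4, 2, 3],
   [2, 3, 2, 4, 1, 2, 3, 2, 5, 1, 0, 2, 3, 1, 2, 0, 1, 4, 3, 1, 0, 1, 5, 0, 1, 2],
   [0, 2, 3, 2, 4, 1, 2, 3, 2, 5, 1, 0, 2, 3, 1, 2, 0, 1, 3, 4, 1, 0, 1, 5, 0, 1],
   [2, 3, 2, 4, 1, 2, 3, 2, 5, 1, 0, 2, 3, 1, 2, 0, 1, 3, 4, 1, 0, 1, 5, 0, 1],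
   [2, 3, 2, 4, 3, 1, 2, 3, 2, 5, 1, 0, 2, 3, 1, 2, 0, 1, 4, 1, 0, 1, 5, 0, 1],
   [2, 3, 2, 1, 0, 5, 1, 0, 1, 2, 4, 3, 2, 3, 4],
   [0, 2, 3, 2, 4, 3, 1, 2, 3, 2, 5, 1, 0, 2, 3, 1, 2, 0, 1, 1, 0, 1, 5, 0, 1],
   [2, 3, 2, 4, 3, 1, 2, 3, 2, 5, 1, 0, 2, 3, 1, 2, 0, 1, 1, 0, 1, 5, 0, 1, 2],
   [2, 3, 2, 4, 3, 5, 1, 2, 3, 2, 5, 1, 0, 2, 3, 1, 2, 0, 1, 1, 0, 1, 5, 0, 1],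
   [2, 3, 4, 1, 0, 5, 1, 0, 1, 1, 0, 2, 1, 3, 2, 0, 1, 5, 2, 3, 2, 1, 2],
   [2, 3, 2, 4, 3, 1, 2, 3, 2, 5, 1, 0, 2, 3, 1, 2, 0, 1, 3, 0, 4, 3],
   [0, 2, 3, 2, 4, 3, 1, 0, 5, 1, 0, 1, 1, 0, 2, 1, 3, 2, 0, 1, 5, 2, 3, 2, 1],
   [2, 3, 2, 4, 3, 1, 2, 3, 2, 5, 1, 0, 2, 3, 1, 2, 0, 1, 3, 4, 3, 5],
   [2, 3, 4, 1, 2, 3, 2, 5, 1, 0, 2, 3, 1, 2, 0, 1, 2, 1, 0, 1, 5, 0, 1],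
   [2, 3, 2, 4, 3, 1, 2, 3, 2, 5, 1, 0, 2, 3, 1, 2, 0, 1, 2, 5],
   [2, 3, 2, 4, 3, 1, 2, 3, 2, 5, 1, 0, 2, 3, 1, 2, 0, 1, 4, 5],
   [0, 2, 3, 2, 4, 1, 2, 3, 2, 5, 1, 0, 2, 3, 1, 2, 0, 1, 3, 4, 3],
   [2, 3, 2, 4, 3, 1, 2, 3, 2, 5, 1, 0, 2, 3, 1, 2, 0, 1, 2, 0],
   [2, 3, 2, 4, 3, 1, 2, 3, 2, 5, 1, 0, 2, 3, 1, 2, 0, 1],
   [0, 2, 3, 2, 4, 3, 1, 0, 2, 1, 3, 2, 0, 1, 5, 2, 3, 2, 1, 2, 3],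
   [2, 3, 2, 4, 3, 1, 2, 3, 2, 5, 1, 0, 2, 3, 1, 2, 0, 1, 4, 0],
   [2, 3, 2, 4, 3, 5, 1, 0, 2, 1, 3, 2, 0, 1, 5, 2, 3, 2, 1, 2, 3, 4],
   [2, 3, 2, 4, 3, 1, 2, 3, 2, 5, 1, 0, 2, 3, 1, 2, 0, 1, 4, 3],
   [0, 2, 3, 2, 4, 3, 1, 0, 2, 1, 3, 2, 0, 1, 5, 2, 3, 2, 1, 2, 3, 2, 4],
   [2, 3, 2, 4, 1, 0, 2, 1, 3, 2, 0, 1, 5, 2, 3, 2, 1, 3, 2, 3, 2, 4, 3, 2],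
   [2, 3, 2, 4, 1, 2, 3, 2, 5, 1, 0, 2, 3, 1, 2, 0, 1, 3, 4, 3]]

/-- Words. -/
def caseATws14 : List (List ℕ) :=
  [[2, 3, 2, 4, 1, 0, 2, 1, 3, 2, 0, 1, 5, 2, 3, 2, 1, 2, 3, 2, 3, 4],
   [2, 3, 2, 4, 1, 2, 3, 2, 5, 1, 0, 2, 3, 1, 2, 0, 1, 3, 0, 4, 3, 2],
   [2, 3, 2, 4, 1, 2, 3, 2, 5, 1, 0, 2, 3, 1, 2, 0, 1, 4, 0, 3],
   [2, 3, 2, 4, 1, 0, 2, 1, 3, 2, 0, 1, 5, 2, 3, 2, 1, 3, 2, 3, 2, 4, 3],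
   [2, 3, 2, 4, 3, 1, 2, 3, 2, 5, 1, 0, 2, 3, 1, 2, 0, 1, 4, 3, 2, 5],
   [0, 2, 3, 2, 4, 1, 2, 3, 2, 5, 1, 0, 2, 3, 1, 2, 0, 1, 3, 4, 3, 2],
   [2, 3, 2, 4, 3, 1, 2, 3, 2, 5, 1, 0, 2, 3, 1, 2, 0, 1, 4, 0, 3, 2],
   [2, 3, 2, 4, 3, 1, 0, 2, 1, 3, 2, 0, 1, 5, 2, 3, 2, 1, 2, 3, 2, 4, 3, 2],
   [2, 3, 4, 1, 0, 2, 1, 3, 2, 0, 1, 5, 2, 3, 2, 1, 3, 4],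
   [2, 3, 2, 4, 3, 2, 1, 0, 1, 5, 0, 1, 1, 2, 3, 2, 5, 1, 0, 2, 3, 1, 2, 0, 1],
   [0, 2, 3, 4, 1, 0, 2, 1, 3, 2, 0, 1, 5, 2, 3, 2, 1, 3, 2, 4],
   [0, 2, 3, 2, 4, 3, 1, 2, 3, 2, 5, 1, 0, 2, 3, 1, 2, 0, 1, 2, 3, 2, 3],
   [2, 3, 2, 4, 3, 2, 1, 0, 5, 1, 0, 1, 1, 0, 2, 1, 3, 2, 0, 1, 5, 2, 3, 2, 1],
   [0, 2, 3, 2, 4, 3, 2, 1, 0, 5, 1, 0, 1, 2],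
   [2, 3, 2, 4, 3, 2, 5, 1, 0, 1, 5, 0, 1, 1, 2, 3, 2, 5, 1, 0, 2, 3, 1, 2, 0, 1],
   [0, 2, 3, 1, 0, 5, 1, 0, 1, 2, 4, 3, 2, 1, 0, 2, 1, 3, 2, 0, 1, 5, 2, 3, 2, 1],
   [0, 2, 3, 2, 4, 3, 1, 2, 3, 2, 5, 1, 0, 2, 3, 1, 2, 0, 1, 2, 3],
   [2, 3, 2, 4, 1, 2, 3, 2, 5, 1, 0, 2, 3, 1, 2, 0, 1, 4, 0, 3, 2],
   [0, 2, 3, 2, 4, 1, 0, 2, 1, 3, 2, 0, 1, 5, 2, 3, 2, 1, 2, 3, 2, 3, 4, 3],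
   [2, 3, 2, 4, 3, 2, 1, 0, 2, 1, 3, 2, 0, 1, 5, 2, 3, 2, 1],
   [0, 2, 3, 2, 4, 3, 2, 1, 0, 2, 1, 3, 2, 0, 1, 5, 2, 3, 2, 1, 3],
   [2, 3, 2, 4, 3, 2, 1, 0, 2, 1, 3, 2, 0, 1, 5, 2, 3, 2, 1, 1, 0, 5, 1, 0, 1],
   [2, 3, 2, 4, 3, 2, 5, 1, 0, 2, 1, 3, 2, 0, 1, 5, 2, 3, 2, 1],
   [0, 2, 3, 4, 1, 2, 3, 2, 5, 1, 0, 2, 3, 1, 2, 0, 1, 2, 3, 2, 3],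
   [2, 3, 2, 4, 3, 5, 1, 0, 2, 1, 3, 2, 0, 1, 5, 2, 3, 2, 1, 2, 3],
   [2, 3, 4, 1, 2, 3, 2, 5, 1, 0, 2, 3, 1, 2, 0, 1, 2, 3, 2, 5],
   [0, 2, 3, 2, 4, 1, 0, 2, 1, 3, 2, 0, 1, 5, 2, 3, 2, 1, 2, 3, 2, 3, 4, 3, 2],
   [0, 2, 3, 4, 1, 2, 3, 2, 5, 1, 0, 2, 3, 1, 2, 0, 1, 4, 3, 2, 1, 0, 1, 5, 0, 1, 2],
   [2, 3, 2, 4, 3, 1, 2, 3, 2, 5, 1, 0, 2, 3, 1, 2, 0, 1, 3, 4, 3],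
   [2, 3, 4, 1, 0, 5, 1, 0, 1, 1, 0, 2, 1, 3, 2, 0, 1, 5, 2, 3, 2, 1, 4, 3, 2, 3],
   [2, 3, 2, 4, 3, 2, 1, 0, 5, 1, 0, 1, 2, 3],
   [0, 2, 3, 2, 4, 3, 1, 2, 3, 2, 5, 1, 0, 2, 3, 1, 2, 0, 1, 4, 3, 1, 0, 1, 5, 0, 1],
   [2, 3, 4, 1, 0, 5, 1, 0, 1, 1, 0, 2, 1, 3, 2, 0, 1, 5, 2, 3, 2, 1, 2, 3, 4],
   [2, 3, 4, 1, 2, 3, 2, 5, 1, 0, 2, 3, 1, 2, 0, 1, 1, 0, 1, 5, 0, 1, 2, 4],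
   [2, 3, 4, 1, 0, 2, 1, 3, 2, 0, 1, 5, 2, 3, 2, 1, 3, 2, 3, 4, 3, 2],
   [2, 3, 2, 4, 1, 2, 3, 2, 5, 1, 0, 2, 3, 1, 2, 0, 1, 4, 3, 2, 5, 1, 0, 1, 5, 0, 1],
   [0, 2, 3, 2, 4, 1, 2, 3, 2, 5, 1, 0, 2, 3, 1, 2, 0, 1, 4, 3, 2, 3, 1, 0, 1, 5, 0, 1],
   [2, 3, 2, 4, 1, 2, 3, 2, 5, 1, 0, 2, 3, 1, 2, 0, 1, 4, 1, 0, 1, 5, 0, 1],
   [0, 2, 3, 2, 4, 1, 2, 3, 2, 5, 1, 0, 2, 3, 1, 2, 0, 1, 4, 3, 1, 0, 1, 5, 0, 1],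
   [2, 3, 2, 4, 3, 1, 2, 3, 2, 5, 1, 0, 2, 3, 1, 2, 0, 1, 4, 0, 1, 0, 1, 5, 0, 1],
   [2, 3, 2, 4, 1, 2, 3, 2, 5, 1, 0, 2, 3, 1, 2, 0, 1, 3, 4, 3, 2, 1, 0, 1, 5, 0, 1],
   [2, 3, 2, 4, 1, 2, 3, 2, 5, 1, 0, 2, 3, 1, 2, 0, 1, 4, 3, 2, 1, 0, 1, 5, 0, 1, 2],
   [2, 3, 2, 4, 1, 2, 3, 2, 5, 1, 0, 2, 3, 1, 2, 0, 1, 4, 3, 2, 1, 0, 1, 5, 0, 1],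
   [2, 3, 2, 4, 3, 1, 2, 3, 2, 5, 1, 0, 2, 3, 1, 2, 0, 1, 4, 3, 2, 1, 0, 1, 5, 0, 1, 2],
   [2, 3, 4, 1, 0, 2, 1, 3, 2, 0, 1, 5, 2, 3, 2, 1, 3, 2, 4, 3, 2],
   [2, 3, 2, 4, 3, 2, 1, 2, 3, 2, 5, 1, 0, 2, 3, 1, 2, 0, 1, 4, 1, 0, 1, 5, 0, 1],
   [2, 3, 2, 4, 3, 1, 2, 3, 2, 5, 1, 0, 2, 3, 1, 2, 0, 1, 1, 0, 1, 5, 0, 1, 2, 4],
   [2, 3, 2, 4, 3, 2, 1, 0, 1, 5, 0, 1, 0, 2, 3, 4],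
   [2, 3, 4, 1, 0, 5, 1, 0, 1, 1, 0, 2, 1, 3, 2, 0, 1, 5, 2, 3, 2, 1, 4],
   [2, 3, 2, 4, 3, 2, 1, 0, 1, 5, 0, 1, 0, 2, 3],
   [2, 3, 2, 4, 3, 2, 1, 0, 1, 5, 0, 1, 2, 3, 2],
   [2, 3, 2, 4, 3, 2, 1, 0, 1, 5, 0, 1, 2, 3, 4],
   [2, 3, 2, 4, 3, 2, 1, 0, 5, 1, 0, 1, 2, 3, 5],
   [2, 3, 2, 4, 3, 2, 1, 2, 3, 2, 5, 1, 0, 2, 3, 1, 2, 0, 1, 3, 0, 2],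
   [2, 3, 2, 4, 3, 1, 2, 3, 2, 5, 1, 0, 2, 3, 1, 2, 0, 1, 3, 0, 4],
   [2, 3, 2, 4, 3, 1, 2, 3, 2, 5, 1, 0, 2, 3, 1, 2, 0, 1, 3, 2, 3, 5],
   [0, 2, 3, 2, 4, 3, 2, 1, 0, 1, 5, 0, 1, 2, 3, 2],
   [0, 2, 3, 4, 1, 0, 5, 1, 0, 1, 1, 0, 2, 1, 3, 2, 0, 1, 5, 2, 3, 2, 1, 4, 3],
   [2, 3, 2, 4, 3, 2, 1, 0, 5, 1, 0, 1, 2, 0, 3],
   [2, 3, 2, 4, 3, 1, 2, 3, 2, 5, 1, 0, 2, 3, 1, 2, 0, 1, 3],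
   [2, 3, 2, 4, 3, 5, 1, 2, 3, 2, 5, 1, 0, 2, 3, 1, 2, 0, 1],
   [0, 2, 3, 2, 4, 3, 1, 2, 3, 2, 5, 1, 0, 2, 3, 1, 2, 0, 1, 3],
   [2, 3, 2, 4, 3, 1, 2, 3, 2, 5, 1, 0, 2, 3, 1, 2, 0, 1, 3, 5],
   [2, 3, 2, 4, 3, 1, 0, 5, 1, 0, 1, 1, 0, 2, 1, 3, 2, 0, 1, 5, 2, 3, 2, 1, 2]]

/-- Words. -/
def caseATws15 : List (List ℕ) :=
  [[2, 3, 2, 4, 1, 2, 3, 2, 5, 1, 0, 2, 3, 1, 2, 0, 1, 1, 0, 1, 5, 0, 1],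
   [2, 3, 4, 1, 2, 3, 2, 5, 1, 0, 2, 3, 1, 2, 0, 1, 1, 0, 1, 5, 0, 1, 2],
   [2, 3, 2, 4, 3, 2, 5, 1, 2, 3, 2, 5, 1, 0, 2, 3, 1, 2, 0, 1, 1, 0, 1, 5, 0, 1],
   [2, 3, 2, 4, 1, 2, 3, 2, 5, 1, 0, 2, 3, 1, 2, 0, 1, 4, 0, 1, 0, 1, 5, 0, 1],
   [0, 2, 3, 4, 1, 0, 2, 1, 3, 2, 0, 1, 5, 2, 3, 2, 1, 2, 3, 2, 4, 3, 2],
   [0, 2, 3, 2, 4, 1, 0, 2, 1, 3, 2, 0, 1, 5, 2, 3, 2, 1, 2, 3, 2, 4, 3, 2],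
   [2, 3, 2, 4, 3, 1, 0, 2, 1, 3, 2, 0, 1, 5, 2, 3, 2, 1, 0, 2, 3, 2, 4],
   [2, 3, 2, 4, 1, 2, 3, 2, 5, 1, 0, 2, 3, 1, 2, 0, 1, 4, 3, 2, 5],
   [0, 2, 3, 2, 4, 1, 2, 3, 2, 5, 1, 0, 2, 3, 1, 2, 0, 1, 4, 3],
   [2, 3, 4, 1, 2, 3, 2, 5, 1, 0, 2, 3, 1, 2, 0, 1, 4, 3, 2, 1, 0, 1, 5, 0, 1, 2, 3],
   [0, 2, 3, 2, 4, 3, 1, 2, 3, 2, 5, 1, 0, 2, 3, 1, 2, 0, 1, 4, 3, 2, 1, 0, 1, 5, 0, 1],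
   [2, 3, 2, 4, 3, 1, 2, 3, 2, 5, 1, 0, 2, 3, 1, 2, 0, 1, 4, 0, 3, 2, 1, 0, 1, 5, 0, 1],
   [0, 2, 3, 2, 4, 3, 2, 1, 0, 1, 5, 0, 1, 2, 3, 4],
   [2, 3, 1, 0, 5, 1, 0, 1, 2, 4, 3, 2, 1, 0, 2, 1, 3, 2, 0, 1, 5, 2, 3, 2, 1],
   [0, 2, 3, 2, 4, 3, 2, 1, 0, 2, 1, 3, 2, 0, 1, 5, 2, 3, 2, 1],
   [2, 3, 2, 4, 3, 1, 0, 2, 1, 3, 2, 0, 1, 5, 2, 3, 2, 1, 2, 3, 2],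
   [0, 2, 3, 2, 4, 3, 1, 2, 3, 2, 5, 1, 0, 2, 3, 1, 2, 0, 1, 2],
   [2, 3, 4, 1, 0, 5, 1, 0, 1, 1, 0, 2, 1, 3, 2, 0, 1, 5, 2, 3, 2, 1, 2, 3],
   [2, 3, 2, 4, 3, 1, 0, 2, 1, 3, 2, 0, 1, 5, 2, 3, 2, 1, 0, 2, 3, 2, 4, 3],
   [0, 2, 3, 2, 4, 3, 1, 2, 3, 2, 5, 1, 0, 2, 3, 1, 2, 0, 1],
   [2, 3, 2, 4, 3, 5, 1, 0, 2, 1, 3, 2, 0, 1, 5, 2, 3, 2, 1, 2, 3, 2, 4, 3],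
   [0, 2, 3, 2, 4, 3, 1, 0, 2, 1, 3, 2, 0, 1, 5, 2, 3, 2, 1, 2, 3, 2, 4, 3],
   [2, 3, 4, 1, 0, 2, 1, 3, 2, 0, 1, 5, 2, 3, 2, 1, 0, 3, 2, 4, 3, 2],
   [2, 3, 2, 4, 3, 2, 1, 0, 5, 1, 0, 1, 1, 0, 2, 1, 3, 2, 0, 1, 5, 2, 3, 2, 1, 4],
   [0, 2, 3, 4, 1, 0, 2, 1, 3, 2, 0, 1, 5, 2, 3, 2, 1, 3, 2, 4, 3, 2],
   [2, 3, 2, 4, 1, 0, 2, 1, 3, 2, 0, 1, 5, 2, 3, 2, 1, 2, 3, 2, 3, 4, 3, 2],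
   [2, 3, 4, 1, 0, 2, 1, 3, 2, 0, 1, 5, 2, 3, 2, 1, 3, 2, 3, 2, 4, 3, 2, 3],
   [0, 2, 3, 2, 4, 1, 0, 2, 1, 3, 2, 0, 1, 5, 2, 3, 2, 1, 3, 2, 3, 2, 4, 3, 2],
   [2, 3, 2, 4, 1, 2, 3, 2, 5, 1, 0, 2, 3, 1, 2, 0, 1, 3, 4, 3, 5],
   [2, 3, 2, 4, 3, 2, 1, 0, 5, 1, 0, 1, 2, 3, 4],
   [2, 3, 2, 4, 1, 2, 3, 2, 5, 1, 0, 2, 3, 1, 2, 0, 1, 3, 4, 1, 0, 1, 5, 0, 1, 2],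
   [2, 3, 4, 1, 0, 2, 1, 3, 2, 0, 1, 5, 2, 3, 2, 1, 0, 3, 2, 3, 4, 3, 2, 3],
   [0, 2, 3, 4, 1, 0, 2, 1, 3, 2, 0, 1, 5, 2, 3, 2, 1, 3, 2, 3, 4, 3, 2, 3],
   [2, 3, 2, 4, 1, 2, 3, 2, 5, 1, 0, 2, 3, 1, 2, 0, 1, 4, 3, 2],
   [2, 3, 4, 1, 0, 2, 1, 3, 2, 0, 1, 5, 2, 3, 2, 1, 2, 3, 2, 3, 4, 3, 2, 3],
   [2, 3, 2, 4, 3, 1, 2, 3, 2, 5, 1, 0, 2, 3, 1, 2, 0, 1, 3, 4, 3, 2],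
   [2, 3, 2, 4, 3, 2, 1, 0, 1, 5, 0, 1, 0, 2, 3, 2],
   [0, 2, 3, 4, 1, 2, 3, 2, 5, 1, 0, 2, 3, 1, 2, 0, 1, 4, 3, 2, 1, 0, 1, 5, 0, 1, 2, 3],
   [2, 3, 2, 4, 3, 5, 1, 0, 2, 1, 3, 2, 0, 1, 5, 2, 3, 2, 1, 2, 3, 2],
   [2, 3, 2, 4, 3, 1, 2, 3, 2, 5, 1, 0, 2, 3, 1, 2, 0, 1, 5],
   [0, 2, 3, 4, 1, 0, 2, 1, 3, 2, 0, 1, 5, 2, 3, 2, 1, 2, 3, 2, 3, 4, 3, 2, 3],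
   [2, 3, 2, 4, 3, 1, 2, 3, 2, 5, 1, 0, 2, 3, 1, 2, 0, 1, 4, 0, 3, 1, 0, 1, 5, 0, 1],
   [2, 3, 4, 1, 0, 5, 1, 0, 1, 1, 0, 2, 1, 3, 2, 0, 1, 5, 2, 3, 2, 1, 2, 4, 3],
   [2, 3, 4, 1, 2, 3, 2, 5, 1, 0, 2, 3, 1, 2, 0, 1, 1, 0, 1, 5, 0, 1, 2, 3, 4, 3],
   [2, 3, 2, 4, 1, 2, 3, 2, 5, 1, 0, 2, 3, 1, 2, 0, 1, 4, 3, 1, 0, 1, 5, 0, 1],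
   [2, 3, 2, 4, 1, 2, 3, 2, 5, 1, 0, 2, 3, 1, 2, 0, 1, 4, 0, 3, 1, 0, 1, 5, 0, 1],
   [2, 3, 4, 1, 2, 3, 2, 5, 1, 0, 2, 3, 1, 2, 0, 1, 1, 0, 1, 5, 0, 1, 2, 4, 3, 2],
   [2, 3, 2, 4, 1, 2, 3, 2, 5, 1, 0, 2, 3, 1, 2, 0, 1, 3, 4, 3, 1, 0, 1, 5, 0, 1],
   [2, 3, 4, 1, 0, 2, 1, 3, 2, 0, 1, 5, 2, 3, 2, 1, 3, 2, 3, 4, 3, 2, 3],
   [0, 2, 3, 2, 4, 3, 1, 0, 2, 1, 3, 2, 0, 1, 5, 2, 3, 2, 1, 2, 3, 2],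
   [2, 3, 2, 4, 3, 5, 1, 0, 2, 1, 3, 2, 0, 1, 5, 2, 3, 2, 1, 2, 3, 2, 4],
   [2, 3, 2, 4, 3, 1, 2, 3, 2, 5, 1, 0, 2, 3, 1, 2, 0, 1, 4, 3, 2],
   [2, 3, 2, 4, 1, 0, 2, 1, 3, 2, 0, 1, 5, 2, 3, 2, 1, 3, 2, 3, 2, 4, 3, 2, 3],
   [2, 3, 2, 4, 1, 2, 3, 2, 5, 1, 0, 2, 3, 1, 2, 0, 1, 3, 4, 3, 2],
   [2, 3, 2, 4, 1, 2, 3, 2, 5, 1, 0, 2, 3, 1, 2, 0, 1, 3, 4, 3, 2, 5],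
   [2, 3, 2, 4, 3, 1, 0, 2, 1, 3, 2, 0, 1, 5, 2, 3, 2, 1, 0, 2, 3, 2, 4, 3, 2],
   [0, 2, 3, 2, 4, 3, 1, 0, 2, 1, 3, 2, 0, 1, 5, 2, 3, 2, 1, 2, 3, 2, 4, 3, 2],
   [0, 2, 3, 2, 4, 3, 2, 1, 0, 5, 1, 0, 1, 2, 3],
   [2, 3, 4, 1, 2, 3, 2, 5, 1, 0, 2, 3, 1, 2, 0, 1, 1, 0, 1, 5, 0, 1, 2, 4, 3],
   [0, 2, 3, 2, 4, 1, 2, 3, 2, 5, 1, 0, 2, 3, 1, 2, 0, 1, 3, 4, 3, 2, 1, 0, 1, 5, 0, 1],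
   [2, 3, 2, 4, 1, 2, 3, 2, 5, 1, 0, 2, 3, 1, 2, 0, 1, 3, 4, 3, 2, 5, 1, 0, 1, 5, 0, 1],
   [0, 2, 3, 2, 4, 1, 2, 3, 2, 5, 1, 0, 2, 3, 1, 2, 0, 1, 4, 3, 2, 1, 0, 1, 5, 0, 1],
   [2, 3, 2, 4, 3, 1, 2, 3, 2, 5, 1, 0, 2, 3, 1, 2, 0, 1, 4, 3, 2, 1, 0, 1, 5, 0, 1],
   [2, 3, 2, 4, 3, 1, 2, 3, 2, 5, 1, 0, 2, 3, 1, 2, 0, 1, 4, 3, 2, 5, 1, 0, 1, 5, 0, 1]]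

/-- Words. -/
def caseATws : List (List ℕ) :=
  caseATws0 ++
  caseATws1 ++
  caseATws2 ++
  caseATws3 ++
  caseATws4 ++
  caseATws5 ++
  caseATws6 ++
  caseATws7 ++
  caseATws8 ++
  caseATws9 ++
  caseATws10 ++
  caseATws11 ++
  caseATws12 ++
  caseATws13 ++
  caseATws14 ++
  caseATws15

/-- The case. -/
def caseA : Case where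
  pts := [1]
  bw := [1]
  w1 := [3]
  w2 := [4, 1, 2, 3, 2, 5, 1, 0, 2, 3, 1, 2, 0, 1, 2, 3, 5, 2]
  xw := [2]
  r1 := 0xb2b39ca1a6959499a99faba384af8382a89db07daa7aa2b17776ac8d8a70aead6e726f6c886b98796897668f658063a7a5a46086615ea0745c9e8c599b9a567c55925396919350908e514c8b4a89874785467f81437e417b443f784e3d75733a71396a6d365835693367373164622f5b5f2d5d2c5a2a572e28545226494f4d234b224820453c42401c3e1b3b19381e17343215301425122b2910270f240d211f0b1d0a1a180816071311050e0c03090206040001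
  r2 := 0xa09bb3b2a490a77b7873715f45ad7e968e8b8940873e85754db16d4bb038afaeacab6957aa3454a9325230a89e429a93a6a5a3a25a67a19f2b649d299c622799984f9781959492918f488d8c218a881f86848382807f7d7c3b7a79771a76741872706f6e166c6b6a685d1d666563136160115e5c5b5958245655530e51504e0c4c4a494746444341093f3d3c3a393736353306312f2e2d2c2a04282625232220001e1c1b190117151412100f0d0b0a0807050302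
  lws := caseALws
  ews := caseAEws
  keys := [829901515367088, 1271141029384880, 8110997026771633, 11727418520339121, 11857831113566897,
   15946872176079320, 17002687162630833, 12288829798752728, 9241768399639000, 12290643126395352,
   15014764369599152, 6431880762302936, 15950942584533464, 10525318254013104, 6306440847935960,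
   22562403089459888, 10523254295734960, 21366135066223280, 5477841727654577, 4229825859219928,
   19073859482450608, 15016721188575920, 9081076595233456, 7259176284390065, 17653591991022256,
   25498414688740017, 9079621192716976, 7257415192609457, 17001391252718257, 8167384029819569,
   4118927701856728, 13179172657390256, 21833573059689137, 21365182564950704, 5475777878428337,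
   11858226263141041, 10739440688313009, 2730303823591896, 15646123236209329, 23073794622286513,
   10592180609679832, 10737808839815857, 2738405356648920, 11726835222676145, 6422833443054040,
   11760020223232472, 15482451760009904, 19688436811356849, 17171067048954545, 13751920257518040,
   8169443063984817, 4125009333604824, 8111665519137457, 9237008577630680, 16893818258508248,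
   11232078547753648, 10683063928523441, 8006799826528728, 19415479776258520, 7145065296810456,
   21763539285367472, 16895217465739736, 4127982767985112, 11231299040549552, 4224763032302040,
   19071931654503088, 15539771232047576, 13181050640229040, 15996788643156657, 15379183874914993,
   11620431684014552, 15535009883312600, 10424058699524568, 16371316348322480, 11753935626111448,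
   2732659038534104, 15485625329799856, 6299543906404824, 22557059713936048, 19408316244765144,
   17650065508299440, 12375940514941617, 5333946664038872, 2200350652945072, 16896851725961688,
   9080697878942384, 1395540630215344, 19413768584112600, 17650653688132272, 15488729391583920,
   16365837610025648, 12375305748974257, 832588860465840, 13177870531519152, 21840111769909937,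
   19072998790298288, 19696679897979569, 10418709925931480, 7905610567707096, 3098282927170224,
   11753120081447384, 21360788222010032, 2028290575837872, 15537416088408536, 11233035599846064,
   21764601484466864, 16002319164330673, 1269262417400496, 25494690046124721, 22560665083128496,
   15640974975513265, 7153158248321496, 3614661854567088, 1391787294366384, 23068850078935729,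
   10522184798546608, 11866569836898993, 2206629249209008, 3525011458153137, 15641795062608561,
   21767294487681712, 16001735191384753, 8164297571529393, 1274240670372528, 8116572733182641,
   19691145992002225, 17181172343638705, 13744819099519448, 21832901044107953, 15384205421492913,
   11620328281838040, 2026610295712432, 4966683333528240, 2026231822690992, 17170671924546225,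
   15011821432003248, 16997662285775537, 3099730620555952, 4884231885365937, 16369359994913456,
   12374644542114481, 10732234014208689, 830761922306736, 11719174506775217, 23066134120295089,
   10598195350667736, 25499078902915761, 10680794231245489, 8005983522695640, 1393709480975024,
   4971579566885552, 3526645290556081, 7248681640854193, 9247514034082264, 4882471095575217,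
   10679981442239153, 8015855362419160, 10425870886316504, 5473508256647857, 15945238893130200,
   15383568994581169, 11614976433820120, 13747847370230232, 4232857279853016, 7911314082949592,
   3101418442039984, 4874130185200305, 3610272725146288, 6428847416484312, 7144113965748696,
   12288933758771672, 10593136814522840, 6309411920923096, 5331542384128472, 2201644046275248,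
   3520106202847921, 7904211473721816, 5342048448754136, 4966099624823472, 3613880455731888]
  bp := (1, 173)
  imgs := caseAImgs
  tws := caseATws
  rels := [[0, 0], [1, 1, 1, 1, 1, 1, 1, 1, 1, 1, 1, 1, 1, 1, 1], [1, 0, 1, 0, 1, 0]]
  rels0 := [[0, 0]]
  rels1 := [[1, 1, 1, 1, 1, 1, 1, 1, 1, 1, 1, 1, 1, 1, 1]]
  nonrels := [[1, 1, 1], [1, 1, 1, 1, 1]]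
  surv := [(1, 2, 0, 1, 2), (1, 6, 1, 1, 2), (1, 8, 121, 1, 173), (1, 18, 140, 1, 2), (1, 19, 140, 1, 173),
   (1, 34, 0, 1, 34), (1, 36, 121, 1, 2), (1, 41, 1, 1, 34), (1, 71, 0, 1, 71), (1, 84, 1, 1, 71),
   (1, 114, 140, 1, 34), (1, 128, 121, 1, 34), (1, 130, 1, 1, 173), (1, 153, 140, 1, 71),
   (1, 163, 121, 1, 71), (1, 173, 0, 1, 173), (20, 2, 18, 1, 2), (20, 7, 85, 1, 173),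
   (20, 12, 11, 1, 71), (20, 18, 115, 1, 2), (20, 19, 115, 1, 173), (20, 38, 11, 1, 34),
   (20, 47, 11, 1, 2), (20, 81, 85, 1, 2), (20, 106, 115, 1, 34), (20, 124, 85, 1, 34),
   (20, 127, 11, 1, 173), (20, 136, 18, 1, 34), (20, 145, 115, 1, 71), (20, 161, 85, 1, 71),
   (20, 173, 18, 1, 173), (20, 177, 18, 1, 71), (21, 5, 3, 1, 71), (21, 6, 3, 1, 2),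
   (21, 7, 116, 1, 173), (21, 8, 89, 1, 173), (21, 36, 89, 1, 2), (21, 47, 6, 1, 2),
   (21, 68, 116, 1, 34), (21, 69, 3, 1, 34), (21, 81, 116, 1, 2), (21, 97, 116, 1, 71),
   (21, 119, 6, 1, 34), (21, 127, 6, 1, 173), (21, 130, 3, 1, 173), (21, 157, 6, 1, 71),
   (21, 160, 89, 1, 34), (21, 171, 89, 1, 71), (24, 5, 8, 1, 71), (24, 6, 14, 1, 2),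
   (24, 8, 135, 1, 173), (24, 9, 101, 1, 173), (24, 36, 135, 1, 2), (24, 56, 8, 1, 2),
   (24, 68, 135, 1, 34), (24, 69, 8, 1, 34), (24, 91, 101, 1, 2), (24, 97, 135, 1, 71),
   (24, 111, 8, 1, 173), (24, 124, 14, 1, 34), (24, 130, 14, 1, 173), (24, 136, 101, 1, 34),
   (24, 161, 14, 1, 71), (24, 177, 101, 1, 71), (26, 2, 2, 1, 2), (26, 9, 136, 1, 173),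
   (26, 12, 2, 1, 71), (26, 18, 104, 1, 2), (26, 19, 104, 1, 173), (26, 38, 2, 1, 34),
   (26, 56, 4, 1, 2), (26, 91, 136, 1, 2), (26, 106, 136, 1, 34), (26, 111, 4, 1, 173),
   (26, 119, 104, 1, 34), (26, 145, 136, 1, 71), (26, 157, 104, 1, 71), (26, 160, 4, 1, 34),
   (26, 171, 4, 1, 71), (26, 173, 2, 1, 173), (99, 2, 10, 1, 2), (99, 18, 77, 1, 2),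
   (99, 19, 77, 1, 173), (99, 34, 17, 1, 34), (99, 49, 53, 1, 173), (99, 59, 17, 1, 173),
   (99, 71, 17, 1, 71), (99, 96, 53, 1, 2), (99, 119, 53, 1, 34), (99, 128, 77, 1, 34),
   (99, 147, 17, 1, 2), (99, 157, 53, 1, 71), (99, 160, 10, 1, 34), (99, 163, 77, 1, 71),
   (99, 171, 10, 1, 71), (99, 173, 10, 1, 173), (101, 5, 20, 1, 71), (101, 7, 58, 1, 173),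
   (101, 41, 58, 1, 34), (101, 47, 20, 1, 2), (101, 49, 78, 1, 173), (101, 59, 31, 1, 173),
   (101, 68, 78, 1, 34), (101, 69, 20, 1, 34), (101, 81, 58, 1, 2), (101, 84, 58, 1, 71),
   (101, 96, 78, 1, 2), (101, 97, 78, 1, 71), (101, 114, 31, 1, 34), (101, 127, 20, 1, 173),
   (101, 147, 31, 1, 2), (101, 153, 31, 1, 71), (104, 7, 41, 1, 173), (104, 12, 21, 1, 71),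
   (104, 38, 21, 1, 34), (104, 41, 27, 1, 34), (104, 47, 33, 1, 2), (104, 54, 27, 1, 173),
   (104, 66, 21, 1, 173), (104, 81, 41, 1, 2), (104, 84, 27, 1, 71), (104, 94, 21, 1, 2),
   (104, 106, 41, 1, 34), (104, 114, 33, 1, 34), (104, 127, 33, 1, 173), (104, 144, 27, 1, 2),
   (104, 145, 41, 1, 71), (104, 153, 33, 1, 71), (107, 6, 7, 1, 2), (107, 8, 62, 1, 173),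
   (107, 34, 7, 1, 34), (107, 36, 62, 1, 2), (107, 54, 42, 1, 173), (107, 66, 12, 1, 173),
   (107, 71, 7, 1, 71), (107, 94, 12, 1, 2), (107, 124, 12, 1, 34), (107, 128, 42, 1, 34),
   (107, 130, 7, 1, 173), (107, 136, 62, 1, 34), (107, 144, 42, 1, 2), (107, 161, 12, 1, 71),
   (107, 163, 42, 1, 71), (107, 177, 62, 1, 71), (113, 6, 13, 1, 2), (113, 8, 64, 1, 173),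
   (113, 36, 64, 1, 2), (113, 41, 22, 1, 34), (113, 49, 22, 1, 173), (113, 59, 44, 1, 173),
   (113, 84, 22, 1, 71), (113, 96, 22, 1, 2), (113, 114, 64, 1, 34), (113, 119, 13, 1, 34),
   (113, 130, 13, 1, 173), (113, 147, 44, 1, 2), (113, 153, 64, 1, 71), (113, 157, 13, 1, 71),
   (113, 160, 44, 1, 34), (113, 171, 44, 1, 71), (115, 9, 71, 1, 173), (115, 12, 15, 1, 71),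
   (115, 34, 71, 1, 34), (115, 38, 15, 1, 34), (115, 49, 24, 1, 173), (115, 56, 15, 1, 2),
   (115, 59, 65, 1, 173), (115, 71, 71, 1, 71), (115, 91, 71, 1, 2), (115, 96, 24, 1, 2),
   (115, 106, 65, 1, 34), (115, 111, 15, 1, 173), (115, 128, 24, 1, 34), (115, 145, 65, 1, 71),
   (115, 147, 65, 1, 2), (115, 163, 24, 1, 71), (120, 5, 16, 1, 71), (120, 9, 50, 1, 173),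
   (120, 34, 34, 1, 34), (120, 54, 16, 1, 173), (120, 56, 26, 1, 2), (120, 66, 34, 1, 173),
   (120, 68, 50, 1, 34), (120, 69, 16, 1, 34), (120, 71, 34, 1, 71), (120, 91, 50, 1, 2),
   (120, 94, 34, 1, 2), (120, 97, 50, 1, 71), (120, 111, 26, 1, 173), (120, 128, 26, 1, 34),
   (120, 144, 16, 1, 2), (120, 163, 26, 1, 71), (123, 2, 5, 1, 2), (123, 18, 75, 1, 2),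
   (123, 19, 75, 1, 173), (123, 41, 5, 1, 34), (123, 54, 9, 1, 173), (123, 66, 51, 1, 173),
   (123, 84, 5, 1, 71), (123, 94, 51, 1, 2), (123, 114, 51, 1, 34), (123, 124, 75, 1, 34),
   (123, 136, 9, 1, 34), (123, 144, 9, 1, 2), (123, 153, 51, 1, 71), (123, 161, 75, 1, 71),
   (123, 173, 5, 1, 173), (123, 177, 9, 1, 71), (178, 7, 39, 1, 173), (178, 9, 48, 1, 173),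
   (178, 47, 32, 1, 2), (178, 56, 25, 1, 2), (178, 81, 39, 1, 2), (178, 91, 48, 1, 2),
   (178, 111, 25, 1, 173), (178, 119, 48, 1, 34), (178, 124, 25, 1, 34), (178, 127, 32, 1, 173),
   (178, 136, 32, 1, 34), (178, 157, 48, 1, 71), (178, 160, 39, 1, 34), (178, 161, 25, 1, 71),
   (178, 171, 39, 1, 71), (178, 177, 32, 1, 71), (179, 5, 28, 1, 71), (179, 12, 35, 1, 71),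
   (179, 38, 35, 1, 34), (179, 49, 35, 1, 173), (179, 54, 43, 1, 173), (179, 59, 28, 1, 173),
   (179, 66, 52, 1, 173), (179, 68, 52, 1, 34), (179, 69, 28, 1, 34), (179, 94, 52, 1, 2),
   (179, 96, 35, 1, 2), (179, 97, 52, 1, 71), (179, 106, 43, 1, 34), (179, 144, 43, 1, 2),
   (179, 145, 43, 1, 71), (179, 147, 28, 1, 2)]
  reps := [(1, 2), (1, 173), (1, 34), (1, 71)]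
  good := (1, 173)
  cs := (113, 142)
  sg := (113, 142)
  fixed := [(0, 113, 142), (1, 113, 142), (2, 113, 142), (3, 113, 142), (4, 113, 142), (5, 113, 142),
   (7, 113, 142), (8, 113, 142), (9, 113, 142), (14, 113, 142), (16, 113, 142), (18, 113, 142),
   (19, 113, 142), (26, 113, 142), (30, 113, 142), (35, 113, 142)]
  xrels := [[2, 2], [3, 2, 3, 3, 3, 2, 3, 3, 3, 2, 3, 3, 3, 2, 3, 3, 3, 2, 3, 3]]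
  allowed := [(2, 0, 0), (18, 166, 30), (26, 30, 166)]
  cen := [0, 30, 166]

end CfsgLib.SuzR3
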