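import Cfsg.Agent.Lib.SuzRank3.Setting

/-!
# The automorphism of the edge stabiliser induced by a flag
-/

set_option autoImplicit false
set_option maxRecDepth 100000

namespace CfsgLib.SuzR3

open CfsgLib.PresCert CfsgLib.Suz MulAction

variable {G Ω : Type*} [Group G] [MulAction G Ω] {C : Case}

namespace Edge

variable (E : Edge C G Ω)

/-- The image of an element of the triangle stabiliser. -/
noncomputable def e (i : ℕ) : G := E.ι (C.el i)

/-- An element swapping the edge and fixing the opposite point. -/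
def IsFlag (g : G) : Prop := g • E.a = E.c ∧ g • E.c = E.a ∧ g • E.d = E.d

/-- The images of the two generators under conjugation. -/
def Maps (g : G) (p q : ℕ) : Prop :=
  g * E.e C.i1 * g⁻¹ = E.e p ∧ g * E.e C.i2 * g⁻¹ = E.e q

variable (hC : Ok C)

include hC

theorem e_cat {i j : ℕ} (hi : i < 180) (hj : j < 180) : E.e (C.cat i j) = E.e j * E.e i := by
  rw [e, e, e, (hC.el_cat hi hj).2, map_mul]

theorem e_lg (k : ℕ) : E.ι (C.lg k) = if k = 0 then E.e C.i1 else E.e C.i2 := by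
  rw [Case.lg]
  split
  · rw [e, hC.el_i.1]
  · rw [e, hC.el_i.2]

theorem maps_lg {g : G} {p q : ℕ} (h : E.Maps g p q) (k : ℕ) :
    MulAut.conj g (E.ι (C.lg k)) = if k = 0 then E.e p else E.e q := by
  rw [E.e_lg hC, MulAut.conj_apply]
  split
  · exact h.1
  · exact h.2

theorem e_sub {g : G} {p q : ℕ} (hp : p < 180) (hq : q < 180) (h : E.Maps g p q) :
    ∀ (u : List ℕ) {i : ℕ}, i < 180 → C.sub p q i u < 180 ∧
      E.e (C.sub p q i u) = MulAut.conj g (E.ι (act C.lg u)) * E.e i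
  | [], i, hi => ⟨hi, by rw [act_nil, map_one, map_one, one_mul]; rfl⟩
  | k :: u, i, hi => by
    have h1 : (if Nat.beq k 0 = true then C.cat i p else C.cat i q) < 180 ∧
        E.e (if Nat.beq k 0 = true then C.cat i p else C.cat i q) =
          MulAut.conj g (E.ι (C.lg k)) * E.e i := by
      rw [E.maps_lg hC h]
      by_cases hk : k = 0
      · subst hk
        exact ⟨(hC.el_cat hi hp).1, E.e_cat hC hi hp⟩
      · have hb : Nat.beq k 0 = false := by
          rw [Bool.eq_false_iff]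
          exact fun hb => hk (Nat.eq_of_beq_eq_true hb)
        rw [if_neg hk, hb]
        exact ⟨(hC.el_cat hi hq).1, E.e_cat hC hi hq⟩
    obtain ⟨h3, h4⟩ := e_sub hp hq h u h1.1
    refine ⟨h3, ?_⟩
    rw [Case.sub, h4, h1.2, act_cons, map_mul, map_mul, mul_assoc]

theorem e_zero : E.e 0 = 1 := by rw [e, hC.el_zero, map_one]

theorem e_img {g : G} {p q : ℕ} (hp : p < 180) (hq : q < 180) (h : E.Maps g p q) {i : ℕ}
    (hi : i < 180) : C.img p q i < 180 ∧ E.e (C.img p q i) = g * E.e i * g⁻¹ := by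
  obtain ⟨h1, h2⟩ := E.e_sub hC hp hq h (C.ew i) (i := 0) (by norm_num)
  exact ⟨h1, by rw [Case.img, h2, hC.el_ew hi, E.e_zero hC, mul_one, MulAut.conj_apply]; rfl⟩

theorem maps_bw : E.Maps (E.ι (hEl C.bw)) C.bp.1 C.bp.2 := by
  obtain ⟨-, -, -, hb, h1, h2, -, -, -, -, -, -, -, hsq, hc1, hc2, hp1, hp2⟩ := hC.pts_spec
  have hinv : (hEl C.bw)⁻¹ = hEl C.bw := inv_eq_of_mul_eq_one_right hC.bw_sq
  have key : ∀ w : List ℕ, (∀ g ∈ w, g < 6) → ∀ i < 180, same (C.bw ++ w ++ C.bw) (C.lw i) = true →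
      E.ι (hEl C.bw) * E.ι (hEl w) * (E.ι (hEl C.bw))⁻¹ = E.e i := by
    intro w hw i hi hs
    rw [← map_inv, hinv, ← map_mul, ← map_mul, e, Case.el, ← same_eq ?_ (hC.row hi).1 hs,
      hEl_append, hEl_append, mul_assoc]
    intro x hx
    rcases List.mem_append.1 hx with hx | hx
    · exact (List.mem_append.1 hx).elim (hb x) (hw x)
    · exact hb x hx
  refine ⟨?_, ?_⟩
  · rw [show E.e C.i1 = E.ι (hEl C.w1) by rw [e, hC.el_i.1]]
    exact key _ h1 _ hp1 hc1
  · rw [show E.e C.i2 = E.ι (hEl C.w2) by rw [e, hC.el_i.2]]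
    exact key _ h2 _ hp2 hc2

theorem flag_conj {g : G} (hg : E.IsFlag g) {i : ℕ} (hi : i < 180) :
    ∃ j < 180, g * E.e i * g⁻¹ = E.e j := by
  obtain ⟨h1, h2, h3⟩ := E.el_fix hC hi
  refine E.tri hC ?_ ?_ ?_
  · rw [mul_smul, mul_smul, inv_smul_eq_iff.2 hg.2.1.symm, e, h2, hg.2.1]
  · rw [mul_smul, mul_smul, inv_smul_eq_iff.2 hg.1.symm, e, h1, hg.1]
  · rw [mul_smul, mul_smul, inv_smul_eq_iff.2 hg.2.2.symm, e, h3, hg.2.2]

theorem flag_el {g : G} (hg : E.IsFlag g) {j : ℕ} (hj : j < 180) : E.IsFlag (E.e j * g) := by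
  obtain ⟨h1, h2, h3⟩ := E.el_fix hC hj
  exact ⟨by rw [mul_smul, hg.1, e, h2], by rw [mul_smul, hg.2.1, e, h1],
    by rw [mul_smul, hg.2.2, e, h3]⟩

/-- The images of the generators are among the representatives after a change of flag. -/
theorem exists_rep : ∃ g : G, E.IsFlag g ∧ ∃ r ∈ C.reps, E.Maps g r.1 r.2 := by
  obtain ⟨g, hg⟩ := E.exists_flag hC
  obtain ⟨p, hp, ep⟩ := E.flag_conj hC hg hC.i1_lt
  obtain ⟨q, hq, eq⟩ := E.flag_conj hC hg hC.i2_lt
  have h : E.Maps g p q := ⟨ep, eq⟩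
  have ht := hC.tests
  simp only [Case.testsOk, Bool.and_eq_true, List.all_eq_true, Nat.beq_eq, Bool.not_eq_true',
    Nat.blt_eq] at ht
  obtain ⟨⟨⟨t1, t2⟩, t3⟩, t4⟩ := ht
  have hone : ∀ u : List ℕ, C.rwalk 0 u = 0 → C.sub p q 0 u = 0 := by
    intro u hu
    obtain ⟨b1, b2⟩ := E.e_sub hC hp hq h u (i := 0) (by norm_num)
    refine E.el_inj hC b1 (by norm_num) ?_
    have h3 := (hC.el_rwalk u (i := 0) (by norm_num)).2
    rw [hu, hC.el_zero, mul_one] at h3
    show E.e _ = E.e _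
    rw [b2, E.e_zero hC, mul_one, ← h3, map_one, map_one]
  have hne : ∀ u : List ℕ, C.rwalk 0 u ≠ 0 → C.sub p q 0 u ≠ 0 := by
    intro u hu hs
    obtain ⟨b1, b2⟩ := E.e_sub hC hp hq h u (i := 0) (by norm_num)
    rw [hs, E.e_zero hC, mul_one] at b2
    obtain ⟨a1, a2⟩ := hC.el_rwalk u (i := 0) (by norm_num)
    refine hu (hC.el_inj a1 (by norm_num) ?_)
    have h4 : E.ι (act C.lg u) = 1 := (MulAut.conj g).injective (by rw [← b2, map_one])
    rw [a2, hC.el_zero, mul_one]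
    exact E.inj (by rw [h4, map_one])
  have hpass : C.pass p q = true := by
    simp only [Case.pass, Bool.and_eq_true, List.all_eq_true, Nat.beq_eq, Bool.not_eq_true']
    refine ⟨fun u hu => hone u (t1 u hu).1, fun u hu => ?_⟩
    rw [Bool.eq_false_iff]
    exact fun hb => hne u (fun h0 => by
      have h1' := (t2 u hu).1
      rw [h0] at h1'
      simp at h1') (Nat.eq_of_beq_eq_true hb)
  have hcongr : ∀ (p q p' q' : ℕ) (u : List ℕ), (∀ k ∈ u, (k = 0 → p = p') ∧ (k ≠ 0 → q = q')) →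
      ∀ i, C.sub p q i u = C.sub p' q' i u := by
    intro p q p' q' u
    induction u with
    | nil => intro _ i; rfl
    | cons k u ih =>
      intro hk i
      obtain ⟨h0, h1⟩ := hk k (by simp)
      rw [Case.sub, Case.sub, ih fun a ha => hk a (by simp [ha])]
      by_cases hk0 : k = 0
      · simp [hk0, h0 hk0]
      · have hb : Nat.beq k 0 = false := by
          rw [Bool.eq_false_iff]
          exact fun hb => hk0 (Nat.eq_of_beq_eq_true hb)
        simp [hb, h1 hk0]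
  have hrow : C.surv.any (fun s => Nat.beq s.1 p && Nat.beq s.2.1 q) = true := by
    have ha := hC.aut (p / 60) (by omega)
    simp only [Case.autRows, List.all_eq_true, List.mem_range, Bool.or_eq_true,
      Bool.not_eq_true'] at ha
    have ha' := ha (p % 60) (Nat.mod_lt _ (by norm_num))
    rw [Nat.div_add_mod] at ha'
    have hp0 : C.rels0.all (fun u => Nat.beq (C.sub p 0 0 u) 0) = true := by
      simp only [List.all_eq_true, Nat.beq_eq]
      intro u hu
      obtain ⟨u1, u2⟩ := t3 u hu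
      rw [hcongr p 0 p q u (fun k hk => ⟨fun _ => rfl, fun hk0 => absurd (u2 k hk) hk0⟩) 0]
      exact hone u u1
    have hq1 : C.rels1.all (fun u => Nat.beq (C.sub 0 q 0 u) 0) = true := by
      simp only [List.all_eq_true, Nat.beq_eq]
      intro u hu
      obtain ⟨u1, u2⟩ := t4 u hu
      rw [hcongr 0 q p q u (fun k hk => ⟨fun hk0 => absurd (u2 k hk) (by omega), fun _ => rfl⟩) 0]
      exact hone u u1
    rcases ha' with ha' | ha'
    · rw [hp0] at ha'; exact Bool.noConfusion ha'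
    rcases ha' q hq with (ha'' | ha'') | ha''
    · rw [hq1] at ha''; exact Bool.noConfusion ha''
    · rw [hpass] at ha''; exact Bool.noConfusion ha''
    · exact ha''
  simp only [List.any_eq_true, Bool.and_eq_true, Nat.beq_eq] at hrow
  obtain ⟨s, hs, e1, e2⟩ := hrow
  have hv := hC.surv
  simp only [Case.survOk, List.all_eq_true, Bool.and_eq_true, Nat.beq_eq, Nat.blt_eq,
    List.contains_iff_mem] at hv
  obtain ⟨⟨⟨hj, hmem⟩, c1⟩, c2⟩ := hv s hs
  have hr := hC.reps
  simp only [Case.repsOk, List.all_eq_true, Bool.and_eq_true, Nat.blt_eq] at hr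
  obtain ⟨⟨r1, r2⟩, -⟩ := hr _ hmem
  have key : ∀ x y, x < 180 → y < 180 → C.cat x s.2.2.1 = C.cat s.2.2.1 y →
      E.e s.2.2.1 * E.e x * (E.e s.2.2.1)⁻¹ = E.e y := by
    intro x y hx hy h'
    have h2 := congrArg E.e h'
    rw [E.e_cat hC hx hj, E.e_cat hC hj hy] at h2
    rw [h2, mul_inv_cancel_right]
  refine ⟨E.e s.2.2.1 * g, E.flag_el hC hg hj, (s.2.2.2.1, s.2.2.2.2), hmem, ?_, ?_⟩
  · calc _ = E.e s.2.2.1 * (g * E.e C.i1 * g⁻¹) * (E.e s.2.2.1)⁻¹ := by group
      _ = _ := by rw [ep]; exact key p _ hp r1 (e1 ▸ c1)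
  · calc _ = E.e s.2.2.1 * (g * E.e C.i2 * g⁻¹) * (E.e s.2.2.1)⁻¹ := by group
      _ = _ := by rw [eq]; exact key q _ hq r2 (e2 ▸ c2)

/-- The cube of a flag followed by `bw` fixes the triangle. -/
theorem cube_tri {g : G} (hg : E.IsFlag g) :
    ∃ j < 180, (g * E.ι (hEl C.bw)) ^ 3 = E.e j := by
  set β := E.ι (hEl C.bw) with hβ
  have b1 : β • E.a = E.a := E.fix_a _
  have b2 : β • E.c = E.d := rfl
  have b3 : β • E.d = E.c := E.bw_swap hC
  have s1 : (g * β) • E.a = E.c := by rw [mul_smul, b1, hg.1]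
  have s2 : (g * β) • E.c = E.d := by rw [mul_smul, b2, hg.2.2]
  have s3 : (g * β) • E.d = E.a := by rw [mul_smul, b3, hg.2.1]
  refine E.tri hC ?_ ?_ ?_ <;> rw [pow_succ, pow_two, mul_smul, mul_smul]
  · rw [s1, s2, s3]
  · rw [s2, s3, s1]
  · rw [s3, s1, s2]

theorem e_psi {g : G} {p q : ℕ} (hp : p < 180) (hq : q < 180) (h : E.Maps g p q) {i : ℕ}
    (hi : i < 180) : C.psi p q i < 180 ∧
      E.e (C.psi p q i) = g * E.ι (hEl C.bw) * E.e i * (g * E.ι (hEl C.bw))⁻¹ := by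
  obtain ⟨-, -, -, -, -, -, -, -, -, -, -, -, -, -, -, -, hp1, hp2⟩ := hC.pts_spec
  obtain ⟨a1, a2⟩ := E.e_img hC hp1 hp2 (E.maps_bw hC) hi
  obtain ⟨b1, b2⟩ := E.e_img hC hp hq h a1
  exact ⟨b1, by rw [Case.psi, b2, a2]; group⟩

theorem cube_eq {g : G} {p q : ℕ} (hp : p < 180) (hq : q < 180) (h : E.Maps g p q) {i : ℕ}
    (hi : i < 180) : C.cube p q i < 180 ∧
      E.e (C.cube p q i) = (g * E.ι (hEl C.bw)) ^ 3 * E.e i * ((g * E.ι (hEl C.bw)) ^ 3)⁻¹ := by
  obtain ⟨a1, a2⟩ := E.e_psi hC hp hq h hi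
  obtain ⟨b1, b2⟩ := E.e_psi hC hp hq h a1
  obtain ⟨c1, c2⟩ := E.e_psi hC hp hq h b1
  exact ⟨c1, by rw [Case.cube, c2, b2, a2]; simp only [pow_succ, pow_zero, one_mul, mul_inv_rev, mul_assoc]⟩

/-- A flag inducing the compatible automorphism. -/
theorem exists_good : ∃ g : G, E.IsFlag g ∧ C.good.1 < 180 ∧ C.good.2 < 180 ∧
    E.Maps g C.good.1 C.good.2 := by
  obtain ⟨g, hg, r, hr, hmap⟩ := E.exists_rep hC
  have h := hC.reps
  simp only [Case.repsOk, List.all_eq_true, Bool.and_eq_true, Bool.or_eq_true, Nat.blt_eq,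
    decide_eq_true_eq, List.mem_range, Bool.not_eq_true', Bool.and_eq_false_iff] at h
  obtain ⟨⟨r1, r2⟩, hbad⟩ := h r hr
  rcases hbad with rfl | hbad
  · exact ⟨g, hg, r1, r2, hmap⟩
  obtain ⟨j, hj, hu⟩ := E.cube_tri hC hg
  exfalso
  have key : ∀ i < 180, Nat.beq (C.cat i j) (C.cat j (C.cube r.1 r.2 i)) = true := by
    intro i hi
    obtain ⟨a1, a2⟩ := E.cube_eq hC r1 r2 hmap hi
    rw [Nat.beq_eq]
    refine E.el_inj hC (hC.el_cat hi hj).1 (hC.el_cat hj a1).1 ?_
    show E.e _ = E.e _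
    rw [E.e_cat hC hi hj, E.e_cat hC hj a1, a2, hu, inv_mul_cancel_right]
  rcases hbad j hj with hb | hb
  · rw [key _ hC.i1_lt] at hb; exact Bool.noConfusion hb
  · rw [key _ hC.i2_lt] at hb; exact Bool.noConfusion hb

/-- The flag can be chosen to act on the further generator as allowed. -/
theorem exists_full : C.allowed ≠ [] ∧ ∃ g : G, E.IsFlag g ∧ E.Maps g C.good.1 C.good.2 ∧
    g * E.ι (hEl C.xw) * g⁻¹ = E.ι (hEl C.xw) := by
  obtain ⟨g, hg, g1, g2, hmap⟩ := E.exists_good hC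
  obtain ⟨hlt1, -, -, -, hw1, hw2, hx, -, -, hx1, -, -, hx2, -⟩ := hC.pts_spec
  set x := E.ι (hEl C.xw) with hxdef
  have hxa : x • E.a = E.a := E.fix_a _
  have hxc : x • E.c = E.c := (E.edge _).2 (keeps_mem hx hx1)
  have hga : g⁻¹ • E.c = E.a := inv_smul_eq_iff.2 hg.1.symm
  have hgc : g⁻¹ • E.a = E.c := inv_smul_eq_iff.2 hg.2.1.symm
  obtain ⟨y, hy⟩ := (E.range (g * x * g⁻¹)).1 (by rw [mul_smul, mul_smul, hgc, hxc, hg.2.1])
  have hyP : y ∈ setStab C.pts :=
    (E.edge y).1 (by rw [hy, mul_smul, mul_smul, hga, hxa, hg.1])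
  obtain ⟨t, ht, j, hj, rfl⟩ := (hC.decomp E.size).2 y hyP
  obtain ⟨ht1, ht2, -⟩ := hC.tws_spec ht
  set T := hEl (C.tws.getD t []) with hT
  have hcent := hC.cent
  simp only [Case.centOk, Bool.and_eq_true, Nat.blt_eq, Nat.beq_eq] at hcent
  obtain ⟨⟨⟨⟨⟨s1, s2⟩, c1⟩, c2⟩, i1⟩, i2⟩ := hcent
  have comm : ∀ s σ, s < 180 → same (C.lw s ++ C.xw) (C.xw ++ C.lw s) = true →
      C.img C.good.1 C.good.2 s = σ → σ < 180 ∧
        C.el σ * (T * C.el j) = T * C.el j * C.el σ := by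
    intro s σ hs hsame himg
    obtain ⟨a1, a2⟩ := E.e_img hC g1 g2 hmap hs
    rw [himg] at a1 a2
    refine ⟨a1, E.inj ?_⟩
    rw [map_mul E.ι (C.el σ), map_mul E.ι _ (C.el σ), hy]
    change E.e σ * (g * x * g⁻¹) = g * x * g⁻¹ * E.e σ
    have hc : x * E.e s = E.e s * x := by
      rw [hxdef, e, Case.el, ← map_mul, ← map_mul, ← hEl_append, ← hEl_append, same_eq ?_ ?_ hsame]
      · intro z hz; exact (List.mem_append.1 hz).elim ((hC.row hs).1 z) (hx z)
      · intro z hz; exact (List.mem_append.1 hz).elim (hx z) ((hC.row hs).1 z)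
    calc E.e σ * (g * x * g⁻¹) = g * (E.e s * x) * g⁻¹ := by rw [a2]; group
      _ = g * x * g⁻¹ * E.e σ := by rw [← hc, a2]; group
  obtain ⟨l1, k1⟩ := comm _ _ s1 c1 i1
  obtain ⟨l2, k2⟩ := comm _ _ s2 c2 i2
  have hfix : ∀ σ, σ < 180 → C.el σ * (T * C.el j) = T * C.el j * C.el σ →
      Nat.beq (ptsCode C.pts2 (C.tws.getD t [] ++ C.lw σ)) (ptsCode C.pts2 (C.tws.getD t [])) =
        true := by
    intro σ hσ hk
    rw [Nat.beq_eq, ← setCode_move hC.pts2_lt hC.pts_spec.2.2.1 ?_,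
      ← setCode_move hC.pts2_lt hC.pts_spec.2.2.1 ht1, hEl_append]
    · have := congrArg (fun z => move z (ptSet C.pts2)) hk
      simp only [move_mul, mem_setStab.1 (hC.el_mem hj).2, mem_setStab.1 (hC.el_mem hσ).2] at this
      rw [move_mul, ← hT]
      exact congrArg setCode this
    · intro z hz; exact (List.mem_append.1 hz).elim (ht1 z) ((hC.row hσ).1 z)
  have hrow : C.fixed.any (fun f => Nat.beq f.1 t) = true := by
    have hf := hC.fix (t / 256) (by omega)
    simp only [Case.fixRows, List.all_eq_true, List.mem_range, Bool.or_eq_true,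
      Bool.not_eq_true', Bool.and_eq_false_iff] at hf
    have hf' := hf (t % 256) (Nat.mod_lt _ (by norm_num))
    rw [Nat.div_add_mod] at hf'
    rcases hf' with (hf' | hf') | hf'
    · rw [hfix _ l1 k1] at hf'; exact Bool.noConfusion hf'
    · rw [hfix _ l2 k2] at hf'; exact Bool.noConfusion hf'
    · exact hf'
  simp only [List.any_eq_true, Nat.beq_eq] at hrow
  obtain ⟨f, hf, rfl⟩ := hrow
  have hfd := List.all_eq_true.1 hC.fixed f hf
  simp only [Case.fixedOk, Bool.and_eq_true, Nat.blt_eq, List.all_eq_true, List.mem_range] at hfd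
  obtain ⟨⟨⟨⟨⟨-, f1⟩, f2⟩, m1⟩, m2⟩, hcand⟩ := hfd
  have twist : ∀ σ σ', σ < 180 → σ' < 180 →
      same (C.tws.getD f.1 [] ++ C.lw σ) (C.lw σ' ++ C.tws.getD f.1 []) = true →
      C.el σ * (T * C.el j) = T * C.el j * C.el σ → C.cat j σ' = C.cat σ j := by
    intro σ σ' hσ hσ' hs hk
    refine hC.el_inj (hC.el_cat hj hσ').1 (hC.el_cat hσ hj).1 ?_
    rw [(hC.el_cat hj hσ').2, (hC.el_cat hσ hj).2]
    have hsw : C.el σ * T = T * C.el σ' := by
      rw [Case.el, Case.el, hT, ← hEl_append, ← hEl_append]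
      refine same_eq ?_ ?_ hs
      · intro z hz; exact (List.mem_append.1 hz).elim (ht1 z) ((hC.row hσ).1 z)
      · intro z hz; exact (List.mem_append.1 hz).elim ((hC.row hσ').1 z) (ht1 z)
    rw [← mul_assoc, hsw, mul_assoc, mul_assoc] at hk
    exact mul_left_cancel hk
  have hxp2 : hEl C.xw ∉ setStab C.pts2 := fun hm => by
    rw [mem_keeps hC.pts2_lt hx hm] at hx2
    exact Bool.noConfusion hx2
  have hk0 : Nat.beq (ptsCode C.pts2 (C.tws.getD f.1 [])) (ptsCode C.pts2 []) = false := by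
    rw [Bool.eq_false_iff]
    intro hb
    refine hxp2 ((E.fix_d hC _).1 ?_)
    have hcode := Nat.eq_of_beq_eq_true hb
    rw [← setCode_move hC.pts2_lt hC.pts_spec.2.2.1 ht1,
      ← setCode_move hC.pts2_lt hC.pts_spec.2.2.1 (w := []) (by simp), hEl_nil, move_one] at hcode
    have hsets : move T (ptSet C.pts2) = ptSet C.pts2 := by
      have h2 : (move T (ptSet C.pts2)).map Fin.valEmbedding =
          (ptSet C.pts2).map Fin.valEmbedding :=
        Finset.geomSum_injective (le_refl 2) (by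
          simp only [Finset.sum_map, Fin.valEmbedding_apply]
          exact hcode)
      exact Finset.map_injective _ h2
    have hyd : E.ι (T * C.el j) • E.d = E.d :=
      (E.fix_d hC _).2 (mul_mem hsets (hC.el_mem hj).2)
    rw [hy, mul_smul, mul_smul, inv_smul_eq_iff.2 hg.2.2.symm] at hyd
    rw [← hxdef]
    calc x • E.d = g⁻¹ • (g • (x • E.d)) := (inv_smul_smul _ _).symm
      _ = E.d := by rw [hyd]; exact inv_smul_eq_iff.2 hg.2.2.symm
  have hxo := hC.x
  simp only [Case.xOk, Bool.and_eq_true, List.all_eq_true, Nat.blt_eq, Nat.beq_eq] at hxo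
  obtain ⟨hxr, hal⟩ := hxo
  have hyw : ∀ z ∈ C.yw f.1 j, z < 6 := fun z hz =>
    (List.mem_append.1 hz).elim ((hC.row hj).1 z) (ht1 z)
  have hrels : C.xrels.all (fun u => same (expand (C.xWords f.1 j) u) []) = true := by
    simp only [List.all_eq_true]
    intro u hu
    obtain ⟨u4, usame⟩ := hxr u hu
    let A : List (List ℕ) := [C.w1, C.w2, C.xw, C.w2.reverse]
    have hA : ∀ w ∈ A, ∀ z ∈ w, z < 6 := by
      simp only [A, List.mem_cons, List.not_mem_nil, or_false]
      rintro w (rfl | rfl | rfl | rfl)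
      exacts [hw1, hw2, hx, fun z hz => hw2 z (List.mem_reverse.1 hz)]
    have hB : ∀ w ∈ C.xWords f.1 j, ∀ z ∈ w, z < 6 := by
      simp only [Case.xWords, List.mem_cons, List.not_mem_nil, or_false]
      rintro w (rfl | rfl | rfl | rfl)
      exacts [(hC.row g1).1, (hC.row g2).1, hyw, fun z hz => (hC.row g2).1 z (List.mem_reverse.1 hz)]
    have hexp : ∀ W : List (List ℕ), (∀ w ∈ W, ∀ z ∈ w, z < 6) →
        ∀ z ∈ expand W u, z < 6 := by
      intro W hW z hz
      obtain ⟨a, -, ha⟩ := List.mem_flatMap.1 hz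
      by_cases hlt : a < W.length
      · rw [List.getD_eq_getElem _ _ hlt] at ha
        exact hW _ (List.getElem_mem _) z ha
      · rw [List.getD_eq_default _ _ (by omega)] at ha
        exact absurd ha List.not_mem_nil
    have h1 : hEl (expand A u) = 1 := by
      rw [same_eq (hexp A hA) (by simp) usame, hEl_nil]
    have hwi : g * E.ι (hEl C.w1) * g⁻¹ = E.e C.good.1 := by
      rw [← hC.el_i.1]; exact hmap.1
    have hwj : g * E.ι (hEl C.w2) * g⁻¹ = E.e C.good.2 := by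
      rw [← hC.el_i.2]; exact hmap.2
    have hlet : ∀ a ∈ u, E.ι (hEl ((C.xWords f.1 j).getD a [])) =
        MulAut.conj g (E.ι (hEl (A.getD a []))) := by
      intro a ha
      rw [MulAut.conj_apply]
      rcases (by have := u4 a ha; omega : a = 0 ∨ a = 1 ∨ a = 2 ∨ a = 3) with
        rfl | rfl | rfl | rfl
      · exact hwi.symm
      · exact hwj.symm
      · show E.ι (hEl (C.lw j ++ C.tws.getD f.1 [])) = g * x * g⁻¹
        rw [hEl_append, ← hy]
        rfl
      · show E.ι (hEl (C.lw C.good.2).reverse) = g * E.ι (hEl C.w2.reverse) * g⁻¹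
        rw [hEl_reverse, hEl_reverse, map_inv, map_inv]
        change (E.e C.good.2)⁻¹ = _
        rw [← hwj]; group
    have h2 : E.ι (hEl (expand (C.xWords f.1 j) u)) = MulAut.conj g (E.ι (hEl (expand A u))) := by
      rw [hEl_expand, hEl_expand, map_act, map_act]
      refine (act_congr' hlet).trans ?_
      exact (map_act (MulAut.conj g).toMonoidHom _ u).symm
    rw [h1, map_one, map_one, ← map_one E.ι, ← hEl_nil] at h2
    have h3 : hEl (expand (C.xWords f.1 j) u) = hEl [] := E.inj h2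
    refine eqBase_of_eq realised ?_ (lt_tab (hexp _ hB)) (by simp) ?_
    · intro i hi
      have hb : base6.all (fun x => Nat.blt x 1782) = true := by decide +kernel
      simp only [List.all_eq_true, Nat.blt_eq] at hb
      exact hb i hi
    · rw [← hEl_val (hexp _ hB), ← hEl_val (w := []) (by simp), h3]
  have hall := hcand j hj
  simp only [Case.candOk, Bool.or_eq_true, Bool.not_eq_true', Bool.and_eq_false_iff] at hall
  have hallowed : C.allowed.any (fun a => Nat.beq a.1 f.1 && Nat.beq a.2.1 j) = true := by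
    rcases hall with ((hh | hh) | hh) | hh
    · rcases hh with hh | hh
      · rw [twist _ _ l1 f1 m1 k1, Nat.beq_refl] at hh; exact Bool.noConfusion hh
      · rw [twist _ _ l2 f2 m2 k2, Nat.beq_refl] at hh; exact Bool.noConfusion hh
    · rw [hk0] at hh; exact Bool.noConfusion hh
    · rw [hrels] at hh; exact Bool.noConfusion hh
    · exact hh
  simp only [List.any_eq_true, Bool.and_eq_true, Nat.beq_eq] at hallowed
  obtain ⟨al, hal', e1, e2⟩ := hallowed
  obtain ⟨⟨⟨hz, hconj⟩, z1⟩, z2⟩ := hal al hal'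
  refine ⟨List.ne_nil_of_mem hal', (E.e al.2.2)⁻¹ * g, ?_, ?_, ?_⟩
  · obtain ⟨h1, h2, h3⟩ := E.el_fix hC hz
    refine ⟨?_, ?_, ?_⟩ <;> rw [mul_smul, inv_smul_eq_iff]
    exacts [hg.1.trans h2.symm, hg.2.1.trans h1.symm, hg.2.2.trans h3.symm]
  · have key : ∀ s r, r < 180 → C.cat r al.2.2 = C.cat al.2.2 r → g * s * g⁻¹ = E.e r →
        (E.e al.2.2)⁻¹ * g * s * ((E.e al.2.2)⁻¹ * g)⁻¹ = E.e r := by
      intro s r hr hc hs
      have h2 := congrArg E.e hc
      rw [E.e_cat hC hr hz, E.e_cat hC hz hr] at h2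
      calc _ = (E.e al.2.2)⁻¹ * (g * s * g⁻¹) * E.e al.2.2 := by group
        _ = E.e r := by rw [hs, mul_assoc, ← h2, inv_mul_cancel_left]
    exact ⟨key _ _ g1 z1 hmap.1, key _ _ g2 z2 hmap.2⟩
  · have hyz : T * C.el j = C.el al.2.2 * hEl C.xw * (C.el al.2.2)⁻¹ := by
      rw [hT, Case.el, Case.el, ← hEl_append, ← hEl_reverse, ← hEl_append, ← hEl_append,
        show C.lw j ++ C.tws.getD f.1 [] = C.yw al.1 al.2.1 by rw [Case.yw, e1, e2]]
      have hlz : ∀ z ∈ C.lw al.2.2, z < 6 := (hC.row hz).1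
      rw [← List.append_assoc]
      refine same_eq (by rw [e1, e2]; exact hyw) ?_ hconj
      intro z hz'
      rcases List.mem_append.1 hz' with hz' | hz'
      · exact (List.mem_append.1 hz').elim (fun h => hlz z (List.mem_reverse.1 h)) (hx z)
      · exact hlz z hz'
    calc _ = (E.e al.2.2)⁻¹ * (g * x * g⁻¹) * E.e al.2.2 := by group
      _ = x := by rw [← hy, hyz, map_mul, map_mul, map_inv]; simp only [e, hxdef]; group

end Edge

end CfsgLib.SuzR3
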