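import Cfsg.Agent.Lib.Suz.G2Four

/-!
# The subgroup of the first six generators is G₂ over every field of four elements
-/

set_option autoImplicit false

namespace CfsgLib.SuzR3

open Cfsg.Lie CfsgLib.Suz

theorem nonempty_fld {F : Type} [Field F] [Fintype F] (hF : Fintype.card F = 4) :
    Nonempty (CfsgLib.J3.Fld F) := by
  classical
  obtain ⟨w, hw⟩ : ∃ w : F, w ∉ ({1, 0} : Finset F) := by
    by_contra h
    have h1 := Finset.card_le_card (s := (Finset.univ : Finset F))
      (t := {1, 0}) fun x _ => not_not.1 fun hx => h ⟨x, hx⟩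
    rw [Finset.card_univ, hF] at h1
    have h2 := Finset.card_le_two (a := (1 : F)) (b := 0)
    omega
  simp only [Finset.mem_insert, Finset.mem_singleton, not_or] at hw
  have h3 : w ^ 3 = 1 := by
    have := FiniteField.pow_card_sub_one_eq_one w hw.2
    rwa [hF] at this
  have h : (w - 1) * (w ^ 2 + w + 1) = 0 := by linear_combination h3
  exact ⟨(CfsgLib.J3.exists_fld hF w ((mul_eq_zero.1 h).resolve_left (sub_ne_zero.2 hw.1))).choose⟩

theorem subH_iso (F : Type) [Field F] [Fintype F] (hF : Fintype.card F = 4) :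
    Nonempty (subH ≃* chevG2.group F) := by
  have hc : Nat.card F = 4 := by rw [Nat.card_eq_fintype_card, hF]
  obtain ⟨θ, hθ, hker, -⟩ :=
    Cfsg.Agent.S1077.result (K := F) chevG2 (by simp)
  rw [Cfsg.Agent.S1078.result chevG2 (by simp)] at hker
  have hinj : Function.Injective θ := (MonoidHom.ker_eq_bot_iff _).1 hker
  let e : chevG2.SteinbergGroup F ≃* chevG2.group F := MulEquiv.ofBijective θ ⟨hinj, hθ⟩
  have hg : Nat.card (chevG2.group F) = 251596800 := by
    have h := CfsgLib.Chev.order_G2 (F := F)
    rw [hc] at h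
    norm_num at h
    exact h
  haveI : Finite (chevG2.SteinbergGroup F) := Finite.of_equiv _ e.symm.toEquiv
  obtain ⟨K⟩ := nonempty_fld hF
  have hb : Function.Bijective (G2Four.hom K).rangeRestrict := by
    refine (Nat.bijective_iff_surjective_and_card _).2 ⟨MonoidHom.rangeRestrict_surjective _, ?_⟩
    rw [Nat.card_congr e.toEquiv, hg, G2Four.range_eq, card_subH]
  exact ⟨((MulEquiv.subgroupCongr (G2Four.range_eq K)).symm.trans
    (MulEquiv.ofBijective _ hb).symm).trans e⟩

end CfsgLib.SuzR3
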