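import Cfsg.Agent.Lib.SuzRank3.Flag
import Cfsg.Agent.Lib.SuzRank3.CheckTri
import Cfsg.Agent.Lib.SuzRank3.CaseA

/-!
# The flag satisfies the relations of the Suzuki group
-/

set_option autoImplicit false
set_option maxRecDepth 100000

namespace CfsgLib.SuzR3

open CfsgLib.PresCert CfsgLib.Suz MulAction

variable {G Ω : Type*} [Group G] [MulAction G Ω] (E : Edge caseA G Ω)

/-- The seven images of the generators. -/
noncomputable def gG (g : G) (i : ℕ) : G := if i < 6 then E.ι (hgen i) else g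

theorem act_gG (g : G) {w : List ℕ} (h : ∀ z ∈ w, z < 6) : act (gG E g) w = E.ι (hEl w) := by
  rw [hEl, map_act]
  exact act_congr' fun z hz => by rw [gG, if_pos (h z hz)]

theorem gG_six (g : G) : act (gG E g) [6] = g := by
  rw [act_cons, act_nil, one_mul, gG, if_neg (by norm_num)]

/-- The data of a flag inducing the standard automorphism. -/
def IsStd (g : G) : Prop :=
  E.IsFlag g ∧ E.Maps g caseA.good.1 caseA.good.2 ∧
    g * E.ι (hEl caseA.xw) * g⁻¹ = E.ι (hEl caseA.xw)

variable {g : G} (hg : IsStd E g)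

include hg

theorem std_fact {f : List ℕ × List ℕ × List ℕ} (hf : f ∈ conjFacts) :
    (∀ z ∈ f.1, z < 6) ∧ (∀ z ∈ f.2.1, z < 6) ∧
      g * E.ι (hEl f.1) * g⁻¹ = E.ι (hEl f.2.1) := by
  have h := facts_ok
  simp only [factsOk, List.all_eq_true, Bool.and_eq_true, Nat.blt_eq] at h
  obtain ⟨⟨⟨⟨a, b⟩, u4⟩, s1⟩, s2⟩ := h f hf
  obtain ⟨-, -, -, -, hw1, hw2, hx, -⟩ := caseA_ok.pts_spec
  obtain ⟨hgood1, hgood2⟩ : caseA.good.1 < 180 ∧ caseA.good.2 < 180 := by decide +kernel
  have hlt : ∀ W : List (List ℕ), (∀ w ∈ W, ∀ z ∈ w, z < 6) → ∀ z ∈ expand W f.2.2, z < 6 := by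
    intro W hW z hz
    obtain ⟨i, -, hi⟩ := List.mem_flatMap.1 hz
    by_cases hlt : i < W.length
    · rw [List.getD_eq_getElem _ _ hlt] at hi
      exact hW _ (List.getElem_mem _) z hi
    · rw [List.getD_eq_default _ _ (by omega)] at hi
      exact absurd hi List.not_mem_nil
  have hA : ∀ w ∈ edgeLetters, ∀ z ∈ w, z < 6 := by
    simp only [edgeLetters, List.mem_cons, List.not_mem_nil, or_false]
    rintro w (rfl | rfl | rfl | rfl)
    exacts [hw1, hw2, hx, fun z hz => hw2 z (List.mem_reverse.1 hz)]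
  have hB : ∀ w ∈ edgeImages, ∀ z ∈ w, z < 6 := by
    simp only [edgeImages, List.mem_cons, List.not_mem_nil, or_false]
    rintro w (rfl | rfl | rfl | rfl)
    exacts [(caseA_ok.row hgood1).1, (caseA_ok.row hgood2).1, hx,
      fun z hz => (caseA_ok.row hgood2).1 z (List.mem_reverse.1 hz)]
  have hwi : g * E.ι (hEl caseA.w1) * g⁻¹ = E.e caseA.good.1 := by
    rw [← caseA_ok.el_i.1]; exact hg.2.1.1
  have hwj : g * E.ι (hEl caseA.w2) * g⁻¹ = E.e caseA.good.2 := by
    rw [← caseA_ok.el_i.2]; exact hg.2.1.2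
  refine ⟨ltSix_spec a, ltSix_spec b, ?_⟩
  rw [← same_eq (hlt _ hA) (ltSix_spec a) s1, ← same_eq (hlt _ hB) (ltSix_spec b) s2,
    ← MulAut.conj_apply, hEl_expand, hEl_expand, map_act, map_act]
  refine (map_act (MulAut.conj g).toMonoidHom _ _).trans (act_congr' fun i hi => ?_)
  have h4 := u4 i hi
  rcases (show i = 0 ∨ i = 1 ∨ i = 2 ∨ i = 3 by omega) with rfl | rfl | rfl | rfl
  · exact hwi
  · exact hwj
  · exact hg.2.2
  · show g * E.ι (hEl caseA.w2.reverse) * g⁻¹ = E.ι (hEl (caseA.lw caseA.good.2).reverse)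
    rw [hEl_reverse, hEl_reverse, map_inv, map_inv]
    change _ = (E.e caseA.good.2)⁻¹
    rw [← hwj]; group

theorem std_sq : g * g = 1 := by
  have hC := caseA_ok
  obtain ⟨hgood1, hgood2⟩ : caseA.good.1 < 180 ∧ caseA.good.2 < 180 := by decide +kernel
  obtain ⟨h1, h2, h3⟩ := hg.1
  obtain ⟨j, hj, e⟩ : ∃ j < 180, g * g = E.e j := by
    refine E.tri hC ?_ ?_ ?_ <;> rw [mul_smul]
    · rw [h1, h2]
    · rw [h2, h1]
    · rw [h3, h3]
  have hp := pow_ok
  simp only [powOk, Bool.and_eq_true, Nat.beq_eq, List.all_eq_true, List.mem_range, Bool.or_eq_true,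
    Bool.not_eq_true'] at hp
  obtain ⟨⟨⟨⟨-, -⟩, q1⟩, q2⟩, hz⟩ := hp
  have key : ∀ i p, i < 180 → p < 180 → g * E.e i * g⁻¹ = E.e p →
      caseA.img caseA.good.1 caseA.good.2 p = i → caseA.cat j i = caseA.cat i j := by
    intro i p hi hp hip himg
    have h := (E.e_img hC hgood1 hgood2 hg.2.1 hp).2
    rw [himg, ← hip] at h
    have h' : g * g * E.e i * (g * g)⁻¹ = E.e i := by
      rw [mul_inv_rev]; conv_rhs => rw [h]
      simp only [mul_assoc]
    rw [e, mul_inv_eq_iff_eq_mul] at h'
    refine E.el_inj hC (hC.el_cat hj hi).1 (hC.el_cat hi hj).1 ?_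
    show E.e _ = E.e _
    rw [E.e_cat hC hj hi, E.e_cat hC hi hj, h']
  have hmem : caseA.cen.any (fun z => Nat.beq z j) = true := by
    have h := caseA_cen
    simp only [Case.cenOk, List.all_eq_true, List.mem_range, Bool.or_eq_true, Bool.not_eq_true',
      Bool.and_eq_false_iff] at h
    rcases h j hj with (hh | hh) | hh
    · rw [key _ _ hC.i1_lt hgood1 hg.2.1.1 q1, Nat.beq_refl] at hh; exact Bool.noConfusion hh
    · rw [key _ _ hC.i2_lt hgood2 hg.2.1.2 q2, Nat.beq_refl] at hh; exact Bool.noConfusion hh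
    · exact hh
  simp only [List.any_eq_true, Nat.beq_eq] at hmem
  obtain ⟨z, hz', rfl⟩ := hmem
  obtain ⟨n, hn, hnz⟩ := List.getElem_of_mem hz'
  have hnd : caseA.cen.getD n 0 = z := by rw [List.getD_eq_getElem _ _ hn, hnz]
  have hx := caseA_ok.pts_spec.2.2.2.2.2.2.1
  have hcomm : hEl (caseA.lw z ++ caseA.xw) = hEl (caseA.xw ++ caseA.lw z) := by
    refine E.inj ?_
    rw [hEl_append, hEl_append, map_mul, map_mul]
    change E.ι (hEl caseA.xw) * E.e z = E.e z * E.ι (hEl caseA.xw)
    have : g * g * E.ι (hEl caseA.xw) * (g * g)⁻¹ = E.ι (hEl caseA.xw) := by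
      calc _ = g * (g * E.ι (hEl caseA.xw) * g⁻¹) * g⁻¹ := by group
        _ = _ := by rw [hg.2.2, hg.2.2]
    rw [e, mul_inv_eq_iff_eq_mul] at this
    exact this.symm
  rcases hz n hn with h0 | h0
  · subst h0
    rw [e, ← hnz]
    have : caseA.cen.getD 0 0 = 0 := by decide +kernel
    rw [List.getD_eq_getElem _ _ hn] at this
    rw [this, E.e_zero hC]
  · rw [hnd] at h0
    have h1 : same (caseA.lw z ++ caseA.xw) (caseA.xw ++ caseA.lw z) = true := by
      have hl := (caseA_ok.row hj).1
      have l1 : ∀ a ∈ caseA.lw z ++ caseA.xw, a < 6 := fun a ha =>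
        (List.mem_append.1 ha).elim (hl a) (hx a)
      have l2 : ∀ a ∈ caseA.xw ++ caseA.lw z, a < 6 := fun a ha =>
        (List.mem_append.1 ha).elim (hx a) (hl a)
      refine eqBase_of_eq realised ?_ (lt_tab l1) (lt_tab l2) ?_
      · intro i hi
        have hb : base6.all (fun x => Nat.blt x 1782) = true := by decide +kernel
        simp only [List.all_eq_true, Nat.blt_eq] at hb
        exact hb i hi
      · rw [← hEl_val l1, ← hEl_val l2, hcomm]
    rw [h1] at h0
    exact Bool.noConfusion h0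

theorem gG_sq (i : ℕ) : gG E g i * gG E g i = 1 := by
  rw [gG]
  split
  · rw [← map_mul, hEl_sq, map_one]
  · exact std_sq E hg

theorem flagRels_one : ∀ v ∈ flagRels, act (gG E g) v = 1 := by
  intro v hv
  have ginv : g⁻¹ = g := inv_eq_of_mul_eq_one_right (std_sq E hg)
  simp only [flagRels, List.mem_append, List.mem_map, List.mem_cons, List.not_mem_nil,
    or_false] at hv
  rcases hv with ⟨f, hf, rfl⟩ | rfl | rfl
  · obtain ⟨a, b, c⟩ := std_fact E hg hf
    rw [ginv] at c
    rw [act_append, act_append, act_append, gG_six, act_gG E g a,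
      act_gG E g (fun z hz => b z (List.mem_reverse.1 hz)), hEl_reverse, map_inv, ← c]
    group
  · rw [show ([6, 6] : List ℕ) = [6] ++ [6] from rfl, act_append, gG_six, std_sq E hg]
  · have h5 : ([5], [0, 5], [2, 3, 2, 1, 2, 3, 2, 1]) ∈ conjFacts := by decide +kernel
    obtain ⟨-, -, c⟩ := std_fact E hg h5
    rw [ginv] at c
    have s5 : E.ι (hEl [5]) * E.ι (hEl [5]) = 1 := by
      rw [← map_mul, hEl, act_cons, act_nil, one_mul, hEl_sq, map_one]
    have hA : E.ι (hEl [0, 5]) = E.ι (hEl [5]) * E.ι (hEl [0]) := by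
      rw [← map_mul, ← hEl_append]; rfl
    have s0 : E.ι (hEl [0]) * E.ι (hEl [0]) = 1 := by
      rw [← map_mul, hEl, act_cons, act_nil, one_mul, hEl_sq, map_one]
    have f5 : act (gG E g) [5] = E.ι (hEl [5]) := act_gG E g (by simp)
    rw [hA] at c
    set F := E.ι (hEl [5])
    set A := E.ι (hEl [0])
    calc act (gG E g) [5, 6, 5, 6, 5, 6, 5, 6]
        = (g * F * g) * F * ((g * F * g) * F) := by
          rw [show ([5, 6, 5, 6, 5, 6, 5, 6] : List ℕ) =
            [5] ++ [6] ++ [5] ++ [6] ++ [5] ++ [6] ++ [5] ++ [6] from rfl]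
          simp only [act_append, gG_six, f5, mul_assoc]
      _ = F * A * (F * F) * A * F := by rw [c]; simp only [mul_assoc]
      _ = 1 := by rw [s5, mul_one, mul_assoc F, s0, mul_one, s5]

theorem known_one {R : List (List ℕ)} (hR : ∀ v ∈ R, act (gG E g) v = 1)
    (hlt : ∀ v ∈ R, ∀ z ∈ v, z < 7) {w : List ℕ} (h : knownRel R w = true) :
    act (gG E g) w = 1 := by
  simp only [knownRel, Bool.or_eq_true, Bool.and_eq_true, List.any_eq_true, decide_eq_true_eq] at h
  rcases h with ⟨a, b⟩ | ⟨v, hv, k, -, rfl | rfl⟩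
  · rw [act_gG E g (ltSix_spec a), same_eq (ltSix_spec a) (by simp) b, hEl_nil, map_one]
  · exact act_rotate (hR v hv) k
  · refine act_rotate ?_ k
    rw [act_reverse (ng := 7) (fun i _ => gG_sq E hg i) (hlt v hv), hR v hv, inv_one]

omit hg in
theorem flagRels_lt : ∀ v ∈ flagRels, ∀ z ∈ v, z < 7 := by
  have h := tri_ok
  simp only [triOk, Bool.and_eq_true, List.all_eq_true, Nat.blt_eq] at h
  exact h.1.1.1.1.1.1.1

omit hg in
theorem cert_fix {M X : Type*} [Group M] [MulAction M X] {gen : ℕ → M} {x₀ : X} {D : Data}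
    {rels : List (List ℕ)} {goal : List ℕ} (h : triCert D rels goal = true)
    (hgoal : ∀ z ∈ goal, z < 7) (hinv : ∀ i, gen i * gen i = 1)
    (hrels : ∀ w ∈ rels, act gen w = 1) (hsub : ∀ w ∈ sC, act gen w • x₀ = x₀) :
    act gen goal • x₀ = x₀ := by
  simp only [triCert, Bool.and_eq_true, Nat.beq_eq, Nat.ble_eq] at h
  obtain ⟨⟨⟨⟨⟨⟨a, b⟩, c⟩, d⟩, e⟩, f⟩, k⟩ := h
  have V : Valid D := ⟨c, fun i hi => by
    obtain rfl : i = 0 := by omega
    exact d⟩
  exact word_fix V (hyp_of_checks (fun i _ => hinv i) hrels hsub e f) (a ▸ hgoal) k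

/-- The triangle relation. -/
theorem cyc_one : act (gG E g) cycWord = 1 := by
  have hC := caseA_ok
  obtain ⟨hgood1, hgood2⟩ : caseA.good.1 < 180 ∧ caseA.good.2 < 180 := by decide +kernel
  have ht := tri_ok
  simp only [triOk, Bool.and_eq_true, List.all_eq_true, decide_eq_true_eq] at ht
  obtain ⟨⟨⟨⟨⟨⟨⟨-, -⟩, hb1⟩, hb2⟩, hcen⟩, hbw⟩, -⟩, -⟩ := ht
  obtain ⟨j, hj, hu⟩ := E.cube_tri hC hg.1
  have hw : act (gG E g) cycWord = (g * E.ι (hEl caseA.bw)) ^ 3 := by
    rw [hbw, show cycWord = [1] ++ [6] ++ [1] ++ [6] ++ [1] ++ [6] from rfl]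
    simp only [act_append, gG_six, act_gG E g (w := [1]) (by simp), pow_succ, pow_zero, one_mul,
      mul_assoc]
  rw [hu] at hw
  have hp := pow_ok
  simp only [powOk, Bool.and_eq_true, Nat.beq_eq] at hp
  obtain ⟨⟨⟨⟨q1, q2⟩, -⟩, -⟩, -⟩ := hp
  have key : ∀ i, i < 180 → caseA.cube caseA.good.1 caseA.good.2 i = i →
      caseA.cat j i = caseA.cat i j := by
    intro i hi hc
    have h := (E.cube_eq hC hgood1 hgood2 hg.2.1 hi).2
    rw [hc, hu, eq_mul_inv_iff_mul_eq] at h
    refine E.el_inj hC (hC.el_cat hj hi).1 (hC.el_cat hi hj).1 ?_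
    show E.e _ = E.e _
    rw [E.e_cat hC hj hi, E.e_cat hC hi hj, h]
  have hmem : caseA.cen.any (fun z => Nat.beq z j) = true := by
    have h := caseA_cen
    simp only [Case.cenOk, List.all_eq_true, List.mem_range, Bool.or_eq_true, Bool.not_eq_true',
      Bool.and_eq_false_iff] at h
    rcases h j hj with (hh | hh) | hh
    · rw [key _ hC.i1_lt q1, Nat.beq_refl] at hh; exact Bool.noConfusion hh
    · rw [key _ hC.i2_lt q2, Nat.beq_refl] at hh; exact Bool.noConfusion hh
    · exact hh
  simp only [hcen, List.any_eq_true, Nat.beq_eq, List.mem_cons, List.not_mem_nil, or_false] at hmem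
  obtain ⟨z, hz, rfl⟩ := hmem
  have bad : ∀ (D : Data) (rels : List (List ℕ)), triCert D rels [6] = true →
      (∀ w ∈ rels, knownRel (flagRels ++ [cycWord ++ (caseA.lw z).reverse]) w = true) → False := by
    intro D rels hD hk
    have hl := (hC.row hj).1
    have hrev : ∀ a ∈ (caseA.lw z).reverse, a < 6 := fun a ha => hl a (List.mem_reverse.1 ha)
    have hR : ∀ v ∈ flagRels ++ [cycWord ++ (caseA.lw z).reverse],
        act (gG E g) v = 1 ∧ ∀ a ∈ v, a < 7 := by
      intro v hv
      rcases List.mem_append.1 hv with hv | hv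
      · exact ⟨flagRels_one E hg v hv, flagRels_lt v hv⟩
      · rw [List.mem_singleton.1 hv]
        refine ⟨?_, fun a ha => ?_⟩
        · rw [act_append, hw, act_gG E g hrev, hEl_reverse, map_inv]
          exact inv_mul_cancel _
        · rcases List.mem_append.1 ha with ha | ha
          · simp [cycWord] at ha; omega
          · have := hrev a ha; omega
    have hfix := cert_fix (x₀ := E.a) hD (by simp) (gG_sq E hg)
      (fun w hw' => known_one E hg (fun v hv => (hR v hv).1) (fun v hv => (hR v hv).2) (hk w hw'))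
      (fun w hw' => by
        rw [act_gG E g (fun a ha => ?_)]
        · exact E.fix_a _
        · simp only [sC, List.mem_cons, List.not_mem_nil, or_false] at hw'
          rcases hw' with rfl | rfl | rfl | rfl | rfl | rfl <;> simp at ha <;> omega)
    rw [gG_six, hg.1.1] at hfix
    exact E.a_ne_c hfix.symm
  rcases hz with rfl | rfl | rfl
  · rw [hw, E.e_zero hC]
  · exact (bad _ _ triBad1_cert hb1).elim
  · exact (bad _ _ triBad2_cert hb2).elim

/-- The relators with seven letters. -/
theorem rels_one : ∀ w ∈ suzData.rels, act (gG E g) w = 1 := by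
  have hC := caseA_ok
  have ht := tri_ok
  simp only [triOk, Bool.and_eq_true, List.all_eq_true] at ht
  obtain ⟨⟨⟨⟨⟨⟨⟨-, hgoal⟩, -⟩, -⟩, -⟩, -⟩, -⟩, hrel⟩ := ht
  have hR : ∀ v ∈ flagRels ++ [cycWord], act (gG E g) v = 1 ∧ ∀ a ∈ v, a < 7 := by
    intro v hv
    rcases List.mem_append.1 hv with hv | hv
    · exact ⟨flagRels_one E hg v hv, flagRels_lt v hv⟩
    · rw [List.mem_singleton.1 hv]
      exact ⟨cyc_one E hg, fun a ha => by simp [cycWord] at ha; omega⟩
  -- the last relator, in the product with the presented group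
  let gp : ℕ → Cfsg.Spor.Suz × G := fun i => (suzGen (if i < 6 then i else 6), gG E g i)
  let K : Subgroup (Cfsg.Spor.Suz × G) := (subH.subtype.prod E.ι).range
  have hfst : ∀ w : List ℕ, (∀ a ∈ w, a < 7) → (act gp w).1 = act suzGen w := fun w hw => by
    refine (map_act (MonoidHom.fst _ _) gp w).trans (act_congr' fun a ha => ?_)
    have := hw a ha
    show suzGen (if a < 6 then a else 6) = suzGen a
    split
    · rfl
    · rw [show a = 6 by omega]
  have hsnd : ∀ w : List ℕ, (act gp w).2 = act (gG E g) w := fun w =>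
    map_act (MonoidHom.snd _ _) gp w
  set last : List ℕ := [1, 5, 6, 1, 5, 6, 1, 5, 6, 1, 5, 6, 1, 5, 6] with hlast
  have hl7 : ∀ a ∈ last, a < 7 := fun a ha => by simp [hlast] at ha; omega
  have hK : act gp last • ((1 : Cfsg.Spor.Suz × G) : (Cfsg.Spor.Suz × G) ⧸ K) =
      ((1 : Cfsg.Spor.Suz × G) : (Cfsg.Spor.Suz × G) ⧸ K) := by
    refine cert_fix triGoal_cert hl7 (fun i => ?_) (fun w hw => ?_) fun w hw => ?_
    · refine Prod.ext ?_ (gG_sq E hg i)
      exact suzGen_sq _ (by split <;> omega)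
    · obtain ⟨hk, hs⟩ := hgoal w hw
      have hw7 : ∀ a ∈ w, a < 7 := by
        have hh : triGoalRels.all (fun w => w.all fun a => Nat.blt a 7) = true := by decide +kernel
        simp only [List.all_eq_true, Nat.blt_eq] at hh
        exact hh w hw
      refine Prod.ext ?_ ?_
      · rw [hfst w hw7]
        exact (eq_of_eqBase realised base_trivial hw7 (by simp) hs).trans (act_nil _)
      · rw [hsnd]
        exact known_one E hg (fun v hv => (hR v hv).1) (fun v hv => (hR v hv).2) hk
    · have h6 : ∀ a ∈ w, a < 6 := fun a ha => by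
        simp only [sC, List.mem_cons, List.not_mem_nil, or_false] at hw
        rcases hw with rfl | rfl | rfl | rfl | rfl | rfl <;> simp at ha <;> omega
      rw [MulAction.Quotient.smul_coe, smul_eq_mul, mul_one, QuotientGroup.eq, mul_one]
      refine inv_mem ⟨hEl w, Prod.ext ?_ ?_⟩
      · rw [hfst w fun a ha => by have := h6 a ha; omega]
        exact hEl_val h6
      · rw [hsnd, act_gG E g h6]
        rfl
  have hlast1 : act (gG E g) last = 1 := by
    rw [MulAction.Quotient.smul_coe, smul_eq_mul, mul_one, QuotientGroup.eq, mul_one,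
      inv_mem_iff] at hK
    obtain ⟨k, hk⟩ := hK
    have hone : act suzGen last = 1 := by
      have hh : same last [] = true := by decide +kernel
      exact (eq_of_eqBase realised base_trivial hl7 (by simp) hh).trans (act_nil _)
    have hk1 : (k : Cfsg.Spor.Suz) = 1 := by
      have := congrArg Prod.fst hk
      rw [hfst last hl7, hone] at this
      exact this
    have hk2 := congrArg Prod.snd hk
    rw [hsnd] at hk2
    rw [← hk2, show k = 1 from Subtype.ext hk1]
    exact map_one E.ι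
  intro w hw
  have hcov := Suz.rels_covered
  simp only [CoxData.covered, List.all_eq_true, Bool.and_eq_true, Bool.or_eq_true,
    List.contains_iff_mem, Nat.blt_eq] at hcov
  obtain ⟨hlt, hmem⟩ := hcov w hw
  have one : ∀ v ∈ Suz.relData, act (gG E g) v = 1 := by
    intro v hv
    refine known_one E hg (R := flagRels ++ [cycWord, last]) (fun u hu => ?_) (fun u hu => ?_)
      (hrel v hv)
    all_goals
      rcases List.mem_append.1 hu with hu | hu
    · exact flagRels_one E hg u hu
    · rcases List.mem_cons.1 hu with rfl | hu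
      · exact cyc_one E hg
      · rw [List.mem_singleton.1 hu]; exact hlast1
    · exact flagRels_lt u hu
    · rcases List.mem_cons.1 hu with rfl | hu
      · exact fun a ha => by simp [cycWord] at ha; omega
      · rw [List.mem_singleton.1 hu]; exact hl7
  rcases hmem with hm | hm
  · exact one w hm
  · have h2 := one w.reverse hm
    rw [act_reverse (ng := 7) (fun i _ => gG_sq E hg i) hlt, inv_eq_one] at h2
    exact h2

end CfsgLib.SuzR3
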