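import Cfsg.Agent.Lib.SuzRank3.Classify
import Cfsg.Agent.Lib.SuzRank3.Relations
import Cfsg.Agent.Lib.SuzRank3.Iso

/-!
# The Suzuki group from its rank 3 action on 1782 points
-/

set_option autoImplicit false
set_option maxRecDepth 100000

namespace CfsgLib.SuzR3

open CfsgLib.PresCert CfsgLib.Suz MulAction

variable {G Ω : Type*} [Group G] [MulAction G Ω]

theorem iso_of_edge (E : Edge caseA G Ω) : Nonempty (G ≃* Cfsg.Spor.Suz) := by
  classical
  haveI := E.finite
  obtain ⟨-, g, hg⟩ := E.exists_full caseA_ok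
  have hg' : IsStd E g := hg
  have hlift : ∀ L : List (Cfsg.Spor.Suz.Gen × Bool),
      FreeGroup.lift (fun x => gG E g (genIx x)) (FreeGroup.mk L) =
        act (gG E g) (L.map fun p => genIx p.1).reverse := by
    intro L
    induction L with
    | nil => rw [← FreeGroup.one_eq_mk, map_one]; rfl
    | cons p L ih =>
      obtain ⟨x, b⟩ := p
      rw [show FreeGroup.mk ((x, b) :: L) = FreeGroup.mk [(x, b)] * FreeGroup.mk L from rfl,
        map_mul, ih, List.map_cons, List.reverse_cons, act_append, act_cons, act_nil, one_mul]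
      congr 1
      cases b
      · have e : FreeGroup.mk [(x, false)] = (FreeGroup.of x)⁻¹ := rfl
        rw [e, map_inv, FreeGroup.lift_apply_of]
        exact inv_eq_of_mul_eq_one_right (gG_sq E hg' _)
      · exact FreeGroup.lift_apply_of
  let θ : Cfsg.Spor.Suz →* G := PresentedGroup.toGroup (f := fun x => gG E g (genIx x))
    fun r hr => by
      rw [← FreeGroup.mk_toWord (x := r), hlift]
      exact rels_one E hg' _ (List.mem_map.2 ⟨r, CoxData.relList_mem.2 hr, rfl⟩)
  have hθ6 : θ (PresentedGroup.of .g) = g := by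
    rw [PresentedGroup.toGroup.of]
    exact if_neg (show ¬ ((6 : ℕ) < 6) by norm_num)
  have hgne : g ≠ 1 := fun h => E.a_ne_c (by rw [← hg.1.1, h, one_smul])
  haveI := Suz.simple
  have hker : θ.ker = ⊥ := by
    rcases (θ.normal_ker).eq_bot_or_eq_top with h | h
    · exact h
    · refine absurd ?_ hgne
      rw [← hθ6]
      exact MonoidHom.mem_ker.1 (h ▸ Subgroup.mem_top _)
  have hinj := (MonoidHom.ker_eq_bot_iff θ).1 hker
  haveI : Finite G := Finite.of_injective (fun h : G => fun x : Ω => h • x) fun h h' e => by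
    refine inv_mul_eq_one.1 (E.faithful _ fun x => ?_)
    have ex : h • x = h' • x := congrFun e x
    rw [mul_smul, ← ex, inv_smul_smul]
  haveI : MulAction.IsPretransitive G Ω := ⟨E.trans⟩
  have hcard : Nat.card G = Nat.card Cfsg.Spor.Suz := by
    have h := Subgroup.card_mul_index (stabilizer G E.a)
    have e : Nat.card ↥(stabilizer G E.a) = 251596800 := by
      have heq : stabilizer G E.a = E.ι.range := Subgroup.ext fun x => E.range x
      rw [heq, ← Nat.card_congr (MonoidHom.ofInjective E.inj).toEquiv, card_subH]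
    rw [MulAction.index_stabilizer_of_transitive, E.card, e] at h
    rw [← h, card_suz.2]
  exact ⟨(MulEquiv.ofBijective θ ((Nat.bijective_iff_injective_and_card _).2
    ⟨hinj, hcard.symm⟩)).symm⟩

/-- Recognition from the rank 3 action. -/
theorem main (hΩ : Nat.card Ω = 1782) (hfaith : ∀ g : G, (∀ x : Ω, g • x = x) → g = 1)
    (htrans : ∀ x y : Ω, ∃ g : G, g • x = y) (a c : Ω) (ι : subH →* G) (hinj : Function.Injective ι)
    (hrange : ∀ g : G, g • a = a ↔ g ∈ ι.range)
    (horb : {x : Ω | ∃ k : subH, ι k • c = x}.ncard = 1365) :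
    Nonempty (G ≃* Cfsg.Spor.Suz) := by
  let Q : Subgroup subH := (stabilizer G c).comap ι
  have hQ : Q.index = 1365 := by
    let _ : MulAction subH Ω := MulAction.compHom _ ι
    have e : MulAction.orbit subH c = {x : Ω | ∃ k : subH, ι k • c = x} := rfl
    rw [← horb, ← e, ← MulAction.index_stabilizer]
    rfl
  obtain ⟨k, hk⟩ := classify Q hQ
  have mk : ∀ C : Case, (∀ h, h ∈ Q ↔ k * h * k⁻¹ ∈ setStab C.pts) → Nonempty (Edge C G Ω) := by
    intro C hC
    refine ⟨⟨a, ι k • c, ι, hinj, hΩ, hfaith, htrans, hrange, ?_, fun h => ?_, card_stabB_of hQ hC⟩⟩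
    · rw [← horb]
      congr 1
      ext x
      constructor
      · rintro ⟨l, rfl⟩; exact ⟨l * k, by rw [map_mul, mul_smul]⟩
      · rintro ⟨l, rfl⟩
        exact ⟨l * k⁻¹, by rw [← mul_smul, ← map_mul, inv_mul_cancel_right]⟩
    · have := hC (k⁻¹ * h * k)
      rw [show k * (k⁻¹ * h * k) * k⁻¹ = h by group] at this
      rw [← this]
      show ι h • ι k • c = ι k • c ↔ ι (k⁻¹ * h * k) • c = c
      rw [map_mul, map_mul, map_inv, mul_smul, mul_smul, inv_smul_eq_iff]
  rcases hk with hA | hB
  · obtain ⟨E⟩ := mk caseA hA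
    exact iso_of_edge E
  · obtain ⟨E⟩ := mk caseB hB
    exact absurd (show caseB.allowed = [] from rfl) (E.exists_full caseB_ok).1

end CfsgLib.SuzR3
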