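import Cfsg.Agent.Lib.SuzRank3.Tools

/-!
# The subgroup of the first six generators acting on sets of points
-/

set_option autoImplicit false
set_option maxRecDepth 100000

namespace CfsgLib.SuzR3

open CfsgLib.PresCert CfsgLib.Suz

instance : Finite Cfsg.Spor.Suz := card_suz.1

theorem gen_mem {i : ℕ} (hi : i < 6) : suzGen i ∈ subH := by
  refine Subgroup.subset_closure ⟨[i], ?_, by rw [act_cons, act_nil, one_mul]⟩
  interval_cases i <;> decide

/-- The generators of the subgroup. -/
noncomputable def hgen (i : ℕ) : subH := if h : i < 6 then ⟨suzGen i, gen_mem h⟩ else 1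

/-- The element of a word. -/
noncomputable def hEl (w : List ℕ) : subH := act hgen w

/-- The action of the subgroup on the points. -/
noncomputable def hPerm : subH →* Equiv.Perm (Fin tab.n) := phi.comp subH.subtype

theorem ltSix_spec {w : List ℕ} (h : ltSix w = true) : ∀ g ∈ w, g < 6 := by
  simpa [ltSix, List.all_eq_true, Nat.blt_eq] using h

theorem lt_tab {w : List ℕ} (h : ∀ g ∈ w, g < 6) : ∀ g ∈ w, g < tab.ng := fun g hg =>
  lt_trans (h g hg) (by show (6 : ℕ) < 7; norm_num)

theorem hEl_val {w : List ℕ} (h : ∀ g ∈ w, g < 6) : (hEl w : Cfsg.Spor.Suz) = act suzGen w := by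
  rw [hEl, ← Subgroup.coe_subtype, map_act]
  refine act_congr' fun g hg => ?_
  simp [hgen, h g hg]

theorem hEl_nil : hEl [] = 1 := act_nil _

theorem hEl_append (u v : List ℕ) : hEl (u ++ v) = hEl v * hEl u := act_append _ u v

theorem hEl_expand (W : List (List ℕ)) (p : List ℕ) :
    hEl (expand W p) = act (fun a => hEl (W.getD a [])) p := act_expand hgen W p

theorem hEl_sq : ∀ i, hgen i * hgen i = 1 := by
  intro i
  by_cases h : i < 6
  · rw [hgen, dif_pos h]
    exact Subtype.ext (suzGen_sq i (by omega))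
  · rw [hgen, dif_neg h, one_mul]

theorem hEl_reverse (w : List ℕ) : hEl w.reverse = (hEl w)⁻¹ := by
  induction w with
  | nil => simp [hEl_nil]
  | cons g w ih =>
    rw [List.reverse_cons, hEl_append, ih, show g :: w = [g] ++ w from rfl, hEl_append, mul_inv_rev,
      hEl, act_cons, act_nil, one_mul, inv_eq_of_mul_eq_one_right (hEl_sq g)]

theorem hPerm_apply {w : List ℕ} (h : ∀ g ∈ w, g < 6) (i : Fin tab.n) :
    (hPerm (hEl w) i).val = tab.walk i.val w := by
  rw [hPerm, MonoidHom.comp_apply, Subgroup.coe_subtype, hEl_val h, realised.act_apply (lt_tab h)]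

theorem same_eq {u v : List ℕ} (hu : ∀ g ∈ u, g < 6) (hv : ∀ g ∈ v, g < 6)
    (h : same u v = true) : hEl u = hEl v := by
  refine Subtype.ext ?_
  rw [hEl_val hu, hEl_val hv]
  exact eq_of_eqBase realised base_trivial (lt_tab hu) (lt_tab hv) h

theorem keyOf_eq {u v : List ℕ} (hu : ∀ g ∈ u, g < 6) (hv : ∀ g ∈ v, g < 6)
    (h : hEl u = hEl v) : keyOf u = keyOf v := by
  have hb : base6.all (fun x => Nat.blt x 1782) = true := by decide +kernel
  simp only [List.all_eq_true, Nat.blt_eq] at hb
  refine List.foldl_ext _ _ _ fun a x hx => ?_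
  have hx' : x < tab.n := hb x hx
  rw [← hPerm_apply hu ⟨x, hx'⟩, h, hPerm_apply hv]

/-- A list of points as a set. -/
def ptSet (S : List ℕ) : Finset (Fin tab.n) := Finset.univ.filter fun i => i.val ∈ S

/-- The image of a set. -/
noncomputable def move (k : subH) (T : Finset (Fin tab.n)) : Finset (Fin tab.n) :=
  T.map (hPerm k).toEmbedding

theorem move_one (T : Finset (Fin tab.n)) : move 1 T = T := by
  ext x
  simp only [move, map_one, Finset.mem_map, Equiv.toEmbedding_apply, Equiv.Perm.one_apply,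
    exists_eq_right]

theorem move_mul (k l : subH) (T : Finset (Fin tab.n)) : move (k * l) T = move k (move l T) := by
  rw [move, move, move, Finset.map_map, map_mul]
  rfl

theorem move_inv {k : subH} {T T' : Finset (Fin tab.n)} (h : move k T = T') :
    move k⁻¹ T' = T := by
  rw [← h, ← move_mul, inv_mul_cancel, move_one]

/-- The stabiliser of a set of points. -/
noncomputable def setStab (S : List ℕ) : Subgroup subH where
  carrier := {k | move k (ptSet S) = ptSet S}
  one_mem' := move_one _
  mul_mem' {a b} ha hb := by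
    show move (a * b) _ = _
    rw [move_mul, hb, ha]
  inv_mem' {a} ha := move_inv ha

theorem mem_setStab {S : List ℕ} {k : subH} :
    k ∈ setStab S ↔ move k (ptSet S) = ptSet S := Iff.rfl

/-- The number of a set. -/
def setCode (T : Finset (Fin tab.n)) : ℕ := ∑ i ∈ T, 2 ^ i.val

variable {S : List ℕ}

theorem setCode_move (hS : ∀ x ∈ S, x < 1782) (hnd : S.Nodup) {w : List ℕ}
    (hw : ∀ g ∈ w, g < 6) : setCode (move (hEl w) (ptSet S)) = ptsCode S w := by
  rw [setCode, move, Finset.sum_map, ptsCode, ← List.sum_toFinset _ hnd]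
  refine Finset.sum_bij (fun i _ => i.val) ?_ (fun a _ b _ e => Fin.ext e) ?_ fun i _ => ?_
  · intro i hi
    simpa [ptSet] using hi
  · intro x hx
    have hx' : x ∈ S := List.mem_toFinset.1 hx
    exact ⟨⟨x, hS x hx'⟩, by simp [ptSet, hx'], rfl⟩
  · rw [Equiv.toEmbedding_apply, hPerm_apply hw]

theorem keeps_mem {w : List ℕ} (hw : ∀ g ∈ w, g < 6) (h : keeps S w = true) :
    hEl w ∈ setStab S := by
  simp only [keeps, List.all_eq_true, List.any_eq_true, Nat.beq_eq] at h
  rw [mem_setStab, move]
  refine Finset.eq_of_subset_of_card_le (fun y hy => ?_) (by rw [Finset.card_map])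
  obtain ⟨x, hx, rfl⟩ := Finset.mem_map.1 hy
  simp only [ptSet, Finset.mem_filter, Finset.mem_univ, true_and] at hx ⊢
  obtain ⟨z, hz, e⟩ := h x.val hx
  rw [Equiv.toEmbedding_apply, hPerm_apply hw, e]
  exact hz

theorem mem_keeps (hS : ∀ x ∈ S, x < 1782) {w : List ℕ} (hw : ∀ g ∈ w, g < 6)
    (h : hEl w ∈ setStab S) : keeps S w = true := by
  simp only [keeps, List.all_eq_true, List.any_eq_true, Nat.beq_eq]
  intro x hx
  refine ⟨_, ?_, rfl⟩
  have h1 : hPerm (hEl w) ⟨x, hS x hx⟩ ∈ move (hEl w) (ptSet S) := by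
    refine Finset.mem_map.2 ⟨⟨x, hS x hx⟩, ?_, rfl⟩
    simp [ptSet, hx]
  rw [mem_setStab.1 h] at h1
  simp only [ptSet, Finset.mem_filter, Finset.mem_univ, true_and] at h1
  rwa [hPerm_apply hw] at h1

theorem move_word (hS : ∀ x ∈ S, x < 1782) {w : List ℕ} (hw : ∀ g ∈ w, g < 6) :
    move (hEl w) (ptSet S) = ptSet (S.map fun x => tab.walk x w) := by
  ext y
  simp only [move, ptSet, Finset.mem_map, Finset.mem_filter, Finset.mem_univ, true_and,
    List.mem_map, Equiv.toEmbedding_apply]
  constructor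
  · rintro ⟨x, hx, rfl⟩
    exact ⟨x.val, hx, (hPerm_apply hw x).symm⟩
  · rintro ⟨x, hx, e⟩
    exact ⟨⟨x, hS x hx⟩, hx, Fin.ext ((hPerm_apply hw _).trans e)⟩

theorem incr_nth : ∀ {l : List ℕ}, incr l = true →
    ∀ i j, i < j → j < l.length → l.getD i 0 < l.getD j 0
  | [], _, _, _, _, hj => absurd hj (Nat.not_lt_zero _)
  | [a], _, i, j, hij, hj => by simp at hj; omega
  | a :: b :: l, h, i, j, hij, hj => by
    simp only [incr, Bool.and_eq_true, Nat.blt_eq] at h
    obtain ⟨j', rfl⟩ : ∃ j', j = j' + 1 := ⟨j - 1, by omega⟩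
    have ih := incr_nth (l := b :: l) h.2
    cases i with
    | zero =>
      rw [List.getD_cons_zero, List.getD_cons_succ]
      rcases Nat.eq_zero_or_pos j' with rfl | hp
      · rw [List.getD_cons_zero]; exact h.1
      · have h2 := ih 0 j' hp (by simp at hj ⊢; omega)
        rw [List.getD_cons_zero] at h2
        exact lt_trans h.1 h2
    | succ i =>
      rw [List.getD_cons_succ, List.getD_cons_succ]
      exact ih i j' (by omega) (by simp at hj ⊢; omega)

end CfsgLib.SuzR3
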