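import Cfsg.Agent.Lib.SuzRank3.CaseFacts

/-!
# An edge of a rank 3 group with point stabiliser G₂(4)
-/

set_option autoImplicit false
set_option maxRecDepth 100000

namespace CfsgLib.SuzR3

open CfsgLib.PresCert CfsgLib.Suz MulAction

variable {G Ω : Type*} [Group G] [MulAction G Ω]

/-- An edge `(a, c)` whose stabiliser is the subgroup of a case. -/
structure Edge (C : Case) (G Ω : Type*) [Group G] [MulAction G Ω] where
  /-- The point. -/
  a : Ω
  /-- Its neighbour. -/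
  c : Ω
  /-- The stabiliser of the point. -/
  ι : subH →* G
  inj : Function.Injective ι
  card : Nat.card Ω = 1782
  faithful : ∀ g : G, (∀ x : Ω, g • x = x) → g = 1
  trans : ∀ x y : Ω, ∃ g : G, g • x = y
  range : ∀ g : G, g • a = a ↔ g ∈ ι.range
  orbit : {x : Ω | ∃ k : subH, ι k • c = x}.ncard = 1365
  edge : ∀ k : subH, ι k • c = c ↔ k ∈ setStab C.pts
  size : Nat.card (setStab C.pts) = 184320

variable {C : Case} (E : Edge C G Ω)

/-- The opposite point. -/
noncomputable def Edge.d : Ω := E.ι (hEl C.bw) • E.c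

/-- The suborbit of the neighbour. -/
def Edge.nbrs : Set Ω := {x : Ω | ∃ k : subH, E.ι k • E.c = x}

/-- The large orbit of the edge stabiliser. -/
def Edge.big (x : Ω) : Set Ω := {y : Ω | ∃ k ∈ setStab C.pts, E.ι k • x = y}

include E in
theorem Edge.finite : Finite Ω := Nat.finite_of_card_ne_zero (by rw [E.card]; norm_num)

theorem Edge.fix_a (k : subH) : E.ι k • E.a = E.a := (E.range _).2 ⟨k, rfl⟩

theorem Edge.a_ne_c : E.a ≠ E.c := fun h => by
  have h1 : {x : Ω | ∃ k : subH, E.ι k • E.c = x} ⊆ {E.a} := by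
    rintro x ⟨k, rfl⟩
    rw [← h, E.fix_a]
    rfl
  have := Set.ncard_le_ncard h1 (Set.finite_singleton _)
  rw [E.orbit, Set.ncard_singleton] at this
  omega

theorem Edge.a_notMem : E.a ∉ E.nbrs := by
  rintro ⟨k, hk⟩
  refine E.a_ne_c ?_
  have := congrArg (fun x => (E.ι k)⁻¹ • x) hk
  simp only [inv_smul_smul] at this
  rw [this, ← map_inv, E.fix_a]

variable (hC : Ok C)

include hC

theorem Edge.fix_d (k : subH) : E.ι k • E.d = E.d ↔ k ∈ setStab C.pts2 := by
  rw [hC.mem_stab2, ← E.edge, map_mul, map_mul, map_inv, mul_smul, mul_smul, inv_smul_eq_iff]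
  rfl

theorem Edge.tri {g : G} (ha : g • E.a = E.a) (hc : g • E.c = E.c) (hd : g • E.d = E.d) :
    ∃ i < 180, g = E.ι (C.el i) := by
  obtain ⟨k, rfl⟩ := (E.range g).1 ha
  obtain ⟨i, hi, rfl⟩ := (hC.decomp E.size).1 k ⟨(E.edge k).1 hc, (E.fix_d hC k).1 hd⟩
  exact ⟨i, hi, rfl⟩

theorem Edge.el_fix {i : ℕ} (hi : i < 180) :
    E.ι (C.el i) • E.a = E.a ∧ E.ι (C.el i) • E.c = E.c ∧ E.ι (C.el i) • E.d = E.d :=
  ⟨E.fix_a _, (E.edge _).2 (hC.el_mem hi).1, (E.fix_d hC _).2 (hC.el_mem hi).2⟩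

theorem Edge.el_inj {i j : ℕ} (hi : i < 180) (hj : j < 180)
    (h : E.ι (C.el i) = E.ι (C.el j)) : i = j := hC.el_inj hi hj (E.inj h)

theorem Edge.bw_swap : E.ι (hEl C.bw) • E.d = E.c := by
  rw [Edge.d, ← mul_smul, ← map_mul, hC.bw_sq, map_one, one_smul]

omit hC in
theorem Edge.d_mem : E.d ∈ E.nbrs := ⟨_, rfl⟩

theorem Edge.big_inj {x : Ω}
    (hx : ∀ k ∈ setStab C.pts, E.ι k • x = x → k ∈ setStab C.pts2) :
    1024 ≤ (E.big x).ncard := by
  haveI := E.finite
  have hf : Function.Injective fun t : Fin 1024 =>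
      (⟨E.ι (hEl (C.tws.getD t [])) • x, _, (hC.tws_spec t.isLt).2.1, rfl⟩ : E.big x) := by
    intro t t' e
    have e1 : E.ι (hEl (C.tws.getD t [])) • x = E.ι (hEl (C.tws.getD t' [])) • x :=
      congrArg Subtype.val e
    set p := hEl (C.tws.getD t [])
    set q := hEl (C.tws.getD t' [])
    have h2 : q⁻¹ * p ∈ setStab C.pts2 := by
      refine hx _ (mul_mem (inv_mem (hC.tws_spec t'.isLt).2.1) (hC.tws_spec t.isLt).2.1) ?_
      rw [map_mul, mul_smul, e1, map_inv, inv_smul_smul]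
    refine Fin.ext (hC.tws_inj t.isLt t'.isLt ?_)
    have h3 := congrArg (fun T => move q T) (mem_setStab.1 h2)
    simp only [← move_mul, mul_inv_cancel_left] at h3
    exact h3
  have := Nat.card_le_card_of_injective _ hf
  rw [Nat.card_fin] at this
  rwa [← Nat.card_coe_set_eq]

theorem Edge.d_ne_c : E.d ≠ E.c := fun h => by
  have h1 : E.big E.d ⊆ {E.c} := by
    rintro y ⟨k, hk, rfl⟩
    rw [h, (E.edge k).2 hk]
    rfl
  have h2 := E.big_inj hC (x := E.d) fun k _ hd => (E.fix_d hC k).1 hd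
  have h3 := Set.ncard_le_ncard h1 (Set.finite_singleton _)
  rw [Set.ncard_singleton] at h3
  omega

omit hC in
/-- The suborbit is paired with itself. -/
theorem Edge.exists_swap : ∃ g : G, g • E.a = E.c ∧ g • E.c = E.a := by
  classical
  haveI := E.finite
  obtain ⟨h, hh⟩ := E.trans E.a E.c
  set a' := h⁻¹ • E.a with ha'
  have hsub : ∀ x : Ω, (MulAction.orbit (stabilizer G E.a) x) =
      {y : Ω | ∃ k : subH, E.ι k • x = y} := by
    intro x
    ext y
    constructor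
    · rintro ⟨⟨g, hg⟩, rfl⟩
      obtain ⟨k, rfl⟩ := (E.range g).1 hg
      exact ⟨k, rfl⟩
    · rintro ⟨k, rfl⟩
      exact ⟨⟨E.ι k, E.fix_a k⟩, rfl⟩
  have hcard : ∀ x : Ω, (MulAction.orbit (stabilizer G E.a) x).ncard *
      Nat.card ↥(stabilizer G E.a ⊓ stabilizer G x) = Nat.card ↥(stabilizer G E.a) := by
    intro x
    rw [← MulAction.index_stabilizer, mul_comm,
      ← Subgroup.card_mul_index (stabilizer (stabilizer G E.a) x)]
    congr 1
    refine Nat.card_congr ⟨fun g => ⟨⟨g.1, g.2.1⟩, g.2.2⟩,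
      fun g => ⟨g.1.1, ⟨g.1.2, g.2⟩⟩, fun g => rfl, fun g => rfl⟩
  have hfc : h • E.a = E.c ∧ h⁻¹ • E.c = E.a := ⟨hh, by rw [← hh, inv_smul_smul]⟩
  have hiso : Nat.card ↥(stabilizer G E.a ⊓ stabilizer G a') =
      Nat.card ↥(stabilizer G E.a ⊓ stabilizer G E.c) := by
    refine Nat.card_congr ⟨fun g => ⟨h * g.1 * h⁻¹, ?_, ?_⟩, fun g => ⟨h⁻¹ * g.1 * h, ?_, ?_⟩,
      fun g => Subtype.ext (by group), fun g => Subtype.ext (by group)⟩
    · show (h * g.1 * h⁻¹) • E.a = E.a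
      have := g.2.2
      have this' : g.1 • (h⁻¹ • E.a) = h⁻¹ • E.a := this
      rw [mul_smul, mul_smul, this', smul_inv_smul]
    · show (h * g.1 * h⁻¹) • E.c = E.c
      rw [mul_smul, mul_smul, hfc.2, mem_stabilizer_iff.1 g.2.1, hfc.1]
    · show (h⁻¹ * g.1 * h) • E.a = E.a
      rw [mul_smul, mul_smul, hh, mem_stabilizer_iff.1 g.2.2, hfc.2]
    · show (h⁻¹ * g.1 * h) • a' = a'
      rw [ha', mul_smul, mul_smul, smul_inv_smul, mem_stabilizer_iff.1 g.2.1]
  have hpos : 0 < Nat.card ↥(stabilizer G E.a ⊓ stabilizer G E.c) := by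
    haveI : Finite ↥(stabilizer G E.a) := by
      refine Finite.of_injective
        (fun g : stabilizer G E.a => fun x : Ω => (g : G) • x) fun g g' e => Subtype.ext ?_
      refine inv_mul_eq_one.1 (E.faithful _ fun x => ?_)
      have ex : (g : G) • x = (g' : G) • x := congrFun e x
      rw [mul_smul, ← ex, inv_smul_smul]
    haveI : Finite ↥(stabilizer G E.a ⊓ stabilizer G E.c) :=
      Finite.of_injective (Subgroup.inclusion inf_le_left) (Subgroup.inclusion_injective _)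
    exact Nat.card_pos
  have h1 := hcard a'
  rw [hiso, ← hcard E.c] at h1
  have h2 : (MulAction.orbit (stabilizer G E.a) a').ncard = 1365 := by
    rw [Nat.eq_of_mul_eq_mul_right hpos h1, hsub]
    exact E.orbit
  have h3 : ∃ k : subH, E.ι k • a' = E.c := by
    by_contra hne
    push Not at hne
    have hdis : Disjoint (MulAction.orbit (stabilizer G E.a) a') E.nbrs := by
      rw [hsub, Set.disjoint_left]
      rintro y ⟨k, rfl⟩ ⟨l, hl⟩
      refine hne (l⁻¹ * k) ?_
      rw [map_mul, mul_smul, ← hl, map_inv, inv_smul_smul]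
    have := Set.ncard_union_eq hdis (Set.toFinite _) (Set.toFinite _)
    rw [h2, Edge.nbrs, E.orbit] at this
    have hle := Set.ncard_le_ncard (Set.subset_univ
      (MulAction.orbit (stabilizer G E.a) a' ∪ E.nbrs)) (Set.toFinite _)
    rw [Edge.nbrs, this, Set.ncard_univ, E.card] at hle
    omega
  obtain ⟨k, hk⟩ := h3
  refine ⟨E.ι k * h⁻¹, by rw [mul_smul, ← ha', hk], ?_⟩
  rw [mul_smul, hfc.2, E.fix_a]

/-- An element swapping the edge and fixing the opposite point. -/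
theorem Edge.exists_flag :
    ∃ g : G, g • E.a = E.c ∧ g • E.c = E.a ∧ g • E.d = E.d := by
  classical
  haveI := E.finite
  obtain ⟨g, ha, hc⟩ := E.exists_swap
  suffices hmem : g • E.d ∈ E.big E.d by
    obtain ⟨k, hk, e⟩ := hmem
    refine ⟨(E.ι k)⁻¹ * g, ?_, ?_, ?_⟩
    · rw [mul_smul, ha, inv_smul_eq_iff, (E.edge k).2 hk]
    · rw [mul_smul, hc, inv_smul_eq_iff, E.fix_a]
    · rw [mul_smul, ← e, inv_smul_smul]
  have hga : g⁻¹ • E.c = E.a := by rw [inv_smul_eq_iff]; exact ha.symm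
  have hgc : g⁻¹ • E.a = E.c := by rw [inv_smul_eq_iff]; exact hc.symm
  by_contra hne
  set q := g • E.d with hq
  have hbig : 1024 ≤ (E.big q).ncard := by
    have hd : 1024 ≤ (E.big E.d).ncard := E.big_inj hC fun k _ h => (E.fix_d hC k).1 h
    refine hd.trans ?_
    have hsub : (fun y => g • y) '' E.big E.d ⊆ E.big q := by
      rintro _ ⟨_, ⟨k, hk, rfl⟩, rfl⟩
      obtain ⟨l, hl⟩ := (E.range (g * E.ι k * g⁻¹)).1
        (by rw [mul_smul, mul_smul, hgc, (E.edge k).2 hk, hc])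
      refine ⟨l, (E.edge l).1 ?_, ?_⟩
      · rw [hl, mul_smul, mul_smul, hga, E.fix_a, ha]
      · rw [hl, hq, mul_smul, mul_smul, inv_smul_smul]
    rw [← Set.ncard_image_of_injective (E.big E.d) (MulAction.injective g)]
    exact Set.ncard_le_ncard hsub (Set.toFinite _)
  have hdis : Disjoint (E.big E.d) (E.big q) := by
    rw [Set.disjoint_left]
    rintro y ⟨k, hk, rfl⟩ ⟨l, hl, e⟩
    refine hne ⟨l⁻¹ * k, mul_mem (inv_mem hl) hk, ?_⟩
    rw [map_mul, mul_smul, ← e, map_inv, inv_smul_smul]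
  have hd : 1024 ≤ (E.big E.d).ncard := E.big_inj hC fun k _ h => (E.fix_d hC k).1 h
  have hdsub : E.big E.d ⊆ E.nbrs := by
    rintro y ⟨k, hk, rfl⟩
    exact ⟨k * hEl C.bw, by rw [map_mul, mul_smul]; rfl⟩
  by_cases hqn : q ∈ E.nbrs
  · obtain ⟨k0, hk0⟩ := hqn
    have hqsub : E.big q ⊆ E.nbrs := by
      rintro y ⟨k, -, rfl⟩
      exact ⟨k * k0, by rw [map_mul, mul_smul, hk0]⟩
    have h1 := Set.ncard_le_ncard (Set.union_subset hdsub hqsub) (Set.toFinite _)
    rw [Set.ncard_union_eq hdis (Set.toFinite _) (Set.toFinite _), Edge.nbrs, E.orbit] at h1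
    omega
  · have hqd : Disjoint (E.big q) (insert E.a E.nbrs) := by
      rw [Set.disjoint_left]
      rintro y ⟨k, hk, rfl⟩ (hy | ⟨l, hl⟩)
      · refine E.d_ne_c hC ?_
        have : q = E.a := by
          rw [← inv_smul_smul (E.ι k) q, hy, ← map_inv, E.fix_a]
        rw [← inv_smul_smul g E.d, ← hq, this, hgc]
      · refine hqn ⟨k⁻¹ * l, ?_⟩
        rw [map_mul, mul_smul, hl, map_inv, inv_smul_smul]
    have h1 := Set.ncard_le_ncard (Set.subset_univ (E.big q ∪ insert E.a E.nbrs)) (Set.toFinite _)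
    rw [Set.ncard_union_eq hqd (Set.toFinite _) (Set.toFinite _), Set.ncard_univ, E.card,
      Set.ncard_insert_of_notMem E.a_notMem (Set.toFinite _), Edge.nbrs, E.orbit] at h1
    omega

end CfsgLib.SuzR3
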