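import Cfsg.Agent.Lib.Suz.Sub
import Cfsg.Agent.Lib.PresCert.Chain

/-!
# Boolean checks for the edge stabilisers of the Suzuki graph

A case is given by a set of points `S` whose stabiliser in the subgroup of the first six generators
is the candidate for the stabiliser of an edge, together with the stabiliser `L` of a triangle as a
table of 180 words and the data of a search for the automorphism induced by a flag of the edge.
-/

set_option autoImplicit false

namespace CfsgLib.SuzR3

open CfsgLib.PresCert CfsgLib.Suz

/-- The points used to tell elements apart. -/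
def base6 : List ℕ := 0 :: levelsS.map Level.base

/-- The data of a case. -/
structure Case where
  /-- The points. -/
  pts : List ℕ
  /-- The word carrying the set to an opposite one. -/
  bw : List ℕ
  /-- The first generator of the triangle stabiliser. -/
  w1 : List ℕ
  /-- The second generator. -/
  w2 : List ℕ
  /-- The further generator of the edge stabiliser. -/
  xw : List ℕ
  /-- The table of the first generator, eight bits an entry. -/
  r1 : ℕ
  /-- The table of the second generator. -/
  r2 : ℕ
  /-- Short words of the 180 elements. -/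
  lws : List (List ℕ)
  /-- The elements as words in the two generators. -/
  ews : List (List ℕ)
  /-- The keys of the elements. -/
  keys : List ℕ
  /-- The conjugates of the generators by `bw`. -/
  bp : ℕ × ℕ
  /-- Words carrying the set to all its images, in increasing order. -/
  imgs : List (List ℕ)
  /-- Words of the edge stabiliser carrying the opposite set to all its images. -/
  tws : List (List ℕ)
  /-- Relators of the triangle stabiliser. -/
  rels : List (List ℕ)
  /-- Relators in the first generator only. -/
  rels0 : List (List ℕ)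
  /-- Relators in the second generator only. -/
  rels1 : List (List ℕ)
  /-- Nontrivial words. -/
  nonrels : List (List ℕ)
  /-- Images of the generators, a conjugating element and the representative. -/
  surv : List (ℕ × ℕ × ℕ × ℕ × ℕ)
  /-- The representatives. -/
  reps : List (ℕ × ℕ)
  /-- The one compatible with a triangle. -/
  good : ℕ × ℕ
  /-- Two elements commuting with `xw`. -/
  cs : ℕ × ℕ
  /-- Their images. -/
  sg : ℕ × ℕ
  /-- The opposite sets fixed by the images, with the conjugates of the images. -/
  fixed : List (ℕ × ℕ × ℕ)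
  /-- Relators in the two generators, `xw` and the inverse of the second generator. -/
  xrels : List (List ℕ)
  /-- The possible images of `xw`, with the central element conjugating `xw` to it. -/
  allowed : List (ℕ × ℕ × ℕ)
  /-- The central elements. -/
  cen : List ℕ

variable (C : Case)

/-- An entry of the table of a generator. -/
def Case.step (i k : ℕ) : ℕ :=
  if Nat.beq k 0 then (C.r1 / 256 ^ i) % 256 else (C.r2 / 256 ^ i) % 256

/-- A walk in the table. -/
def Case.rwalk : ℕ → List ℕ → ℕ
  | i, [] => i
  | i, k :: u => Case.rwalk (C.step i k) u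

/-- The word of an element. -/
def Case.lw (i : ℕ) : List ℕ := C.lws.getD i []

/-- The word of an element in the two generators. -/
def Case.ew (i : ℕ) : List ℕ := C.ews.getD i []

/-- The first generator as an element. -/
def Case.i1 : ℕ := C.step 0 0

/-- The second generator as an element. -/
def Case.i2 : ℕ := C.step 0 1

/-- The product "first `i`, then `j`". -/
def Case.cat (i j : ℕ) : ℕ := C.rwalk i (C.ew j)

/-- The value of a word when the generators go to `p` and `q`. -/
def Case.sub (p q : ℕ) : ℕ → List ℕ → ℕ
  | i, [] => i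
  | i, k :: u => Case.sub p q (if Nat.beq k 0 then C.cat i p else C.cat i q) u

/-- The image of an element. -/
def Case.img (p q i : ℕ) : ℕ := C.sub p q 0 (C.ew i)

/-- Conjugation by the flag and then by `bw`. -/
def Case.psi (p q i : ℕ) : ℕ := C.img p q (C.img C.bp.1 C.bp.2 i)

/-- Three times. -/
def Case.cube (p q i : ℕ) : ℕ := C.psi p q (C.psi p q (C.psi p q i))

/-- The images of the points. -/
def ptsCode (S w : List ℕ) : ℕ := (S.map fun x => 2 ^ tab.walk x w).sum

/-- The images of the base as one number. -/
def keyOf (w : List ℕ) : ℕ := base6.foldl (fun acc x => acc * 2048 + tab.walk x w) 0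

/-- Words that act alike on the base. -/
def same (u v : List ℕ) : Bool := eqBase tab levelsS u v

/-- The word in the letters of the subgroup. -/
def ltSix (w : List ℕ) : Bool := w.all fun g => Nat.blt g 6

/-- The opposite points. -/
def Case.pts2 : List ℕ := C.pts.map fun x => tab.walk x C.bw

/-- A word keeps a set of points. -/
def keeps (S w : List ℕ) : Bool := S.all fun x => S.any fun y => Nat.beq (tab.walk x w) y

/-- An increasing list. -/
def incr : List ℕ → Bool
  | a :: b :: l => Nat.blt a b && incr (b :: l)
  | _ => true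

/-- The check of the sets of points and the generators. -/
def Case.ptsOk : Bool :=
  C.pts.all (fun x => Nat.blt x 1782) && decide C.pts.Nodup && decide C.pts2.Nodup &&
    ltSix C.bw && ltSix C.w1 && ltSix C.w2 && ltSix C.xw &&
    keeps C.pts C.w1 && keeps C.pts C.w2 && keeps C.pts C.xw && keeps C.pts2 C.w1 &&
    keeps C.pts2 C.w2 && !(keeps C.pts2 C.xw) &&
    same (C.bw ++ C.bw) [] && same (C.bw ++ C.w1 ++ C.bw) (C.lw C.bp.1) &&
    same (C.bw ++ C.w2 ++ C.bw) (C.lw C.bp.2) && Nat.blt C.bp.1 180 && Nat.blt C.bp.2 180

/-- The check of the images of the first set. -/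
def Case.imgsOk : Bool :=
  C.imgs.all ltSix && Nat.beq C.imgs.length 1365 &&
    incr (C.imgs.map fun w => ptsCode C.pts w)

/-- The check of the images of the opposite set. -/
def Case.twsOk : Bool :=
  C.tws.all (fun w => ltSix w && keeps C.pts w) && Nat.beq C.tws.length 1024 &&
    incr (C.tws.map fun w => ptsCode C.pts2 w)

/-- The check of the table of elements at one element. -/
def Case.rowOk (i : ℕ) : Bool :=
  ltSix (C.lw i) && (C.ew i).all (fun k => Nat.blt k 2) && Nat.beq (C.rwalk 0 (C.ew i)) i &&
    Nat.blt (C.step i 0) 180 && Nat.blt (C.step i 1) 180 &&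
    same (C.lw i ++ C.w1) (C.lw (C.step i 0)) && same (C.lw i ++ C.w2) (C.lw (C.step i 1)) &&
    Nat.beq (keyOf (C.lw i)) (C.keys.getD i 0)

/-- The check of the table of elements. -/
def Case.tableOk : Bool :=
  (List.range 180).all C.rowOk && decide (C.lw 0 = []) && decide (C.ew 0 = []) &&
    (List.range 180).all fun i => (List.range i).all fun j =>
      !(Nat.beq (C.keys.getD i 0) (C.keys.getD j 0))

/-- The images of the generators satisfy the tests. -/
def Case.pass (p q : ℕ) : Bool :=
  C.rels.all (fun u => Nat.beq (C.sub p q 0 u) 0) &&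
    C.nonrels.all (fun u => !(Nat.beq (C.sub p q 0 u) 0))

/-- The check of the tests themselves. -/
def Case.testsOk : Bool :=
  C.rels.all (fun u => Nat.beq (C.rwalk 0 u) 0 && u.all fun k => Nat.blt k 2) &&
    C.nonrels.all (fun u => !(Nat.beq (C.rwalk 0 u) 0) && u.all fun k => Nat.blt k 2) &&
    C.rels0.all (fun u => Nat.beq (C.rwalk 0 u) 0 && u.all fun k => Nat.beq k 0) &&
    C.rels1.all (fun u => Nat.beq (C.rwalk 0 u) 0 && u.all fun k => Nat.beq k 1)

/-- Every possible pair of images is listed. -/
def Case.autRows (lo len : ℕ) : Bool :=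
  (List.range len).all fun a =>
    !(C.rels0.all fun u => Nat.beq (C.sub (lo + a) 0 0 u) 0) ||
      (List.range 180).all fun q =>
        !(C.rels1.all fun u => Nat.beq (C.sub 0 q 0 u) 0) || !(C.pass (lo + a) q) ||
          C.surv.any fun s => Nat.beq s.1 (lo + a) && Nat.beq s.2.1 q

/-- The listed pairs are conjugate to the representatives. -/
def Case.survOk : Bool :=
  C.surv.all fun s =>
    Nat.blt s.2.2.1 180 && C.reps.contains (s.2.2.2.1, s.2.2.2.2) &&
      Nat.beq (C.cat s.1 s.2.2.1) (C.cat s.2.2.1 s.2.2.2.1) &&
      Nat.beq (C.cat s.2.1 s.2.2.1) (C.cat s.2.2.1 s.2.2.2.2)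

/-- Only one representative is compatible with a triangle. -/
def Case.repsOk : Bool :=
  C.reps.all fun r => Nat.blt r.1 180 && Nat.blt r.2 180 &&
    (decide (r = C.good) || (List.range 180).all fun j =>
      !(Nat.beq (C.cat C.i1 j) (C.cat j (C.cube r.1 r.2 C.i1)) &&
        Nat.beq (C.cat C.i2 j) (C.cat j (C.cube r.1 r.2 C.i2))))

/-- The check of the two elements commuting with `xw`. -/
def Case.centOk : Bool :=
  Nat.blt C.cs.1 180 && Nat.blt C.cs.2 180 &&
    same (C.lw C.cs.1 ++ C.xw) (C.xw ++ C.lw C.cs.1) &&
    same (C.lw C.cs.2 ++ C.xw) (C.xw ++ C.lw C.cs.2) &&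
    Nat.beq (C.img C.good.1 C.good.2 C.cs.1) C.sg.1 &&
    Nat.beq (C.img C.good.1 C.good.2 C.cs.2) C.sg.2

/-- The opposite sets fixed by the two images are listed. -/
def Case.fixRows (lo len : ℕ) : Bool :=
  (List.range len).all fun a =>
    let t := C.tws.getD (lo + a) []
    let c := ptsCode C.pts2 t
    !(Nat.beq (ptsCode C.pts2 (t ++ C.lw C.sg.1)) c &&
        Nat.beq (ptsCode C.pts2 (t ++ C.lw C.sg.2)) c) ||
      C.fixed.any fun f => Nat.beq f.1 (lo + a)

/-- The word of a candidate image of `xw`. -/
def Case.yw (k j : ℕ) : List ℕ := C.lw j ++ C.tws.getD k []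

/-- The words for the relators in three letters. -/
def Case.xWords (k j : ℕ) : List (List ℕ) :=
  [C.lw C.good.1, C.lw C.good.2, C.yw k j, (C.lw C.good.2).reverse]

/-- The check of one candidate. -/
def Case.candOk (f : ℕ × ℕ × ℕ) (j : ℕ) : Bool :=
  !(Nat.beq (C.cat j f.2.1) (C.cat C.sg.1 j) && Nat.beq (C.cat j f.2.2) (C.cat C.sg.2 j)) ||
    Nat.beq (ptsCode C.pts2 (C.tws.getD f.1 [])) (ptsCode C.pts2 []) ||
    !(C.xrels.all fun u => same (expand (C.xWords f.1 j) u) []) ||
    C.allowed.any fun a => Nat.beq a.1 f.1 && Nat.beq a.2.1 j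

/-- The check of the candidates over one fixed set. -/
def Case.fixedOk (f : ℕ × ℕ × ℕ) : Bool :=
  Nat.blt f.1 1024 && Nat.blt f.2.1 180 && Nat.blt f.2.2 180 &&
    same (C.tws.getD f.1 [] ++ C.lw C.sg.1) (C.lw f.2.1 ++ C.tws.getD f.1 []) &&
    same (C.tws.getD f.1 [] ++ C.lw C.sg.2) (C.lw f.2.2 ++ C.tws.getD f.1 []) &&
    (List.range 180).all (C.candOk f)

/-- The check of the relators in three letters and of the allowed images. -/
def Case.xOk : Bool :=
  C.xrels.all (fun u => u.all (fun k => Nat.blt k 4) &&
      same (expand [C.w1, C.w2, C.xw, C.w2.reverse] u) []) &&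
    C.allowed.all fun a => Nat.blt a.2.2 180 &&
      same (C.yw a.1 a.2.1) ((C.lw a.2.2).reverse ++ C.xw ++ C.lw a.2.2) &&
      Nat.beq (C.cat C.good.1 a.2.2) (C.cat a.2.2 C.good.1) &&
      Nat.beq (C.cat C.good.2 a.2.2) (C.cat a.2.2 C.good.2)

/-- The central elements are listed. -/
def Case.cenOk : Bool :=
  (List.range 180).all fun j =>
    !(Nat.beq (C.cat j C.i1) (C.cat C.i1 j) && Nat.beq (C.cat j C.i2) (C.cat C.i2 j)) ||
      C.cen.any fun z => Nat.beq z j

/-- All the checks. -/
structure Ok (C : Case) : Prop where
  pts : C.ptsOk = true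
  imgs : C.imgsOk = true
  tws : C.twsOk = true
  table : C.tableOk = true
  tests : C.testsOk = true
  aut : ∀ b, 60 * b < 180 → C.autRows (60 * b) 60 = true
  surv : C.survOk = true
  reps : C.repsOk = true
  cent : C.centOk = true
  fix : ∀ b, 256 * b < 1024 → C.fixRows (256 * b) 256 = true
  fixed : C.fixed.all C.fixedOk = true
  x : C.xOk = true

end CfsgLib.SuzR3
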